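import Groth.Agent.H81.FunFldSep
import Groth.Agent.Lib.FunFld.Ext
import Mathlib.FieldTheory.PurelyInseparable.PerfectClosure
import Mathlib.FieldTheory.PurelyInseparable.Exponent
/-!
# Intermediate fields of function fields
-/

set_option autoImplicit false

namespace Groth.Agent.H81.FunFldSub

open IntermediateField Polynomial Groth.Agent.Lib.FunFld Groth.Agent.Lib.FunFld.Hasse
open scoped TensorProduct

universe u v
variable {k : Type u} {K : Type v} [Field k] [Field K] [Algebra k K]

theorem finiteDimensional_over (hK : _root_.FunFld.IsFunctionField k K) (K₀ : IntermediateField k K)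
    (h₀ : ∃ x ∈ K₀, Transcendental k x) :
    FiniteDimensional K₀ K ∧ _root_.FunFld.IsFunctionField k K₀ := by
  obtain ⟨x, hx, ht⟩ := h₀
  let g : K₀ := ⟨x, hx⟩
  have := Bound.finiteDimensional_adjoin_transcendental hK ht
  have h := Ext.finrank_adjoin_map (k := k) (K := K₀) (K' := K) g
  have hpos : 0 < Module.finrank (adjoin k ({x} : Set K)) K := Module.finrank_pos
  change Module.finrank (adjoin k ({x} : Set K)) K = _ at h
  rw [h] at hpos
  refine ⟨Module.finite_of_finrank_pos (Nat.pos_of_mul_pos_left hpos), ⟨g, fun halg => ht ?_,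
    Module.finite_of_finrank_pos (Nat.pos_of_mul_pos_right hpos)⟩, fun y hy => ?_⟩
  · exact halg.algHom K₀.val
  · obtain ⟨c, hc⟩ := hK.2 y (hy.algHom K₀.val)
    exact ⟨c, Subtype.ext hc⟩

theorem isGeometric_sub (hg : _root_.FunFld.IsGeometric k K) (K₀ : IntermediateField k K) :
    _root_.FunFld.IsGeometric k K₀ := by
  intro k' _ _ hfin
  let ψ : k' ⊗[k] K₀ →ₐ[k] k' ⊗[k] K := Algebra.TensorProduct.map (AlgHom.id k k') K₀.val
  have hψ : Function.Injective ψ :=
    Module.Flat.lTensor_preserves_injective_linearMap (M := k') K₀.val.toLinearMap Subtype.val_injective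
  have hdom : IsDomain (k' ⊗[k] K) := (hg k' hfin).isDomain
  have : IsDomain (K₀ ⊗[k] k') := by
    let e := (Algebra.TensorProduct.comm k K₀ k').toRingEquiv
    exact (hψ.comp e.injective).isDomain (ψ.toRingHom.comp e.toRingHom)
  have : Module.Finite K₀ (K₀ ⊗[k] k') := inferInstance
  exact MulEquiv.isField
    (isField_of_isIntegral_of_isField' (R := K₀) (S := K₀ ⊗[k] k') (Field.toIsField K₀))
    (Algebra.TensorProduct.comm k k' K₀).toMulEquiv

theorem exists_transcendental_mem_powField {p : ℕ} [Fact p.Prime]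
    (hK : _root_.FunFld.IsFunctionField k K) :
    ∃ x ∈ FunFldSep.powField k K p, Transcendental k x := by
  obtain ⟨t, ht⟩ := Riemann.exists_transcendental hK
  exact ⟨t ^ p, subset_adjoin _ _ ⟨t, rfl⟩, ht.pow (Fact.out : p.Prime).pos⟩

theorem eq_powField {p : ℕ} [Fact p.Prime] [CharP K p] (hK : _root_.FunFld.IsFunctionField k K)
    (hg : _root_.FunFld.IsGeometric k K) (K₀ : IntermediateField k K) :
    (IsPurelyInseparable K₀ K ∧ Module.finrank K₀ K = p) ↔ K₀ = FunFldSep.powField k K p := by
  obtain ⟨x₀, hx₀⟩ := Separable.exists_isSep_of_geometric hK hg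
  have hp : p.Prime := Fact.out
  constructor
  · rintro ⟨hpi, hd⟩
    have : CharP K₀ p := (algebraMap K₀ K).charP (algebraMap K₀ K).injective p
    have : ExpChar K₀ p := .prime hp
    have : FiniteDimensional K₀ K := Module.finite_of_finrank_pos (hd ▸ hp.pos)
    have hle : FunFldSep.powField k K p ≤ K₀ := by
      refine adjoin_le_iff.2 ?_
      rintro _ ⟨y, rfl⟩
      obtain ⟨n, a, hn⟩ := (IsPurelyInseparable.minpoly_eq_X_pow_sub_C K₀ (E := K) p y)
      have hdeg : p ^ n ≤ p := by
        have h1 := minpoly.natDegree_le (A := K₀) y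
        rw [hn, natDegree_X_pow_sub_C, hd] at h1
        exact h1
      have hn1 : n ≤ 1 := by
        by_contra h
        have := Nat.pow_le_pow_right hp.pos (show 2 ≤ n by omega)
        nlinarith [hp.two_le]
      have ha : y ^ p ^ n = (a : K) := by
        have := minpoly.aeval K₀ y
        rw [hn, map_sub, map_pow, aeval_X, aeval_C, sub_eq_zero] at this
        exact this
      interval_cases n
      · simp only [pow_zero, pow_one] at ha
        rw [SetLike.mem_coe]
        change y ^ p ∈ K₀
        exact pow_mem (ha ▸ a.2) p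
      · simp only [pow_one] at ha
        change y ^ p ∈ K₀
        rw [ha]
        exact a.2
    have hE := FunFldSep.finrank_powField (p := p) hK hx₀
    have : FiniteDimensional (FunFldSep.powField k K p) K :=
      Module.finite_of_finrank_pos (by rw [hE]; exact hp.pos)
    exact (IntermediateField.eq_of_le_of_finrank_eq' hle (hE.trans hd.symm)).symm
  · rintro rfl
    refine ⟨?_, FunFldSep.finrank_powField hK hx₀⟩
    have : CharP (FunFldSep.powField k K p) p :=
      (algebraMap (FunFldSep.powField k K p) K).charP (algebraMap (FunFldSep.powField k K p) K).injective p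
    have : ExpChar (FunFldSep.powField k K p) p := .prime hp
    exact (isPurelyInseparable_iff_pow_mem _ p).2 fun z =>
      ⟨1, ⟨⟨z ^ p, subset_adjoin _ _ ⟨z, rfl⟩⟩, by rw [pow_one]; rfl⟩⟩

/-- A local parameter at a place with separable residue field is a separating element. -/
theorem D_ne_zero_of_uniformizer (hK : _root_.FunFld.IsFunctionField k K)
    (hg : _root_.FunFld.IsGeometric k K) (P : _root_.FunFld.Place k K)
    [Algebra.IsSeparable k (IsLocalRing.ResidueField P.O)] (t : K) (ht : P.1 t = WithZero.exp (-1)) :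
    KaehlerDifferential.D k K t ≠ 0 := by
  have hsep := Separable.exists_isSep_of_geometric hK hg
  have hord : P.ord t = 1 := by rw [_root_.FunFld.Place.ord, ht, WithZero.log_exp, neg_neg]
  obtain _ | ⟨p, hp, hpk⟩ := CharP.exists' k
  · have htr : Transcendental k t := fun halg => by
      obtain ⟨c, rfl⟩ := hK.2 t halg
      have hc : c ≠ 0 := by
        rintro rfl
        rw [map_zero, map_zero] at ht
        exact WithZero.exp_ne_zero ht.symm
      have h1 : P.1 (algebraMap k K c) * P.1 (algebraMap k K c⁻¹) = 1 := by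
        rw [← map_mul, ← map_mul, mul_inv_cancel₀ hc, map_one, map_one]
      have h2 : P.1 (algebraMap k K c⁻¹) ≤ 1 := P.2.1 c⁻¹
      rw [ht] at h1
      have h3 : (1 : WithZero (Multiplicative ℤ)) ≤ WithZero.exp (-1) * 1 :=
        h1.symm.le.trans (mul_le_mul' le_rfl h2)
      rw [mul_one, ← WithZero.exp_zero, WithZero.exp_le_exp] at h3
      omega
    have := Bound.finiteDimensional_adjoin_transcendental hK htr
    exact FunFldSep.D_ne_zero_of_isSep htr
      (inferInstanceAs (Algebra.IsSeparable (adjoin k ({t} : Set K)) K))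
  have : CharP K p := charP_of_injective_algebraMap (algebraMap k K).injective p
  intro h0
  have htE := (FunFldSep.mem_powField_iff (p := p) hK hsep t).2 h0
  let E := FunFldSep.powField k K p
  obtain ⟨x₀, hx₀⟩ := hsep
  have hdE : Module.finrank E K = p := FunFldSep.finrank_powField hK hx₀
  obtain ⟨hfinE, hEFF⟩ := finiteDimensional_over hK E (exists_transcendental_mem_powField hK)
  obtain ⟨R, e, he0, he⟩ := Ext.exists_place_below hEFF P
  -- the ramification index divides `p`
  have hpow : ∀ y : K, y ^ p ∈ E := fun y => subset_adjoin _ _ ⟨y, rfl⟩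
  have hordpow : ∀ (Q : _root_.FunFld.Place k K) (f : ℕ), FunFld.IsOverWith Q R f → ∀ y : K,
      (p : ℤ) * Q.ord y = f * R.ord ⟨y ^ p, hpow y⟩ := by
    intro Q f hf y
    rw [← Ext.ord_map hf]
    change _ = Q.ord (y ^ p)
    rw [_root_.FunFld.Place.ord, _root_.FunFld.Place.ord, map_pow, WithZero.log_pow, nsmul_eq_mul]
    ring
  -- uniqueness of the place above
  have huniq : ∀ Q : _root_.FunFld.Place k K, FunFld.IsOver Q R → Q = P := by
    rintro Q ⟨f, hf⟩
    refine Place.place_ext_of_le_iff fun y => ?_
    have h1 := hordpow Q f hf y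
    have h2 := hordpow P e he y
    have hpz : (0 : ℤ) < p := by exact_mod_cast hp.out.pos
    have he' : (0 : ℤ) < e := by exact_mod_cast he0
    have hf' : (0 : ℤ) < f := by exact_mod_cast Ext.pos_of_isOverWith hf
    rw [Place.val_le_one_iff, Place.val_le_one_iff]
    exact ⟨fun h => nonneg_of_mul_nonneg_right (h2 ▸ mul_nonneg he'.le
        (nonneg_of_mul_nonneg_right (h1 ▸ mul_nonneg hpz.le h) hf')) hpz,
      fun h => nonneg_of_mul_nonneg_right (h1 ▸ mul_nonneg hf'.le
        (nonneg_of_mul_nonneg_right (h2 ▸ mul_nonneg hpz.le h) he')) hpz⟩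
  obtain ⟨hfin, hsum⟩ := Ext.sum_ramIdx_mul_deg (K' := K) hEFF R
  have hset : hfin.toFinset = {P} := by
    ext Q
    rw [Set.Finite.mem_toFinset, Finset.mem_singleton]
    exact ⟨huniq Q, fun h => h ▸ ⟨e, he⟩⟩
  rw [hset, Finset.sum_singleton, Ext.ramIdx_eq he, hdE] at hsum
  -- the residue field does not grow
  have hdeg : P.deg ≤ R.deg := by
    have hRdeg := Existence.deg_pos hEFF R
    have hfinR : FiniteDimensional k (IsLocalRing.ResidueField R.O) :=
      Module.finite_of_finrank_pos hRdeg
    let ι : R.O →+* P.O := ((algebraMap E K).comp R.O.subtype).codRestrict P.O fun a => by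
      change P.1 (algebraMap E K a) ≤ 1
      rw [he]
      exact pow_le_one₀ zero_le a.2
    have : IsLocalHom ι := ⟨fun a ha => by
      by_contra hna
      have hlt : R.1 (a : E) < 1 := lt_of_le_of_ne a.2 fun h1 => hna ((R.O.valuation_eq_one_iff a).2 ((Valuation.isEquiv_valuation_valuationSubring R.1).eq_one_iff_eq_one.1 h1))
      have hlt' : P.1 (algebraMap E K a) < 1 := by rw [he]; exact pow_lt_one₀ zero_le hlt he0.ne'
      exact hlt'.ne ((Valuation.isEquiv_valuation_valuationSubring P.1).eq_one_iff_eq_one.2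
        ((P.O.valuation_eq_one_iff (ι a)).1 ha))⟩
    let φ : IsLocalRing.ResidueField R.O →+* IsLocalRing.ResidueField P.O :=
      IsLocalRing.ResidueField.map ι
    have hφc : ∀ c : k, φ (algebraMap k _ c) = algebraMap k _ c := fun c => rfl
    let φ' : IsLocalRing.ResidueField R.O →ₐ[k] IsLocalRing.ResidueField P.O :=
      { φ with commutes' := hφc }
    have : ExpChar k p := .prime hp.out
    have hFtop := adjoin_eq_adjoin_pow_expChar_of_isSeparable' k (IsLocalRing.ResidueField P.O)
      (Set.univ : Set (IsLocalRing.ResidueField P.O)) p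
    have hsurj : Function.Surjective φ' := by
      rw [← AlgHom.fieldRange_eq_top, eq_top_iff, ← adjoin_univ k (IsLocalRing.ResidueField P.O), hFtop,
        adjoin_le_iff]
      rintro _ ⟨r, -, rfl⟩
      obtain ⟨⟨y, hy⟩, rfl⟩ := IsLocalRing.residue_surjective r
      have hyR : (⟨y ^ p, hpow y⟩ : E) ∈ R.O := by
        rw [Valuation.mem_valuationSubring_iff]
        have := (he ⟨y ^ p, hpow y⟩).symm.le.trans
          (show P.1 (y ^ p) ≤ 1 by rw [map_pow]; exact pow_le_one₀ zero_le hy)
        exact (pow_le_one_iff_of_nonneg zero_le he0.ne').1 this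
      exact ⟨IsLocalRing.residue R.O ⟨_, hyR⟩, rfl⟩
    exact LinearMap.finrank_le_finrank_of_surjective (f := φ'.toLinearMap) hsurj
  have hPpos := Existence.deg_pos hK P
  have he2 : 2 ≤ e := by
    have h1 : p * P.deg ≤ e * P.deg := hsum ▸ Nat.mul_le_mul_left p hdeg
    exact hp.out.two_le.trans (Nat.le_of_mul_le_mul_right h1 hPpos)
  have h := Ext.ord_map he ⟨t, htE⟩
  change P.ord t = _ at h
  rw [hord] at h
  have : (e : ℤ) ∣ 1 := ⟨_, h⟩
  have := Int.eq_one_of_dvd_one (by omega) this
  omega

end Groth.Agent.H81.FunFldSub
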