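import Groth.Agent.Lib.FunFld.Riemann
import Mathlib.FieldTheory.IntermediateField.Adjoin.Basic
/-!
# Uniqueness of the rational subfield of index two in genus at least two
-/

set_option autoImplicit false

namespace Groth.Agent.H81.DoubleCover

open IntermediateField Groth.Agent.Lib.FunFld

universe u v
variable {k : Type u} {K : Type v} [Field k] [Field K] [Algebra k K]

theorem transcendental_of_finrank (hK : _root_.FunFld.IsFunctionField k K) {x : K}
    (hx : Module.finrank (adjoin k ({x} : Set K)) K = 2) : Transcendental k x := by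
  intro halg
  obtain ⟨c, rfl⟩ := hK.2 x halg
  rw [adjoin_simple_eq_bot_iff.2 (IntermediateField.algebraMap_mem _ c), IntermediateField.finrank_bot'] at hx
  obtain ⟨t, ht, -⟩ := hK.1
  have : FiniteDimensional k K := Module.finite_of_finrank_eq_succ hx
  exact ht (Algebra.IsAlgebraic.isAlgebraic t)

theorem adjoin_eq (hK : _root_.FunFld.IsFunctionField k K) (hg : 2 ≤ _root_.FunFld.genus k K) {x x' : K}
    (hx : Module.finrank (adjoin k ({x} : Set K)) K = 2) (hx' : Module.finrank (adjoin k ({x'} : Set K)) K = 2) :
    adjoin k ({x} : Set K) = adjoin k ({x'} : Set K) := by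
  classical
  have ht := transcendental_of_finrank hK hx
  have ht' := transcendental_of_finrank hK hx'
  let F := adjoin k ({x} : Set K)
  by_cases hmem : x' ∈ F
  · have : FiniteDimensional (adjoin k ({x'} : Set K)) K := Module.finite_of_finrank_eq_succ hx'
    exact (IntermediateField.eq_of_le_of_finrank_eq' (F := adjoin k ({x'} : Set K)) (E := F)
      (adjoin_simple_le_iff.2 hmem) (hx'.trans hx.symm)).symm
  exfalso
  obtain ⟨N, hN⟩ := Riemann.exists_bound_delta_eq hK
  let n := N.toNat
  let D : _root_.FunFld.Divisor k K := (n : ℤ) • Degree.poleDiv (k := k) x + Degree.poleDiv (k := k) x'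
  have hdeg : D.deg = 2 * (n : ℤ) + 2 := by
    rw [Degree.deg_add, Degree.deg_smul, Degree.deg_poleDiv hK ht, Degree.deg_poleDiv hK ht', hx, hx']
    push_cast; ring
  have hmemL : ∀ (i : Fin (n + 1)) (j : Fin 2), x ^ (i : ℕ) * x' ^ (j : ℕ) ∈ _root_.FunFld.L D := by
    intro i j
    rw [Degree.mem_L_iff_ord]
    refine Or.inr fun Q => ?_
    simp only [D, Finsupp.add_apply, Finsupp.smul_apply, Degree.poleDiv_apply hK, smul_eq_mul]
    rw [Place.ord_mul Q (pow_ne_zero _ (Bound.ne_zero_of_transcendental ht))
      (pow_ne_zero _ (Bound.ne_zero_of_transcendental ht')), Place.ord_pow, Place.ord_pow]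
    have hi : ((i : ℕ) : ℤ) ≤ n := by exact_mod_cast Fin.is_le i
    have hj : ((j : ℕ) : ℤ) ≤ 1 := by exact_mod_cast Fin.is_le j
    have h1 : -((n : ℤ) * max (-Q.ord x) 0) ≤ (i : ℕ) * Q.ord x := by
      rcases le_total (Q.ord x) 0 with h | h
      · rw [max_eq_left (by omega)]; nlinarith
      · rw [max_eq_right (by omega)]; nlinarith
    have h2 : -(max (-Q.ord x') 0) ≤ (j : ℕ) * Q.ord x' := by
      rcases le_total (Q.ord x') 0 with h | h
      · rw [max_eq_left (by omega)]; nlinarith
      · rw [max_eq_right (by omega)]; nlinarith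
    linarith
  let F₀ : F := ⟨x, mem_adjoin_simple_self k x⟩
  have hpow : LinearIndependent k (fun i : Fin (n + 1) => F₀ ^ (i : ℕ)) := by
    refine LinearIndependent.of_comp F.val.toLinearMap ?_
    rw [Fintype.linearIndependent_iff]
    intro c hc i
    have h0 : (∑ i : Fin (n + 1), Polynomial.monomial (i : ℕ) (c i)) = 0 := by
      by_contra h0
      refine ht ⟨_, h0, ?_⟩
      rw [map_sum]
      simpa [F₀, Polynomial.aeval_monomial, Algebra.smul_def] using hc
    have := congrArg (fun p : Polynomial k => p.coeff (i : ℕ)) h0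
    simpa [Polynomial.finsetSum_coeff, Polynomial.coeff_monomial, Fin.val_inj] using this
  have hli' : LinearIndependent F (fun j : Fin 2 => x' ^ (j : ℕ)) := by
    rw [show (fun j : Fin 2 => x' ^ (j : ℕ)) = ![1, x'] from funext fun j => by fin_cases j <;> simp,
      LinearIndependent.pair_iff]
    intro s t h
    rcases eq_or_ne t 0 with rfl | h0
    · rw [zero_smul, add_zero, Algebra.smul_def, mul_one, map_eq_zero] at h
      exact ⟨h, rfl⟩
    · exfalso
      refine hmem ?_
      have : x' = ((-s / t : F) : K) := by
        rw [Algebra.smul_def, Algebra.smul_def, mul_one] at h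
        change (s : K) + (t : K) * x' = 0 at h
        push_cast
        rw [eq_div_iff (by simpa using h0)]
        linear_combination h
      rw [this]
      exact SetLike.coe_mem _
  have hli := linearIndependent_smul hpow hli'
  let v : Fin (n + 1) × Fin 2 → _root_.FunFld.L D := fun p => ⟨_, hmemL p.1 p.2⟩
  have hv : LinearIndependent k v := LinearIndependent.of_comp (Submodule.subtype _) hli
  have := Degree.finiteDimensional_L hK D
  have hell : (2 * (n + 1) : ℕ) ≤ _root_.FunFld.ell D := by
    have := hv.fintype_card_le_finrank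
    rw [Fintype.card_prod, Fintype.card_fin, Fintype.card_fin, mul_comm] at this
    exact this
  have h := hN D (by rw [hdeg]; omega)
  simp only [Riemann.delta, hdeg] at h
  omega

end Groth.Agent.H81.DoubleCover
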