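import Groth.Agent.Lib.TensorMod.FPConv
import Groth.Agent.Lib.QCoh.Pushforward
import Groth.Agent.Lib.StalkLoc.Basic
import Groth.Prelude.Def_Mor2
import Mathlib.AlgebraicGeometry.Morphisms.FlatRank
import Mathlib.RingTheory.Finiteness.ModuleFinitePresentation
import Mathlib.RingTheory.Localization.Finiteness
import Mathlib.RingTheory.Flat.Localization

/-!
The direct image of the structure sheaf under a finite locally free morphism.
-/

universe u

open CategoryTheory CategoryTheory.Limits AlgebraicGeometry Opposite TopologicalSpace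

namespace Groth.Agent.H81.PushLocFree

open Groth.Agent.Lib Groth.Agent.Lib.TensorMod Groth.Agent.Lib.TensorMod.Dual

variable {X Y : Scheme.{u}}

/-- The direct image of the structure sheaf. -/
noncomputable abbrev push (f : X ⟶ Y) : Y.Modules :=
  (Scheme.Modules.pushforward f).obj (Coh.structureModule X)

/-- Sections of the direct image over an open are the functions on the preimage. -/
noncomputable def sectionsEquiv (f : X ⟶ Y) (V : Y.Opens) :
    letI := (f.app V).hom.toAlgebra
    Γ(X, f ⁻¹ᵁ V) ≃ₗ[Γ(Y, V)] Γ(push f, V) :=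
  letI := (f.app V).hom.toAlgebra
  { toFun := fun s => s
    invFun := fun s => s
    map_add' := fun _ _ => rfl
    map_smul' := fun _ _ => rfl }

/-- Free stalks from finite projective sections on an affine open. -/
theorem exists_free_nhd_of_projective {M : Y.Modules} [M.IsQuasicoherent] {V : Y.Opens}
    (hV : IsAffineOpen V) {y : Y} (hy : y ∈ V) [Module.Finite Γ(Y, V) Γ(M, V)]
    [Module.Projective Γ(Y, V) Γ(M, V)] :
    ∃ (W : Y.Opens) (n : ℕ), y ∈ W ∧ Nonempty (M.restrict W.ι ≅ FlatMod.freeMod (↑W) n) := by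
  let _ := StalkLoc.Basic.moduleSections M hy
  let _ := TopCat.Presheaf.algebra_section_stalk Y.presheaf (⟨y, hy⟩ : V)
  have := StalkLoc.Basic.isScalarTower_sections M hy
  have := hV.isLocalization_stalk ⟨y, hy⟩
  have := StalkLoc.Basic.isLocalizedModule_germ (M := M) hV hy
  let p := (hV.primeIdealOf ⟨y, hy⟩).asIdeal
  have : Module.Finite (Y.presheaf.stalk y) (M.presheaf.stalk y) :=
    Module.Finite.of_isLocalizedModule p.primeCompl (StalkLoc.Basic.germₗ M hy)
  have hb : IsBaseChange (Y.presheaf.stalk y) (StalkLoc.Basic.germₗ M hy) :=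
    IsLocalizedModule.isBaseChange p.primeCompl _ _
  have : Module.Flat (Y.presheaf.stalk y) (M.presheaf.stalk y) :=
    Module.Flat.isBaseChange Γ(Y, V) (Y.presheaf.stalk y) Γ(M, V) (M.presheaf.stalk y) hb
  have : Module.Free (Y.presheaf.stalk y) (M.presheaf.stalk y) := Module.free_of_flat_of_isLocalRing
  have : Module.FinitePresentation Γ(Y, V) Γ(M, V) := Module.finitePresentation_of_projective _ _
  exact FPCrit.exists_free_nhd hV hy

lemma isPullback_fromSpec (f : X ⟶ Y) [IsAffineHom f] {V : Y.Opens} (hV : IsAffineOpen V) :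
    IsPullback (hV.preimage f).fromSpec (Spec.map (f.app V)) f hV.fromSpec := by
  refine (IsOpenImmersion.isPullback _ _ _ _ ?_ (by simp [IsAffineOpen.opensRange_fromSpec])).flip
  rw [Scheme.Hom.app_eq_appLE]
  exact (IsAffineOpen.SpecMap_appLE_fromSpec f hV (hV.preimage f) le_rfl).symm

/-- Restricting to an affine open is taking `Spec` of the map of functions. -/
lemma restrict_iff (P : MorphismProperty Scheme.{u}) [P.RespectsIso] (f : X ⟶ Y) [IsAffineHom f]
    {V : Y.Opens} (hV : IsAffineOpen V) : P (f ∣_ V) ↔ P (Spec.map (f.app V)) := by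
  have h := MorphismProperty.arrow_mk_iso_iff P (morphismRestrictOpensRange f hV.fromSpec)
  rw [hV.opensRange_fromSpec] at h
  refine h.trans ?_
  rw [← MorphismProperty.cancel_left_of_respectsIso P (isPullback_fromSpec f hV).isoPullback.hom,
    (isPullback_fromSpec f hV).isoPullback_hom_snd]

/-- Finite locally free morphisms have finite locally free direct image. -/
theorem isFinLocFree_push (f : X ⟶ Y) [IsFinite f] [Flat f] [LocallyOfFinitePresentation f] :
    FlatMod.IsFinLocFree (push f) := by
  intro y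
  have := QCohInv.isQCoh_structureModule X
  have := QCoh.Pushforward.isQCoh_pushforward f (M := Coh.structureModule X)
  obtain ⟨V, hV, hy, -⟩ := exists_isAffineOpen_mem_and_subset (Opens.mem_top y)
  let _ := (f.app V).hom.toAlgebra
  have hsq := isPullback_fromSpec f hV
  have h1 : IsFinite (Spec.map (f.app V)) := MorphismProperty.of_isPullback hsq ‹IsFinite f›
  have h2 : Flat (Spec.map (f.app V)) := MorphismProperty.of_isPullback hsq ‹Flat f›
  have h3 : LocallyOfFinitePresentation (Spec.map (f.app V)) :=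
    MorphismProperty.of_isPullback hsq ‹LocallyOfFinitePresentation f›
  rw [IsFinite.SpecMap_iff] at h1
  rw [Flat.SpecMap_iff] at h2
  rw [HasRingHomProperty.Spec_iff (P := @LocallyOfFinitePresentation)] at h3
  have : Module.Finite Γ(Y, V) Γ(X, f ⁻¹ᵁ V) := h1
  have : Module.Flat Γ(Y, V) Γ(X, f ⁻¹ᵁ V) := h2
  have : Algebra.FinitePresentation Γ(Y, V) Γ(X, f ⁻¹ᵁ V) := h3
  have := Module.FinitePresentation.of_finite_of_finitePresentation Γ(Y, V) Γ(X, f ⁻¹ᵁ V)
  have : Module.Projective Γ(Y, V) Γ(X, f ⁻¹ᵁ V) := Module.Flat.projective_of_finitePresentation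
  have : Module.Finite Γ(Y, V) Γ(push f, V) := Module.Finite.equiv (sectionsEquiv f V)
  have : Module.Projective Γ(Y, V) Γ(push f, V) := Module.Projective.of_equiv (sectionsEquiv f V)
  exact exists_free_nhd_of_projective hV hy

/-- Over a small affine open the functions on the preimage form a free module. -/
theorem nonempty_basis {f : X ⟶ Y} {U V : Y.Opens} (h : V ≤ U) {n : ℕ}
    (i : (push f).restrict U.ι ≅ FlatMod.freeMod (↑U) n) :
    letI := (f.app V).hom.toAlgebra
    Nonempty (Module.Basis (Fin n) Γ(Y, V) Γ(X, f ⁻¹ᵁ V)) := by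
  obtain ⟨e, he⟩ := Basis.exists_basis_of_iso i
  let _ := (f.app V).hom.toAlgebra
  let φ : (Fin n → Γ(Y, V)) →ₗ[Γ(Y, V)] Γ(push f, V) :=
    Fintype.linearCombination Γ(Y, V) fun k => rs (push f) h (e k)
  have hφ : Function.Bijective φ := by
    have : ⇑φ = Basis.comb e h := funext fun a => by
      simp only [φ, Fintype.linearCombination_apply, Basis.comb]
    rw [this]
    exact he V h
  exact ⟨Module.Basis.ofEquivFun ((sectionsEquiv f V).trans (LinearEquiv.ofBijective φ hφ).symm)⟩

set_option backward.isDefEq.respectTransparency false in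
/-- A morphism with finite locally free direct image is finite locally free. -/
theorem isFinLocFree_of_push (f : X ⟶ Y) [IsAffineHom f] (hM : FlatMod.IsFinLocFree (push f)) :
    Mor2.IsFinLocFree f := by
  choose U n hU i using hM
  choose V hV hyV hVU using fun y => exists_isAffineOpen_mem_and_subset (hU y)
  have hcov : iSup V = ⊤ := eq_top_iff.2 fun y _ => Opens.mem_iSup.2 ⟨y, hyV y⟩
  have key : ∀ y, (f.app (V y)).hom.Finite ∧ (f.app (V y)).hom.Flat ∧
      (f.app (V y)).hom.FinitePresentation := fun y => by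
    let _ := (f.app (V y)).hom.toAlgebra
    obtain ⟨b⟩ := nonempty_basis (f := f) (show V y ≤ U y from hVU y) (i y).some
    have := Module.Finite.of_basis b
    have := Module.Free.of_basis b
    have : Module.FinitePresentation Γ(Y, V y) Γ(X, f ⁻¹ᵁ V y) :=
      Module.finitePresentation_of_projective _ _
    exact ⟨‹Module.Finite Γ(Y, V y) Γ(X, f ⁻¹ᵁ V y)›,
      inferInstanceAs (Module.Flat Γ(Y, V y) Γ(X, f ⁻¹ᵁ V y)),
      Algebra.FinitePresentation.of_finitePresentation _ _⟩
  refine ⟨(IsZariskiLocalAtTarget.iff_of_iSup_eq_top (P := (@IsFinite : MorphismProperty Scheme.{u})) V hcov).2 fun y => ?_,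
    (IsZariskiLocalAtTarget.iff_of_iSup_eq_top (P := (@Flat : MorphismProperty Scheme.{u})) V hcov).2 fun y => ?_,
    (IsZariskiLocalAtTarget.iff_of_iSup_eq_top (P := (@LocallyOfFinitePresentation : MorphismProperty Scheme.{u})) V hcov).2
      fun y => ?_⟩
  · rw [restrict_iff @IsFinite f (hV y), IsFinite.SpecMap_iff]; exact (key y).1
  · rw [restrict_iff @Flat f (hV y), Flat.SpecMap_iff]; exact (key y).2.1
  · rw [restrict_iff @LocallyOfFinitePresentation f (hV y), HasRingHomProperty.Spec_iff (P := @LocallyOfFinitePresentation)]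
    exact (key y).2.2

/-- The degree is the rank of the direct image. -/
theorem finrank_eq {f : X ⟶ Y} [IsFinite f] [Flat f] {U : Y.Opens} {n : ℕ} {y : Y} (hy : y ∈ U)
    (i : (push f).restrict U.ι ≅ FlatMod.freeMod (↑U) n) : f.finrank y = n := by
  obtain ⟨V, hV, hyV, hVU⟩ := exists_isAffineOpen_mem_and_subset hy
  let _ := (f.app V).hom.toAlgebra
  obtain ⟨b⟩ := nonempty_basis (show V ≤ U from hVU) i
  have := Module.Finite.of_basis b
  have := Module.Free.of_basis b
  let p := hV.primeIdealOf ⟨y, hyV⟩
  have : Nontrivial Γ(Y, V) := p.nontrivial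
  have hp : hV.fromSpec p = y := hV.fromSpec_primeIdealOf ⟨y, hyV⟩
  rw [← hp, ← Scheme.Hom.finrank_of_isPullback _ _ f _ (isPullback_fromSpec f hV) p,
    show f.app V = CommRingCat.ofHom (algebraMap Γ(Y, V) Γ(X, f ⁻¹ᵁ V)) from rfl,
    Scheme.Hom.finrank_SpecMap_algebraMap, Module.rankAtStalk_eq_finrank_of_free]
  simp [Module.finrank_eq_card_basis b]

end Groth.Agent.H81.PushLocFree
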