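import Mathlib.AlgebraicGeometry.Morphisms.UniversallyOpen
import Mathlib.AlgebraicGeometry.Morphisms.QuasiCompact
import Groth.Agent.Lib.GrpdQuot.Invariant

/-!
Closures of images and invariant opens.
-/

universe u

open AlgebraicGeometry CategoryTheory CategoryTheory.Limits TopologicalSpace

namespace Groth.Agent.H81.InvariantOpen

theorem closure_range_comap {B R : Type u} [CommRing B] [CommRing R] (φ : B →+* R) {x : PrimeSpectrum B}
    (hx : x ∈ closure (Set.range (PrimeSpectrum.comap φ))) :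
    ∃ y, PrimeSpectrum.comap φ y ⤳ x := by
  rw [PrimeSpectrum.closure_range_comap] at hx
  obtain ⟨p, hp, hle⟩ := Ideal.exists_minimalPrimes_le (show RingHom.ker φ ≤ x.asIdeal from hx)
  obtain ⟨q, hq, -, hqp⟩ := Ideal.exists_comap_eq_of_mem_minimalPrimes φ (I := ⊥) p (by rwa [← RingHom.ker])
  exact ⟨⟨q, hq⟩, (PrimeSpectrum.le_iff_specializes _ _).1 (show Ideal.comap φ q ≤ x.asIdeal from hqp ▸ hle)⟩

theorem exists_specializes_of_mem_closure_image {X Y : Scheme.{u}} (f : X ⟶ Y) [QuasiCompact f] {C : Set X}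
    (hC : IsClosed C) {x : Y} (hx : x ∈ closure (f '' C)) : ∃ c ∈ C, f c ⤳ x := by
  obtain ⟨A, hA, hxA, -⟩ := exists_isAffineOpen_mem_and_subset (show x ∈ (⊤ : Y.Opens) from trivial)
  have : CompactSpace ↥(f ⁻¹ᵁ A) := isCompact_iff_compactSpace.1 (f.isCompact_preimage hA.isCompact)
  obtain ⟨R, g, hg⟩ := (compactSpace_iff_exists (X := (f ⁻¹ᵁ A).toScheme)).1 this
  have : IsAffine A.toScheme := hA
  let ψ : Spec R ⟶ Spec Γ(A.toScheme, ⊤) := g ≫ (f ∣_ A) ≫ A.toScheme.isoSpec.hom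
  obtain ⟨φ, hφ⟩ := Spec.homEquiv.symm.surjective ψ
  let e : Spec Γ(A.toScheme, ⊤) ⟶ Y := A.toScheme.isoSpec.inv ≫ A.ι
  have hcomp : ∀ z, e (ψ z) = f ((f ⁻¹ᵁ A).ι (g z)) := fun z => by
    simp only [← Scheme.Hom.comp_apply]
    congr 1
    simp [e, ψ]
  have hC' : IsClosed ((g ≫ (f ⁻¹ᵁ A).ι) ⁻¹' C) := hC.preimage (g ≫ (f ⁻¹ᵁ A).ι).continuous
  obtain ⟨I, hI⟩ := (PrimeSpectrum.isClosed_iff_zeroLocus_ideal _).1 hC'
  obtain ⟨x', hx'⟩ : ∃ x', e x' = x := ⟨A.toScheme.isoSpec.hom ⟨x, hxA⟩, by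
    have : A.toScheme.isoSpec.hom ≫ e = A.ι := by simp [e]
    exact congrArg (fun k => k ⟨x, hxA⟩) this⟩
  have hsub : e ⁻¹' (f '' C) ⊆ Set.range (PrimeSpectrum.comap ((Ideal.Quotient.mk I).comp φ.hom)) := by
    rintro z ⟨c, hc, hz⟩
    have hcA : c ∈ f ⁻¹ᵁ A := by
      change f c ∈ A
      rw [hz, Scheme.Hom.comp_apply]
      exact (A.toScheme.isoSpec.inv z).2
    obtain ⟨w, hw⟩ := hg ⟨c, hcA⟩
    have hwC : w ∈ PrimeSpectrum.zeroLocus (I : Set R) := by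
      rw [← hI]
      change (g ≫ (f ⁻¹ᵁ A).ι) w ∈ C
      rw [Scheme.Hom.comp_apply, hw]
      exact hc
    obtain ⟨v, hv⟩ : w ∈ Set.range (PrimeSpectrum.comap (Ideal.Quotient.mk I)) := by
      rw [range_comap_of_surjective _ _ Ideal.Quotient.mk_surjective, Ideal.mk_ker]
      exact hwC
    refine ⟨v, e.isOpenEmbedding.injective ?_⟩
    rw [PrimeSpectrum.comap_comp, Function.comp_apply, hv, ← hz]
    have : PrimeSpectrum.comap φ.hom w = ψ w := by rw [← hφ]; rfl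
    rw [this, hcomp, hw]
    rfl
  obtain ⟨y, hy⟩ := closure_range_comap _ (closure_mono hsub ((e.isOpenEmbedding.isOpenMap.preimage_closure_eq_closure_preimage
    e.continuous _).le (show x' ∈ e ⁻¹' closure (f '' C) by rw [Set.mem_preimage, hx']; exact hx)))
  refine ⟨(g ≫ (f ⁻¹ᵁ A).ι) (PrimeSpectrum.comap (Ideal.Quotient.mk I) y), ?_, ?_⟩
  · have : PrimeSpectrum.comap (Ideal.Quotient.mk I) y ∈ PrimeSpectrum.zeroLocus (I : Set R) := by
      intro a ha
      change Ideal.Quotient.mk I a ∈ y.asIdeal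
      rw [Ideal.Quotient.eq_zero_iff_mem.2 ha]
      exact y.asIdeal.zero_mem
    rw [← hI] at this
    exact this
  · change f ((f ⁻¹ᵁ A).ι (g (PrimeSpectrum.comap (Ideal.Quotient.mk I) y))) ⤳ x
    refine (specializes_of_eq (hcomp (PrimeSpectrum.comap (Ideal.Quotient.mk I) y)).symm).trans ?_
    rw [← hx']
    refine Specializes.map ?_ e.continuous
    have : ψ (PrimeSpectrum.comap (Ideal.Quotient.mk I) y) =
        PrimeSpectrum.comap ((Ideal.Quotient.mk I).comp φ.hom) y := by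
      rw [← hφ]; rfl
    rw [this]
    exact hy

variable {S : Scheme.{u}} (G : Grpd.GroupoidScheme S) [QuasiCompact G.s] [Flat G.s] [QuasiCompact G.t] [Flat G.t]

/-- The saturation of a quasi-compact open. -/
def sat (W : G.U.Opens) : Set G.U := G.t '' (G.s ⁻¹' (W : Set G.U))

theorem isCompact_sat {W : G.U.Opens} (hW : IsCompact (W : Set G.U)) : IsCompact (sat G W) :=
  (G.s.isCompact_preimage hW).image G.t.continuous

theorem stableUnderGeneralization_sat (W : G.U.Opens) : StableUnderGeneralization (sat G W) :=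
  (W.2.preimage G.s.continuous).stableUnderGeneralization.image (Flat.generalizingMap G.t)

theorem subset_sat (W : G.U.Opens) : (W : Set G.U) ⊆ sat G W := fun x hx =>
  ⟨G.e x, by change G.s (G.e x) ∈ W; rw [Groth.Agent.Lib.GrpdQuot.s_e_apply]; exact hx,
    Groth.Agent.Lib.GrpdQuot.t_e_apply G x⟩

/-- A point outside a quasi-compact generalization stable set is avoided by a quasi-compact open. -/
theorem exists_avoid {K : Set G.U} (hK : IsCompact K) (hg : StableUnderGeneralization K) {x : G.U} (hx : x ∉ K) :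
    ∃ V : G.U.Opens, IsCompact (V : Set G.U) ∧ K ⊆ V ∧ x ∉ V := by
  have hk : ∀ k : K, ∃ V : G.U.Opens, IsCompact (V : Set G.U) ∧ (k : G.U) ∈ V ∧ x ∉ V := by
    intro k
    have : ¬ x ⤳ (k : G.U) := fun h => hx (hg h k.2)
    obtain ⟨O, hO, hkO, hxO⟩ : ∃ O : Set G.U, IsOpen O ∧ (k : G.U) ∈ O ∧ x ∉ O := by
      rw [specializes_iff_forall_open] at this
      push Not at this
      exact this
    obtain ⟨V, hV, hkV, hVO⟩ := exists_isAffineOpen_mem_and_subset (show (k : G.U) ∈ (⟨O, hO⟩ : G.U.Opens) from hkO)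
    exact ⟨V, hV.isCompact, hkV, fun h => hxO (hVO h)⟩
  choose V hVc hkV hxV using hk
  obtain ⟨t, ht⟩ := hK.elim_finite_subcover (fun k => (V k : Set G.U)) (fun k => (V k).2)
    fun k hk => Set.mem_iUnion.2 ⟨⟨k, hk⟩, hkV ⟨k, hk⟩⟩
  refine ⟨⟨⋃ k ∈ t, (V k : Set G.U), isOpen_biUnion fun k _ => (V k).2⟩,
    t.isCompact_biUnion fun k _ => hVc k, ht, ?_⟩
  intro h
  obtain ⟨k, _, hk⟩ := Set.mem_iUnion₂.1 h
  exact hxV k hk

theorem exists_qc_superset {K : Set G.U} (hK : IsCompact K) : ∃ V : G.U.Opens, IsCompact (V : Set G.U) ∧ K ⊆ V := by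
  choose V hV hmem _ using fun k : K => exists_isAffineOpen_mem_and_subset (show (k : G.U) ∈ (⊤ : G.U.Opens) from trivial)
  obtain ⟨t, ht⟩ := hK.elim_finite_subcover (fun k => (V k : Set G.U)) (fun k => (V k).2)
    fun k hk => Set.mem_iUnion.2 ⟨⟨k, hk⟩, hmem ⟨k, hk⟩⟩
  exact ⟨⟨⋃ k ∈ t, (V k : Set G.U), isOpen_biUnion fun k _ => (V k).2⟩,
    t.isCompact_biUnion fun k _ => (hV k).isCompact, ht⟩

theorem exists_invariant_between {W : G.U.Opens} (hW : IsCompact (W : Set G.U)) :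
    ∃ V W' : G.U.Opens, G.s ⁻¹ᵁ V = G.t ⁻¹ᵁ V ∧ IsCompact (W' : Set G.U) ∧ W ≤ V ∧ V ≤ W' := by
  obtain ⟨W', hW', hsub⟩ := exists_qc_superset G (isCompact_sat G hW)
  let E : Set G.U := G.s '' (G.t ⁻¹' (W' : Set G.U)ᶜ)
  have hZ : IsClosed (G.t ⁻¹' (W' : Set G.U)ᶜ) := W'.2.isClosed_compl.preimage G.t.continuous
  have hEinv : ∀ r : G.R, G.s r ∈ E ↔ G.t r ∈ E := by
    intro r
    constructor
    · rintro ⟨r₁, hr₁, e⟩
      obtain ⟨r₂, ht₂, hs₂⟩ := Groth.Agent.Lib.GrpdQuot.exists_comp_point G r₁ (G.i r)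
        (by rw [e, Groth.Agent.Lib.GrpdQuot.t_i_apply])
      exact ⟨r₂, by rw [Set.mem_preimage, ht₂]; exact hr₁,
        by rw [hs₂, Groth.Agent.Lib.GrpdQuot.s_i_apply]⟩
    · rintro ⟨r₁, hr₁, e⟩
      obtain ⟨r₂, ht₂, hs₂⟩ := Groth.Agent.Lib.GrpdQuot.exists_comp_point G r₁ r e
      exact ⟨r₂, by rw [Set.mem_preimage, ht₂]; exact hr₁, hs₂⟩
  have hcl : ∀ r : G.R, G.s r ∈ closure E ↔ G.t r ∈ closure E := by
    intro r
    constructor <;> intro h
    · obtain ⟨c, hc, hspec⟩ := exists_specializes_of_mem_closure_image G.s hZ h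
      obtain ⟨r', hr', e⟩ := Flat.generalizingMap G.s hspec
      exact (hr'.map G.t.continuous).mem_closed isClosed_closure
        (subset_closure ((hEinv r').1 (e ▸ ⟨c, hc, rfl⟩)))
    · obtain ⟨c, hc, hspec⟩ := exists_specializes_of_mem_closure_image G.s hZ h
      obtain ⟨r', hr', e⟩ := Flat.generalizingMap G.t hspec
      exact (hr'.map G.s.continuous).mem_closed isClosed_closure
        (subset_closure ((hEinv r').2 (e ▸ ⟨c, hc, rfl⟩)))
  refine ⟨⟨(closure E)ᶜ, isClosed_closure.isOpen_compl⟩, W',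
    Opens.ext (Set.ext fun r => not_congr (hcl r)), hW', fun x hx hxE => ?_, fun x hx => ?_⟩
  · obtain ⟨y, hy, r, hr, rfl⟩ := mem_closure_iff.1 hxE (W : Set G.U) W.2 hx
    exact hr (hsub ⟨r, hy, rfl⟩)
  · by_contra hxW
    exact hx (subset_closure ⟨G.e x, by rw [Set.mem_preimage, Groth.Agent.Lib.GrpdQuot.t_e_apply]; exact hxW,
      Groth.Agent.Lib.GrpdQuot.s_e_apply G x⟩)

theorem sat_eq_iInter {W : G.U.Opens} (hW : IsCompact (W : Set G.U)) :
    ∃ (ι : Type u) (_ : Nonempty ι) (V : ι → G.U.Opens), (∀ i, IsCompact (V i : Set G.U)) ∧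
      sat G W = ⋂ i, (V i : Set G.U) := by
  obtain ⟨V₀, h₀, h₀'⟩ := exists_qc_superset G (isCompact_sat G hW)
  refine ⟨{V : G.U.Opens // IsCompact (V : Set G.U) ∧ sat G W ⊆ V}, ⟨⟨V₀, h₀, h₀'⟩⟩, fun V => V.1,
    fun V => V.2.1, Set.Subset.antisymm (Set.subset_iInter fun V => V.2.2) fun x hx => ?_⟩
  by_contra h
  obtain ⟨V, hV, hKV, hxV⟩ := exists_avoid G (isCompact_sat G hW) (stableUnderGeneralization_sat G W) h
  exact hxV (Set.mem_iInter.1 hx ⟨V, hV, hKV⟩)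

end Groth.Agent.H81.InvariantOpen
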