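import Mathlib.RingTheory.Localization.Finiteness
import Mathlib.RingTheory.Flat.Localization
import Mathlib.RingTheory.Spectrum.Prime.FreeLocus
import Mathlib.RingTheory.LocalProperties.Projective
import Mathlib.Algebra.Module.FinitePresentation

/-!
Finite projective modules from local freeness on a spanning set.
-/

namespace Groth.Agent.H81.ProjSpan

variable {R : Type*} [CommRing R] {M : Type*} [AddCommGroup M] [Module R M]

/-- A module which is finite free on a spanning set of localizations is finite projective. -/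
theorem finite_and_projective (s : Set R) (hs : Ideal.span s = ⊤)
    {Mₚ : s → Type*} [∀ g : s, AddCommGroup (Mₚ g)] [∀ g : s, Module R (Mₚ g)]
    {Rₚ : s → Type*} [∀ g : s, CommRing (Rₚ g)] [∀ g : s, Algebra R (Rₚ g)]
    [∀ g : s, IsLocalization.Away g.val (Rₚ g)]
    [∀ g : s, Module (Rₚ g) (Mₚ g)] [∀ g : s, IsScalarTower R (Rₚ g) (Mₚ g)]
    (f : ∀ g : s, M →ₗ[R] Mₚ g) [∀ g : s, IsLocalizedModule.Away g.val (f g)]
    [∀ g : s, Module.Free (Rₚ g) (Mₚ g)] [∀ g : s, Module.Finite (Rₚ g) (Mₚ g)] :
    Module.Finite R M ∧ Module.Projective R M := by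
  have hfin : Module.Finite R M := Module.Finite.of_localizationSpan' (Rₚ := Rₚ) s hs f fun g => inferInstance
  have hflat : Module.Flat R M := by
    refine Module.flat_of_isLocalized_span R M s hs Mₚ f fun g => ?_
    have : Module.Flat R (Rₚ g) := IsLocalization.flat (Rₚ g) (Submonoid.powers g.val)
    exact Module.Flat.trans R (Rₚ g) (Mₚ g)
  obtain ⟨n, φ, hφ⟩ := Module.Finite.exists_fin' R M
  have hfp : Module.FinitePresentation R M := by
    refine Module.finitePresentation_of_surjective φ hφ ?_
    let F : ∀ g : s, (Fin n → R) →ₗ[R] LocalizedModule.Away g.val (Fin n → R) := fun g =>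
      LocalizedModule.mkLinearMap (Submonoid.powers g.val) (Fin n → R)
    let L : s → Type _ := fun g => Fin n → Rₚ g
    let ι : ∀ g : s, (Fin n → R) →ₗ[R] L g := fun g =>
      LinearMap.pi fun k => (Algebra.linearMap R (Rₚ g)).comp (LinearMap.proj k)
    have : ∀ g : s, IsLocalizedModule (Submonoid.powers g.val) (ι g) := fun g => IsLocalizedModule.pi _ _
    refine Submodule.of_localizationSpan' s hs (Rₚ := Rₚ) ι fun g => ?_
    rw [LinearMap.localized'_ker_eq_ker_localizedMap (Rₚ g) (Submonoid.powers g.val) (ι g) (f g) φ]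
    have hsurj : Function.Surjective ((IsLocalizedModule.map (Submonoid.powers g.val) (ι g) (f g) φ).extendScalarsOfIsLocalization
        (Submonoid.powers g.val) (Rₚ g)) :=
      IsLocalizedModule.map_surjective (Submonoid.powers g.val) (ι g) (f g) φ hφ
    have : Module.FinitePresentation (Rₚ g) (Mₚ g) := Module.finitePresentation_of_projective _ _
    exact Module.FinitePresentation.fg_ker _ hsurj
  exact ⟨hfin, Module.freeLocus_eq_univ_iff.1 Module.freeLocus_eq_univ⟩

end Groth.Agent.H81.ProjSpan
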