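import Groth.Agent.Lib.TensorMod.Basis
import Groth.Prelude.Def_FinCov
import Mathlib.RingTheory.Trace.Basic
import Mathlib.RingTheory.Localization.NormTrace

/-!
The trace of a finite locally free algebra.
-/

universe u

open CategoryTheory CategoryTheory.Limits AlgebraicGeometry Opposite TopologicalSpace

namespace Groth.Agent.H81.FinCovTrace

open Groth.Agent.Lib Groth.Agent.Lib.TensorMod Groth.Agent.Lib.TensorMod.Dual

variable {X : Scheme.{u}} (A : RelSpec.QCAlg X)

/-- The ring of sections. -/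
abbrev ASec (V : X.Opens) : Type u := A.presheaf.obj (op V)

noncomputable instance algebraSec (V : X.Opens) : Algebra Γ(X, V) (ASec A V) :=
  (A.str.app (op V)).hom.toAlgebra

/-- Restriction. -/
noncomputable abbrev resA {U V : X.Opens} (h : V ≤ U) : ASec A U →+* ASec A V :=
  (A.presheaf.map (homOfLE h).op).hom

lemma resA_algebraMap {U V : X.Opens} (h : V ≤ U) (r : Γ(X, U)) :
    resA A h (algebraMap Γ(X, U) (ASec A U) r) = algebraMap Γ(X, V) (ASec A V) (rf h r) :=
  congr($(A.str.naturality (homOfLE h).op) r).symm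

lemma resA_resA {U V W : X.Opens} (h : V ≤ U) (h' : W ≤ V) (a : ASec A U) :
    resA A h' (resA A h a) = resA A (h'.trans h) a := by
  change (A.presheaf.map (homOfLE h).op ≫ A.presheaf.map (homOfLE h').op) a = _
  rw [← Functor.map_comp]
  rfl

lemma resA_self {U : X.Opens} (h : U ≤ U) (a : ASec A U) : resA A h a = a := by
  change A.presheaf.map (𝟙 (op U)) a = a
  rw [CategoryTheory.Functor.map_id]
  rfl

/-- An open inside a free piece. -/
def Small (V : X.Opens) : Prop :=
  ∃ (U : X.Opens) (n : ℕ) (e : Fin n → Γ(A.toModule, U)), V ≤ U ∧ Basis.IsBasis e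

lemma Small.mono {V W : X.Opens} (h : Small A V) (hW : W ≤ V) : Small A W :=
  let ⟨U, n, e, hV, he⟩ := h; ⟨U, n, e, hW.trans hV, he⟩

lemma exists_small (hA : FlatMod.IsFinLocFree A.toModule) (x : X) :
    ∃ U : X.Opens, x ∈ U ∧ Small A U := by
  obtain ⟨U, n, hx, ⟨i⟩⟩ := hA x
  obtain ⟨e, he⟩ := Basis.exists_basis_of_iso i
  exact ⟨U, hx, U, n, e, le_rfl, he⟩

/-- A basis over a smaller open. -/
lemma exists_basis {U : X.Opens} {n : ℕ} {e : Fin n → Γ(A.toModule, U)} (he : Basis.IsBasis e)
    {V : X.Opens} (h : V ≤ U) :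
    ∃ b : Module.Basis (Fin n) Γ(X, V) (ASec A V),
      ∀ a, b.equivFun.symm a = (show ASec A V from Basis.comb e h a) := by
  let φ : (Fin n → Γ(X, V)) →ₗ[Γ(X, V)] ASec A V :=
    { toFun := fun a => Basis.comb e h a
      map_add' := fun a b => by
        change Basis.comb e h (a + b) = Basis.comb e h a + Basis.comb e h b
        simp only [Basis.comb, Pi.add_apply, add_smul, Finset.sum_add_distrib]
      map_smul' := fun r a => by
        change Basis.comb e h (r • a) = r • (Basis.comb e h a : Γ(A.toModule, V))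
        simp only [Basis.comb, Pi.smul_apply, smul_eq_mul, mul_smul, Finset.smul_sum] }
  exact ⟨Module.Basis.ofEquivFun (LinearEquiv.ofBijective φ (he V h)).symm, fun a => by
    rw [Module.Basis.equivFun_ofEquivFun]; rfl⟩

lemma free_of_small {V : X.Opens} (hV : Small A V) :
    Module.Free Γ(X, V) (ASec A V) ∧ Module.Finite Γ(X, V) (ASec A V) := by
  obtain ⟨U, n, e, h, he⟩ := hV
  obtain ⟨b, -⟩ := exists_basis A he h
  exact ⟨Module.Free.of_basis b, Module.Finite.of_basis b⟩

/-- The trace. -/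
noncomputable abbrev tr (V : X.Opens) : ASec A V →ₗ[Γ(X, V)] Γ(X, V) := Algebra.trace Γ(X, V) (ASec A V)

lemma rf_tr {V W : X.Opens} (hV : Small A V) (h : W ≤ V) (a : ASec A V) :
    rf h (tr A V a) = tr A W (resA A h a) := by
  classical
  obtain ⟨U, n, e, hU, he⟩ := hV
  obtain ⟨b, hb⟩ := exists_basis A he hU
  obtain ⟨c, hc⟩ := exists_basis A he (h.trans hU)
  have key : ∀ (y : ASec A V) i, rf h (b.repr y i) = c.repr (resA A h y) i := fun y i => by
    have hy : resA A h y = c.equivFun.symm fun i => rf h (b.repr y i) := by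
      conv_lhs => rw [← b.equivFun.symm_apply_apply y, hb]
      rw [hc]
      exact Basis.rs_comb (M := A.toModule) e hU h _
    rw [hy, ← Module.Basis.equivFun_apply c, LinearEquiv.apply_symm_apply]
  have hbi : ∀ i, resA A h (b i) = c i := fun i => by
    refine c.repr.injective (Finsupp.ext fun j => ?_)
    rw [← key, Module.Basis.repr_self, Module.Basis.repr_self, Finsupp.single_apply, Finsupp.single_apply]
    split_ifs
    · exact map_one (X.presheaf.map (homOfLE h).op).hom
    · exact map_zero (X.presheaf.map (homOfLE h).op).hom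
  rw [tr, Algebra.trace_eq_matrix_trace b, Algebra.trace_eq_matrix_trace c, Matrix.trace, Matrix.trace]
  refine (map_sum (X.presheaf.map (homOfLE h).op).hom _ _).trans ?_
  refine Finset.sum_congr rfl fun i _ => ?_
  change rf h (Algebra.leftMulMatrix b a i i) = Algebra.leftMulMatrix c (resA A h a) i i
  rw [Algebra.leftMulMatrix_eq_repr_mul, Algebra.leftMulMatrix_eq_repr_mul, key, map_mul, hbi]

lemma rf_tr_basicOpen {U : X.Opens} (hU : IsAffineOpen U) [Module.Free Γ(X, U) (ASec A U)]
    [Module.Finite Γ(X, U) (ASec A U)] (r : Γ(X, U)) (a : ASec A U) :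
    rf (X.basicOpen_le r) (tr A U a) = tr A (X.basicOpen r) (resA A (X.basicOpen_le r) a) := by
  have := hU.isLocalization_basicOpen r
  let _ : Algebra (ASec A U) (ASec A (X.basicOpen r)) := (resA A (X.basicOpen_le r)).toAlgebra
  let _ : Algebra Γ(X, U) (ASec A (X.basicOpen r)) :=
    ((resA A (X.basicOpen_le r)).comp (algebraMap Γ(X, U) (ASec A U))).toAlgebra
  have : IsScalarTower Γ(X, U) (ASec A U) (ASec A (X.basicOpen r)) := .of_algebraMap_eq' rfl
  have : IsScalarTower Γ(X, U) Γ(X, X.basicOpen r) (ASec A (X.basicOpen r)) :=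
    .of_algebraMap_eq fun x => resA_algebraMap A (X.basicOpen_le r) x
  have : IsLocalization (Algebra.algebraMapSubmonoid (ASec A U) (Submonoid.powers r))
      (ASec A (X.basicOpen r)) := by
    rw [Algebra.algebraMapSubmonoid, Submonoid.map_powers]
    exact A.isQC U hU r
  exact (Algebra.trace_localization Γ(X, U) (Submonoid.powers r) (Rₘ := Γ(X, X.basicOpen r))
    (Sₘ := ASec A (X.basicOpen r)) a).symm

variable (hA : FlatMod.IsFinLocFree A.toModule)
include hA

lemma small_cover (W : X.Opens) : W ≤ iSup fun V : {V : X.Opens // Small A V ∧ V ≤ W} => V.1 :=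
  fun x hx => by
    obtain ⟨U, hxU, hU⟩ := exists_small A hA x
    exact Opens.mem_iSup.2 ⟨⟨U ⊓ W, hU.mono A inf_le_left, inf_le_right⟩, hxU, hx⟩

lemma ext_small {W : X.Opens} {r s : Γ(X, W)}
    (h : ∀ (V : X.Opens) (hV : V ≤ W), Small A V → rf hV r = rf hV s) : r = s :=
  TopCat.Sheaf.eq_of_locally_eq' X.sheaf (fun V : {V : X.Opens // Small A V ∧ V ≤ W} => V.1) W
    (fun V => homOfLE V.2.2) (small_cover A hA W) r s fun V => h V.1 V.2.2 V.2.1

theorem exists_glue (W : X.Opens) (a : ASec A W) :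
    ∃ r : Γ(X, W), ∀ (V : X.Opens) (h : V ≤ W), Small A V → rf h r = tr A V (resA A h a) := by
  obtain ⟨r, hr, -⟩ := TopCat.Sheaf.existsUnique_gluing' X.sheaf
    (fun V : {V : X.Opens // Small A V ∧ V ≤ W} => V.1) W (fun V => homOfLE V.2.2) (small_cover A hA W)
    (fun V => tr A V.1 (resA A V.2.2 a)) fun V V' => by
      change rf inf_le_left (tr A V.1 _) = rf inf_le_right (tr A V'.1 _)
      rw [rf_tr A V.2.1, rf_tr A V'.2.1, resA_resA, resA_resA]
  exact ⟨r, fun V h hV => hr ⟨V, hV, h⟩⟩

theorem exists_trace : ∃ τ : A.toModule ⟶ Coh.structureModule X, FinCov.IsTrace A τ := by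
  choose T hT using exists_glue A hA
  have hadd : ∀ W (a b : ASec A W), T W (a + b) = T W a + T W b := fun W a b => ext_small A hA fun V h hV => by
    refine Eq.trans ?_ (map_add (X.presheaf.map (homOfLE h).op).hom (T W a) (T W b)).symm
    change rf h (T W (a + b)) = rf h (T W a) + rf h (T W b)
    rw [hT W _ V h hV, hT W _ V h hV, hT W _ V h hV, map_add, map_add]
  have hsmul : ∀ W (c : Γ(X, W)) (a : ASec A W), T W (algebraMap _ _ c * a) = c * T W a :=
    fun W c a => ext_small A hA fun V h hV => by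
      refine Eq.trans ?_ (map_mul (X.presheaf.map (homOfLE h).op).hom c (T W a)).symm
      change rf h (T W (algebraMap _ _ c * a)) = rf h c * rf h (T W a)
      rw [hT W _ V h hV, hT W _ V h hV, map_mul, resA_algebraMap, ← Algebra.smul_def, map_smul, smul_eq_mul]
  refine ⟨⟨letI := A.moduleSect
    PresheafOfModules.homMk
      { app := fun W => AddCommGrpCat.ofHom (AddMonoidHom.mk' (fun a => T W.unop a) (hadd W.unop))
        naturality := fun W W' i => AddCommGrpCat.hom_ext (AddMonoidHom.ext fun a => ?_) }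
      (fun W c a => hsmul W.unop c a)⟩, ?_⟩
  · refine ext_small A hA fun V h hV => ?_
    obtain ⟨a, rfl⟩ : ∃ a' : ASec A W.unop, (show A.toModule.val.presheaf.obj W from a') = a := ⟨a, rfl⟩
    change rf h (T W'.unop (resA A i.unop.le a)) = rf h (rf i.unop.le (T W.unop a))
    rw [rf_rf, hT _ _ V h hV, hT _ _ V (h.trans i.unop.le) hV, resA_resA]
  · intro U hU
    dsimp only
    intro hfree hfin a
    change T U a = tr A U a
    have : Module.Free Γ(X, U) (ASec A U) := hfree
    have : Module.Finite Γ(X, U) (ASec A U) := hfin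
    refine TopCat.Sheaf.eq_of_locally_eq' X.sheaf
      (fun r : {r : Γ(X, U) // Small A (X.basicOpen r)} => X.basicOpen r.1) U
      (fun r => homOfLE (X.basicOpen_le _)) (fun x hx => ?_) _ _ fun r => ?_
    · obtain ⟨W, hxW, hW⟩ := exists_small A hA x
      obtain ⟨r, hrW, hxr⟩ := hU.exists_basicOpen_le (⟨x, hxW⟩ : W) hx
      exact Opens.mem_iSup.2 ⟨⟨r, hW.mono A hrW⟩, hxr⟩
    · exact (hT U a _ (X.basicOpen_le r.1) r.2).trans (rf_tr_basicOpen A hU r.1 a).symm

omit hA in
lemma trace_eq_of_small {τ : A.toModule ⟶ Coh.structureModule X} (hτ : FinCov.IsTrace A τ) {V : X.Opens}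
    (hV : IsAffineOpen V) (hs : Small A V) (a : ASec A V) :
    (show Γ(X, V) from τ.app V a) = tr A V a :=
  hτ V hV (free_of_small A hs).1 (free_of_small A hs).2 a

lemma ext_small_affine {W : X.Opens} {r s : Γ(X, W)}
    (h : ∀ (V : X.Opens) (hV : V ≤ W), IsAffineOpen V → Small A V → rf hV r = rf hV s) : r = s :=
  TopCat.Sheaf.eq_of_locally_eq' X.sheaf (fun V : {V : X.Opens // (IsAffineOpen V ∧ Small A V) ∧ V ≤ W} => V.1) W
    (fun V => homOfLE V.2.2) (fun x hx => by
      obtain ⟨U, hxU, hU⟩ := exists_small A hA x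
      obtain ⟨V, hV, hxV, hVU⟩ := exists_isAffineOpen_mem_and_subset (show x ∈ U ⊓ W from ⟨hxU, hx⟩)
      exact Opens.mem_iSup.2 ⟨⟨V, ⟨hV, hU.mono A fun y hy => (hVU hy).1⟩, fun y hy => (hVU hy).2⟩, hxV⟩)
    r s fun V => h V.1 V.2.2 V.2.1.1 V.2.1.2

omit hA in
lemma rf_trace (τ : A.toModule ⟶ Coh.structureModule X) {V W : X.Opens} (h : V ≤ W) (a : ASec A W) :
    rf h (show Γ(X, W) from τ.app W a) = τ.app V (resA A h a) :=
  (PresheafOfModules.naturality_apply τ.val (homOfLE h).op a).symm

theorem trace_unique {τ τ' : A.toModule ⟶ Coh.structureModule X} (h : FinCov.IsTrace A τ)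
    (h' : FinCov.IsTrace A τ') : τ = τ' := by
  ext W a
  refine ext_small_affine A hA fun V hV hVa hs => ?_
  refine ((rf_trace A τ hV a).trans (trace_eq_of_small A h hVa hs _)).trans ?_
  exact ((rf_trace A τ' hV a).trans (trace_eq_of_small A h' hVa hs _)).symm

theorem existsUnique_trace : ∃! τ : A.toModule ⟶ Coh.structureModule X, FinCov.IsTrace A τ :=
  let ⟨τ, hτ⟩ := exists_trace A hA
  ⟨τ, hτ, fun _ h => trace_unique A hA h hτ⟩

end Groth.Agent.H81.FinCovTrace
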