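import Groth.Agent.H81.PushLocFree
import Groth.Agent.Lib.ClSub.Sections
import Groth.Agent.Lib.TensorMod.QCohInv

/-!
Kernels of split surjections onto the structure sheaf.
-/

universe u

open CategoryTheory CategoryTheory.Limits AlgebraicGeometry Opposite TopologicalSpace

namespace Groth.Agent.H81.SplitKernel

open Groth.Agent.Lib Groth.Agent.Lib.TensorMod Groth.Agent.Lib.TensorMod.Dual

variable {X : Scheme.{u}} {M : X.Modules}

/-- A restriction to a smaller open of a free restriction has free sections. -/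
theorem nonempty_basis {U V : X.Opens} (h : V ≤ U) {n : ℕ}
    (i : M.restrict U.ι ≅ FlatMod.freeMod (↑U) n) :
    Nonempty (Module.Basis (Fin n) Γ(X, V) Γ(M, V)) := by
  obtain ⟨e, he⟩ := Basis.exists_basis_of_iso i
  let φ : (Fin n → Γ(X, V)) →ₗ[Γ(X, V)] Γ(M, V) :=
    Fintype.linearCombination Γ(X, V) fun k => rs M h (e k)
  have hφ : Function.Bijective φ := by
    have : ⇑φ = Basis.comb e h := funext fun a => by
      simp only [φ, Fintype.linearCombination_apply, Basis.comb]
    rw [this]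
    exact he V h
  exact ⟨Module.Basis.ofEquivFun (LinearEquiv.ofBijective φ hφ).symm⟩

variable (τ : M ⟶ Coh.structureModule X) (ψ : Coh.structureModule X ⟶ M)

/-- Sections of the kernel and functions make up the sections of the module. -/
theorem nonempty_sections_equiv (h : ψ ≫ τ = 𝟙 _) (V : X.Opens) :
    Nonempty ((Γ(kernel τ, V) × Γ(X, V)) ≃ₗ[Γ(X, V)] Γ(M, V)) := by
  have hτψ : ∀ r : Γ(X, V), τ.app V (ψ.app V r) = r := fun r => by
    have := congrArg (fun φ => φ.app V) h
    exact congr($this r)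
  let f : Γ(kernel τ, V) →ₗ[Γ(X, V)] Γ(M, V) :=
    { toFun := (kernel.ι τ).app V
      map_add' := map_add _
      map_smul' := Scheme.Modules.Hom.app_smul _ }
  let g : Γ(X, V) →ₗ[Γ(X, V)] Γ(M, V) :=
    { toFun := fun r => ψ.app V r
      map_add' := map_add (ψ.app V).hom
      map_smul' := fun r s => Scheme.Modules.Hom.app_smul ψ r s }
  have hzero : ∀ k, τ.app V ((kernel.ι τ).app V k) = 0 := ClSub.Sections.app_kernel_ι_app τ V
  refine ⟨LinearEquiv.ofBijective (f.coprod g) ⟨(injective_iff_map_eq_zero _).2 fun p hp => ?_,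
    fun a => ?_⟩⟩
  · change (kernel.ι τ).app V p.1 + ψ.app V p.2 = 0 at hp
    have h2 := congrArg (τ.app V) hp
    rw [map_add, map_zero, hzero, zero_add, hτψ] at h2
    rw [h2, map_zero, add_zero] at hp
    exact Prod.ext (ClSub.Sections.kernel_ι_app_injective τ V (hp.trans (map_zero _).symm)) h2
  · obtain ⟨k, hk⟩ := ClSub.Sections.exists_kernel_ι_app_eq τ V (a - ψ.app V (τ.app V a))
      (by rw [map_sub, sub_eq_zero]; exact (hτψ _).symm)
    refine ⟨(k, τ.app V a), ?_⟩
    change (kernel.ι τ).app V k + ψ.app V (τ.app V a) = a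
    rw [hk, sub_add_cancel]

/-- The kernel of a split surjection from a rank `d` module onto `O` has rank `d - 1`. -/
theorem isFinLocFreeOfRank_kernel {d : ℕ} (hM : FlatMod.IsFinLocFreeOfRank d M)
    (h : ψ ≫ τ = 𝟙 _) : FlatMod.IsFinLocFreeOfRank (d - 1) (kernel τ) := by
  intro x
  obtain ⟨U, hxU, ⟨i⟩⟩ := hM x
  have := QCohInv.isQCoh_structureModule X
  have := QCohInv.isQCoh_of_isFinLocFree
    (show FlatMod.IsFinLocFree M from fun y => let ⟨U, hy, i⟩ := hM y; ⟨U, d, hy, i⟩)
  have : (kernel τ).IsQuasicoherent := QCoh.Closure.isQCoh_kernel τ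
  obtain ⟨V, hV, hxV, hVU⟩ := exists_isAffineOpen_mem_and_subset hxU
  obtain ⟨b⟩ := nonempty_basis (show V ≤ U from hVU) i
  obtain ⟨e⟩ := nonempty_sections_equiv τ ψ h V
  have := Module.Free.of_basis b
  have := Module.Finite.of_basis b
  let ι := e.toLinearMap.comp (LinearMap.inl Γ(X, V) Γ(kernel τ, V) Γ(X, V))
  let π := (LinearMap.fst Γ(X, V) Γ(kernel τ, V) Γ(X, V)).comp e.symm.toLinearMap
  have hπ : π.comp ι = LinearMap.id := LinearMap.ext fun k => by simp [π, ι]
  have : Module.Projective Γ(X, V) Γ(kernel τ, V) := Module.Projective.of_split ι π hπ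
  have : Module.Finite Γ(X, V) Γ(kernel τ, V) :=
    Module.Finite.of_surjective π fun k => ⟨ι k, congr($hπ k)⟩
  obtain ⟨W, n, hxW, ⟨j⟩⟩ := PushLocFree.exists_free_nhd_of_projective hV hxV (M := kernel τ)
  obtain ⟨V', hV', hxV', hVW⟩ := exists_isAffineOpen_mem_and_subset
    (show x ∈ U ⊓ W from ⟨hxU, hxW⟩)
  obtain ⟨b₁⟩ := nonempty_basis (show V' ≤ U from fun y hy => (hVW hy).1) i
  obtain ⟨b₂⟩ := nonempty_basis (show V' ≤ W from fun y hy => (hVW hy).2) j
  obtain ⟨e'⟩ := nonempty_sections_equiv τ ψ h V'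
  have : Nontrivial Γ(X, V') := (hV'.primeIdealOf ⟨x, hxV'⟩).nontrivial
  have h1 := Module.finrank_eq_card_basis b₁
  have h2 := Module.finrank_eq_card_basis ((b₂.prod (Module.Basis.singleton Unit Γ(X, V'))).map e')
  rw [h1] at h2
  obtain rfl : n = d - 1 := by simp at h2; omega
  exact ⟨W, hxW, ⟨j⟩⟩

end Groth.Agent.H81.SplitKernel
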