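import Groth.Agent.Lib.FunFld.Ext
import Mathlib.RingTheory.Localization.Integral
import Mathlib.RingTheory.Int.Basic
/-!
# Ramification in simple extensions and in quadratic extensions
-/

set_option autoImplicit false

namespace Groth.Agent.H81.Quadratic

open Polynomial WithZero
open Groth.Agent

universe u v w
variable {k : Type u} {K : Type v} {K' : Type w} [Field k] [Field K] [Field K'] [Algebra k K]
  [Algebra K K'] [Algebra k K']

/-- Where the coefficients are integral and the derivative is a unit, the ramification index is one. -/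
theorem e_eq_one (Q : _root_.FunFld.Place k K') (P : _root_.FunFld.Place k K) {e : ℕ} (he0 : 0 < e)
    (he : ∀ a, Q.1 (algebraMap K K' a) = P.1 a ^ e) {y : K'} {f : P.O[X]} (hf : f.Monic)
    (hfy : eval₂ ((algebraMap K K').comp P.O.subtype) y f = 0)
    (hd : Q.1 (eval₂ ((algebraMap K K').comp P.O.subtype) y (derivative f)) = 1)
    (hgen : ∀ z : K', ∃ g : K[X], aeval y g = z) : e = 1 := by
  let ι : P.O →+* K' := (algebraMap K K').comp P.O.subtype
  have hι : ∀ a, Q.1 (ι a) ≤ 1 := fun a => (he a).trans_le (pow_le_one₀ zero_le a.2)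
  have hy : Q.1 y ≤ 1 := by
    by_contra hy
    rw [not_le] at hy
    have hy0 : (0 : WithZero (Multiplicative ℤ)) < Q.1 y := zero_lt_one.trans hy
    have h1 : f.natDegree ≠ 0 := by
      intro h0
      rw [hf.natDegree_eq_zero.1 h0] at hfy
      simp at hfy
    rw [eval₂_eq_sum_range, Finset.sum_range_succ, hf.coeff_natDegree, map_one, one_mul, add_eq_zero_iff_neg_eq] at hfy
    have h2 : Q.1 (y ^ f.natDegree) ≤ Q.1 y ^ (f.natDegree - 1) := by
      rw [← hfy, Valuation.map_neg]
      refine Q.1.map_sum_le fun i hi => ?_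
      rw [map_mul, map_pow]
      exact (mul_le_of_le_one_left' (hι _)).trans (pow_le_pow_right₀ hy.le (by
        have := Finset.mem_range.1 hi; omega))
    rw [map_pow] at h2
    have := pow_lt_pow_right₀ hy (show f.natDegree - 1 < f.natDegree by omega)
    exact absurd (h2.trans_lt this) (lt_irrefl _)
  let v : P.O[X] → WithZero (Multiplicative ℤ) := fun g => Q.1 (eval₂ ι y g)
  have hv : ∀ g, v g ≤ 1 := fun g => by
    show Q.1 (eval₂ ι y g) ≤ 1
    rw [eval₂_eq_sum_range]
    refine Q.1.map_sum_le fun i _ => ?_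
    rw [map_mul, map_pow]
    exact mul_le_one₀ (hι _) zero_le (pow_le_one₀ zero_le hy)
  have vmul : ∀ a b, v (a * b) = v a * v b := fun a b => by simp [v, eval₂_mul]
  have vadd : ∀ a b, v (a + b) ≤ max (v a) (v b) := fun a b => by simpa [v] using Q.1.map_add _ _
  let M : Ideal P.O[X] :=
    { carrier := {g | v g < 1}
      zero_mem' := by simp [v]
      add_mem' := fun {a b} ha hb => (vadd a b).trans_lt (max_lt ha hb)
      smul_mem' := fun c g hg => by
        show v (c * g) < 1
        rw [vmul]; exact (mul_le_of_le_one_left' (hv c)).trans_lt hg }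
  obtain ⟨π, hπ⟩ : ∃ π : P.O, P.1 (π : K) = exp (-1) :=
    ⟨⟨Lib.FunFld.Place.unif P, by
      rw [Lib.FunFld.Place.mem_O_iff, Lib.FunFld.Place.val_unif]
      exact (exp_le_exp.2 (by norm_num)).trans exp_zero.le⟩, Lib.FunFld.Place.val_unif P⟩
  have hvπ : v (C π) = exp (-(e : ℤ)) := by
    show Q.1 (eval₂ ι y (C π)) = _
    rw [eval₂_C]
    show Q.1 (algebraMap K K' (π : K)) = _
    rw [he, hπ, ← exp_nsmul]
    simp
  have hπ1 : v (C π) < 1 := by
    rw [hvπ]; exact (exp_lt_exp.2 (by omega)).trans_eq exp_zero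
  obtain ⟨hb, hhb⟩ := (IsPrincipalIdealRing.principal (M.map (mapRingHom (IsLocalRing.residue P.O)))).principal
  obtain ⟨h, hhM, hh⟩ := (Ideal.mem_map_iff_of_surjective _
    (map_surjective _ IsLocalRing.residue_surjective)).1 (hhb ▸ Submodule.mem_span_singleton_self hb :
      hb ∈ M.map (mapRingHom (IsLocalRing.residue P.O)))
  have hdec : ∀ g ∈ M, ∃ q r, g = h * q + C π * r := by
    intro g hg
    have := Ideal.mem_map_of_mem (mapRingHom (IsLocalRing.residue P.O)) hg
    rw [hhb, Submodule.mem_span_singleton] at this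
    obtain ⟨qb, hq⟩ := this
    obtain ⟨q, rfl⟩ := map_surjective _ IsLocalRing.residue_surjective qb
    have hdvd : C π ∣ g - h * q := by
      rw [C_dvd_iff_dvd_coeff]
      intro i
      have h0 : IsLocalRing.residue P.O ((g - h * q).coeff i) = 0 := by
        rw [← coeff_map]
        rw [← hh, smul_eq_mul] at hq
        simp only [coe_mapRingHom] at hq
        rw [Polynomial.map_sub, Polynomial.map_mul, ← hq, mul_comm, sub_self, coeff_zero]
      rw [Lib.FunFld.Place.res_eq_zero_iff] at h0
      generalize (g - h * q).coeff i = a at h0 ⊢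
      have ha : P.1 ((a : K) / π) ≤ 1 := by
        rw [map_div₀, hπ, div_le_one₀ exp_pos]
        rcases eq_or_ne (P.1 (a : K)) 0 with h1 | h1
        · rw [h1]; exact zero_le
        · rw [← exp_log h1] at h0
          have h2 := exp_lt_exp.1 (h0.trans_eq exp_zero.symm)
          rw [← exp_log h1, exp_le_exp]; omega
      refine ⟨⟨_, ha⟩, Subtype.ext ?_⟩
      have : (π : K) ≠ 0 := fun h0 => exp_ne_zero (a := (-1 : ℤ)) (by rw [← hπ, h0, map_zero])
      exact (mul_div_cancel₀ (a : K) this).symm
    obtain ⟨r, hr⟩ := hdvd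
    exact ⟨q, r, by rw [← hr]; ring⟩
  have hfM : f ∈ M := by show Q.1 (eval₂ ι y f) < 1; rw [hfy, map_zero]; exact zero_lt_one
  obtain ⟨qf, rf, hf'⟩ := hdec f hfM
  have hqf : v qf = 1 := by
    refine (hv qf).antisymm (not_lt.1 fun hlt => ?_)
    have hm : derivative f ∈ M := by
      rw [hf']
      simp only [derivative_add, derivative_mul, derivative_C, zero_mul, zero_add]
      exact M.add_mem (M.add_mem (M.mul_mem_left _ hlt) (M.mul_mem_right _ hhM)) (M.mul_mem_right _ hπ1)
    exact absurd hd (show v (derivative f) < 1 from hm).ne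
  have key : ∀ n : ℕ, ∀ g, v g = exp (-(n : ℤ)) → e ∣ n := by
    intro n
    induction n using Nat.strong_induction_on with
    | _ n ih =>
      intro g hg
      rcases Nat.eq_zero_or_pos n with rfl | hn
      · exact dvd_zero e
      obtain ⟨q, r, rfl⟩ := hdec g (show v g < 1 by rw [hg]; exact (exp_lt_exp.2 (by omega)).trans_eq exp_zero)
      have he1 : eval₂ ι y ((h * q + C π * r) * qf) = eval₂ ι y (C π * (r * qf - rf * q)) := by
        have h0 := hfy
        rw [hf'] at h0
        simp only [eval₂_mul, eval₂_add, eval₂_sub] at h0 ⊢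
        linear_combination (eval₂ ι y q) * h0
      have h1 : v ((h * q + C π * r) * qf) = v (C π * (r * qf - rf * q)) := congrArg Q.1 he1
      rw [vmul, vmul, hg, hqf, mul_one, hvπ] at h1
      have hs : v (r * qf - rf * q) ≠ 0 := fun h0 => exp_ne_zero (by rw [h1, h0, mul_zero])
      have hle := hv (r * qf - rf * q)
      rw [← exp_log hs] at hle
      replace hle := exp_le_exp.1 (hle.trans exp_zero.symm.le)
      rw [← exp_log hs, ← exp_add, exp_inj] at h1
      obtain ⟨m, hm⟩ := Int.eq_ofNat_of_zero_le (a := -log (v (r * qf - rf * q))) (by omega)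
      have := ih m (by omega) _ (by rw [← hm, neg_neg, exp_log hs] : v (r * qf - rf * q) = exp (-(m : ℤ)))
      have hnm : n = e + m := by omega
      exact hnm ▸ dvd_add dvd_rfl this
  obtain ⟨t, ht⟩ := Q.2.2 (exp (-1))
  obtain ⟨g, hg⟩ := hgen t
  obtain ⟨b', hbm, hb0⟩ := IsLocalization.integerNormalization_spec (nonZeroDivisors P.O) g
  let b : nonZeroDivisors P.O := ⟨b', hbm⟩
  replace hb0 : _ = (b : P.O) • g := hb0
  have h1 : eval₂ ι y (IsLocalization.integerNormalization (nonZeroDivisors P.O) g) = ι b * t := by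
    have := congrArg (aeval y) hb0
    rw [hg.symm]
    simp only [Algebra.smul_def, map_mul, aeval_map_algebraMap] at this ⊢
    rw [Polynomial.algebraMap_apply, aeval_C] at this
    exact this
  have hb1 : P.1 ((b : P.O) : K) ≠ 0 := (P.1.ne_zero_iff).2 fun h0 =>
    nonZeroDivisors.ne_zero b.2 (Subtype.ext h0)
  have hbl : log (P.1 ((b : P.O) : K)) ≤ 0 := by
    have := (b : P.O).2
    rw [Lib.FunFld.Place.mem_O_iff, ← exp_log hb1] at this
    exact exp_le_exp.1 (this.trans exp_zero.symm.le)
  obtain ⟨m, hm⟩ := Int.eq_ofNat_of_zero_le (a := -log (P.1 ((b : P.O) : K))) (by omega)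
  have h2 : v (IsLocalization.integerNormalization (nonZeroDivisors P.O) g) = exp (-((e * m + 1 : ℕ) : ℤ)) := by
    show Q.1 (eval₂ ι y _) = _
    rw [h1, map_mul, ht]
    show Q.1 (algebraMap K K' ((b : P.O) : K)) * _ = _
    rw [he, ← exp_log hb1, ← exp_nsmul, ← exp_add]
    push_cast
    rw [← hm, nsmul_eq_mul]
    ring_nf
  have := key _ _ h2
  exact Nat.dvd_one.1 ((Nat.dvd_add_right (dvd_mul_right e m)).1 this)

set_option backward.isDefEq.respectTransparency false in
/-- The residue degree only grows. -/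
theorem deg_le_of_isOverWith [IsScalarTower k K K'] [FiniteDimensional K K'] (hK : _root_.FunFld.IsFunctionField k K)
    {Q : _root_.FunFld.Place k K'} {P : _root_.FunFld.Place k K} {e : ℕ}
    (he : _root_.FunFld.IsOverWith Q P e) : P.deg ≤ Q.deg := by
  have he0 := Lib.FunFld.Ext.pos_of_isOverWith he
  have hO : ∀ a : P.O, algebraMap K K' (a : K) ∈ Q.O := fun a => by
    show Q.1 _ ≤ 1
    rw [he]; exact pow_le_one₀ zero_le a.2
  let g : P.O →ₗ[k] IsLocalRing.ResidueField Q.O :=
    { toFun := fun a => IsLocalRing.residue Q.O ⟨_, hO a⟩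
      map_add' := fun a b => by rw [← map_add]; congr 1; exact Subtype.ext (map_add _ _ _)
      map_smul' := fun c a => by
        rw [RingHom.id_apply, Algebra.smul_def, Algebra.smul_def]
        show _ = IsLocalRing.residue Q.O (algebraMap k Q.O c) * IsLocalRing.residue Q.O _
        rw [← map_mul]
        congr 1
        refine Subtype.ext ?_
        show algebraMap K K' ((algebraMap k P.O c : P.O) * (a : K)) = (algebraMap k Q.O c : Q.O) * algebraMap K K' (a : K)
        rw [map_mul, Lib.FunFld.Place.coe_algebraMap_O, Lib.FunFld.Place.coe_algebraMap_O, ← IsScalarTower.algebraMap_apply] }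
  have hker : LinearMap.ker g = LinearMap.ker (Lib.FunFld.Place.resLin P) := by
    ext a
    rw [LinearMap.mem_ker, LinearMap.mem_ker, Lib.FunFld.Place.resLin_apply, Lib.FunFld.Place.res_eq_zero_iff]
    show IsLocalRing.residue Q.O _ = 0 ↔ _
    rw [Lib.FunFld.Place.res_eq_zero_iff]
    show Q.1 (algebraMap K K' (a : K)) < 1 ↔ _
    rw [he, pow_lt_one_iff_of_nonneg zero_le he0.ne']
  have := Lib.FunFld.Gen.Existence.finiteDimensional_residueField (Lib.FunFld.Ext.isFF_of_finite hK) Q
  let e₁ := g.quotKerEquivRange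
  let e₂ := (Lib.FunFld.Place.resLin P).quotKerEquivOfSurjective IsLocalRing.residue_surjective
  exact ((e₂.symm.trans ((Submodule.quotEquivOfEq _ _ hker).symm.trans e₁)).finrank_eq).trans_le (Submodule.finrank_le _)

/-- In a degree two extension an odd pole or zero order of a norm element forces ramification. -/
theorem ramified [IsScalarTower k K K'] [FiniteDimensional K K'] (hK : _root_.FunFld.IsFunctionField k K)
    (h2 : Module.finrank K K' = 2) (P : _root_.FunFld.Place k K) {m : ℤ} (hm : Odd m)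
    (heven : ∀ (Q : _root_.FunFld.Place k K') (e : ℕ), _root_.FunFld.IsOverWith Q P e → (2 : ℤ) ∣ (e : ℤ) * m) :
    (∃! Q : _root_.FunFld.Place k K', _root_.FunFld.IsOver Q P) ∧
      ∀ Q : _root_.FunFld.Place k K', _root_.FunFld.IsOver Q P → _root_.FunFld.IsOverWith Q P 2 ∧ Q.deg = P.deg := by
  classical
  obtain ⟨hfin, hsum⟩ := Lib.FunFld.Ext.sum_ramIdx_mul_deg (K' := K') hK P
  rw [h2] at hsum
  have hFF := Lib.FunFld.Ext.isFF_of_finite (K' := K') hK
  have hP := Lib.FunFld.Existence.deg_pos hK P
  -- every place above has even index and residue degree at least `deg P`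
  have hterm : ∀ Q ∈ hfin.toFinset, 2 ≤ _root_.FunFld.ramIdx Q P ∧ P.deg ≤ Q.deg := by
    intro Q hQ
    have h1 := Lib.FunFld.Ext.isOverWith_ramIdx (hfin.mem_toFinset.1 hQ)
    have h3 := heven Q _ h1
    have h4 : 2 ∣ _root_.FunFld.ramIdx Q P := by
      exact_mod_cast (Int.isCoprime_two_left.2 hm).dvd_of_dvd_mul_right h3
    refine ⟨Nat.le_of_dvd (Lib.FunFld.Ext.pos_of_isOverWith h1) h4, deg_le_of_isOverWith hK h1⟩
  obtain ⟨Q₀, hQ₀⟩ := Lib.FunFld.Ext.exists_over (K' := K') hK P
  have hQ₀' : Q₀ ∈ hfin.toFinset := hfin.mem_toFinset.2 hQ₀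
  have hle : ∀ Q ∈ hfin.toFinset, 2 * P.deg ≤ _root_.FunFld.ramIdx Q P * Q.deg := fun Q hQ =>
    Nat.mul_le_mul (hterm Q hQ).1 (hterm Q hQ).2
  have huniq : ∀ Q, _root_.FunFld.IsOver Q P → Q = Q₀ := by
    intro Q hQ
    by_contra hne
    have h3 := Finset.add_le_sum (f := fun Q => _root_.FunFld.ramIdx Q P * Q.deg) (fun _ _ => Nat.zero_le _)
      (hfin.mem_toFinset.2 hQ) hQ₀' hne
    have := hle Q (hfin.mem_toFinset.2 hQ)
    have := hle Q₀ hQ₀'
    omega
  refine ⟨⟨Q₀, hQ₀, huniq⟩, fun Q hQ => ?_⟩
  obtain rfl := huniq Q hQ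
  have hsingle : hfin.toFinset = {Q} := Finset.eq_singleton_iff_unique_mem.2
    ⟨hQ₀', fun R hR => huniq R (hfin.mem_toFinset.1 hR)⟩
  rw [hsingle, Finset.sum_singleton] at hsum
  obtain ⟨h5, h6⟩ := hterm Q hQ₀'
  have he : _root_.FunFld.ramIdx Q P = 2 := by
    refine le_antisymm (not_lt.1 fun hlt => ?_) h5
    have := Nat.mul_lt_mul_of_lt_of_le hlt h6 (Nat.lt_of_lt_of_le hP h6)
    omega
  rw [he] at hsum
  exact ⟨he ▸ Lib.FunFld.Ext.isOverWith_ramIdx hQ, by omega⟩

/-- In a quadratic extension any element outside the base generates. -/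
theorem exists_linear (h2 : Module.finrank K K' = 2) {z : K'} (hz : z ∉ Set.range (algebraMap K K'))
    (w : K') : ∃ g : K[X], aeval z g = w := by
  have hli : LinearIndependent K ![(1 : K'), z] := by
    rw [LinearIndependent.pair_iff]
    intro s t h
    rcases eq_or_ne t 0 with rfl | ht
    · rw [zero_smul, add_zero, Algebra.smul_def, mul_one, map_eq_zero] at h
      exact ⟨h, rfl⟩
    · exfalso
      refine hz ⟨-s / t, ?_⟩
      rw [Algebra.smul_def, Algebra.smul_def, mul_one] at h
      rw [map_div₀, map_neg, div_eq_iff ((_root_.map_ne_zero _).2 ht)]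
      linear_combination -h
  have : FiniteDimensional K K' := Module.finite_of_finrank_eq_succ h2
  have htop := hli.span_eq_top_of_card_eq_finrank' (by simp [h2])
  obtain ⟨c, hc⟩ := (Submodule.mem_span_range_iff_exists_fun K).1 (htop ▸ Submodule.mem_top : w ∈ _)
  refine ⟨C (c 0) + C (c 1) * X, ?_⟩
  rw [← hc, Fin.sum_univ_two]
  simp [Algebra.smul_def]

/-- A generator satisfies a quadratic equation. -/
theorem exists_eq (h2 : Module.finrank K K' = 2) :
    ∃ (z : K') (a b : K), z ∉ Set.range (algebraMap K K') ∧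
      z ^ 2 + algebraMap K K' a * z + algebraMap K K' b = 0 ∧ minpoly K z = X ^ 2 + C a * X + C b := by
  have : FiniteDimensional K K' := Module.finite_of_finrank_eq_succ h2
  obtain ⟨z, hz⟩ : ∃ z : K', z ∉ Set.range (algebraMap K K') := by
    by_contra h
    push Not at h
    have := LinearMap.finrank_le_finrank_of_injective (f := Algebra.linearMap K K') (algebraMap K K').injective
    have h' := (Algebra.linearMap K K').finrank_range_of_inj (algebraMap K K').injective
    rw [show LinearMap.range (Algebra.linearMap K K') = ⊤ from eq_top_iff.2 fun z _ => h z, finrank_top, h2, Module.finrank_self] at h'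
    omega
  have hint : IsIntegral K z := Algebra.IsIntegral.isIntegral z
  have hd : (minpoly K z).natDegree = 2 := by
    refine le_antisymm (h2 ▸ minpoly.natDegree_le z) ((minpoly.two_le_natDegree_iff hint).2 ?_)
    exact hz
  have hm := minpoly.monic hint
  let a := (minpoly K z).coeff 1
  let b := (minpoly K z).coeff 0
  have he : minpoly K z = X ^ 2 + C a * X + C b := by
    conv_lhs => rw [hm.as_sum, hd]
    rw [Finset.sum_range_succ, Finset.sum_range_one]
    simp only [pow_zero, pow_one, mul_one, a, b]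
    ring
  refine ⟨z, a, b, hz, ?_, he⟩
  have := minpoly.aeval K z
  rw [he] at this
  simpa using this

theorem adjoin_eq_top (h2 : Module.finrank K K' = 2) {z : K'} (hz : z ∉ Set.range (algebraMap K K')) :
    IntermediateField.adjoin K ({z} : Set K') = ⊤ := by
  rw [eq_top_iff]
  rintro w -
  obtain ⟨g, rfl⟩ := exists_linear h2 hz w
  exact IntermediateField.algebra_adjoin_le_adjoin K _ (aeval_mem_adjoin_singleton K z)

end Groth.Agent.H81.Quadratic
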