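import Groth.Agent.H81.RatPlace
import Groth.Agent.H81.Quadratic
import Groth.Agent.Lib.FunFld.Galois
import Groth.Agent.Lib.FunFld.Weil
import Groth.Agent.Lib.FunFld.Riemann
import Mathlib.FieldTheory.Minpoly.IsConjRoot
import Mathlib.Algebra.CharP.Two
import Mathlib.Algebra.QuadraticAlgebra.Basic
/-!
# The genus of an Artin–Schreier double cover in characteristic two
-/

set_option autoImplicit false

namespace Groth.Agent.H81.ASGenus

open Polynomial Groth.Agent.Lib.FunFld

universe u v
variable {k : Type u} [Field k]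
variable {K : Type v} [Field K] [Algebra k K] [Algebra (RatFunc k) K] [IsScalarTower k (RatFunc k) K]

local notation "φ" => algebraMap (RatFunc k) K

theorem genus_eq [CharP k 2] (hK : _root_.FunFld.IsFunctionField k K)
    (hdeg : Module.finrank (RatFunc k) K = 2) (y : K) (hy : y ∉ Set.range φ) (f : RatFunc k)
    (heq : y ^ 2 + y = φ f)
    (hodd : ∀ P : _root_.FunFld.Place k (RatFunc k), P.ord f < 0 → Odd (P.ord f))
    (S : Finset (_root_.FunFld.Place k (RatFunc k))) (hS : ∀ P, P ∈ S ↔ P.ord f < 0) :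
    (_root_.FunFld.genus k K : ℤ) = -1 + ∑ P ∈ S, (1 - P.ord f) / 2 * (P.deg : ℤ) := by
  classical
  have : FiniteDimensional (RatFunc k) K := Module.finite_of_finrank_eq_succ hdeg
  have : CharP (RatFunc k) 2 := charP_of_injective_algebraMap (algebraMap k (RatFunc k)).injective 2
  have : CharP K 2 := charP_of_injective_algebraMap (algebraMap k K).injective 2
  have hK₀ := RatPlace.isFunctionField (k := k)
  have hg0 := Rational.genus_eq_zero_of_adjoin_eq_top hK₀ (RatPlace.adjoin_X_eq_top (k := k))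
  let Δ : _root_.FunFld.Divisor k (RatFunc k) := ∑ P ∈ S, Finsupp.single P ((1 - P.ord f) / 2)
  have hΔS : ∀ P ∈ S, Δ P = (1 - P.ord f) / 2 := fun P hP => by
    simp only [Δ, Finsupp.finsetSum_apply]
    rw [Finset.sum_eq_single_of_mem P hP fun Q _ hne => Finsupp.single_eq_of_ne hne.symm, Finsupp.single_eq_same]
  have hΔ0 : ∀ P, P ∉ S → Δ P = 0 := fun P hP => by
    simp only [Δ, Finsupp.finsetSum_apply]
    exact Finset.sum_eq_zero fun Q hQ => Finsupp.single_eq_of_ne fun h => hP (h ▸ hQ)
  have hΔdeg : Δ.deg = ∑ P ∈ S, (1 - P.ord f) / 2 * (P.deg : ℤ) := by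
    let H : _root_.FunFld.Divisor k (RatFunc k) →+ ℤ :=
      Finsupp.liftAddHom fun Q : _root_.FunFld.Place k (RatFunc k) => AddMonoidHom.mulRight (Q.deg : ℤ)
    have hH : ∀ E, H E = _root_.FunFld.Divisor.deg E := fun E => rfl
    rw [← hH, map_sum]
    exact Finset.sum_congr rfl fun P _ => by rw [hH, Degree.deg_single]
  obtain ⟨Pinf, hPinf⟩ := Gen.Existence.exists_pole hK₀.1 (RatFunc.transcendental_X (K := k))
  obtain ⟨N, hN⟩ := Riemann.exists_bound_delta_eq hK
  let m : ℕ := N.toNat + Δ.deg.toNat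
  let E : _root_.FunFld.Divisor k (RatFunc k) := Finsupp.single Pinf (m : ℤ)
  have hEdeg : E.deg = m := by rw [Degree.deg_single, RatPlace.deg_inf Pinf hPinf]; norm_num
  have hΔnn : 0 ≤ Δ.deg := by
    rw [hΔdeg]
    exact Finset.sum_nonneg fun P hP => mul_nonneg (by have := (hS P).1 hP; omega) (Int.natCast_nonneg _)
  have hE1 : (_root_.FunFld.ell E : ℤ) = m + 1 := by
    rw [Weil.ell_eq_of_deg_ge hK₀ (by rw [hg0, hEdeg]; push_cast; omega), hg0, hEdeg]; norm_num
  have hE2 : (_root_.FunFld.ell (E - Δ) : ℤ) = m - Δ.deg + 1 := by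
    rw [Weil.ell_eq_of_deg_ge hK₀ (by rw [hg0, Degree.deg_sub, hEdeg]; push_cast; omega), hg0, Degree.deg_sub, hEdeg]
    norm_num
  -- the conjugation
  have hy0 : y ≠ 0 := fun h => hy ⟨0, by rw [h, map_zero]⟩
  have hy1 : y + 1 ∉ Set.range φ := fun ⟨c, hc⟩ =>
    hy ⟨c - 1, by rw [map_sub, hc, map_one]; exact add_sub_cancel_right y 1⟩
  have hmon : (X ^ 2 + X - C f).Monic := by
    simp only [sub_eq_add_neg, add_assoc]
    refine monic_X_pow_add ?_
    rw [← C_neg]
    exact (degree_X_add_C _).trans_lt (by norm_num)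
  have hmin : ∀ z : K, z ∉ Set.range φ → z ^ 2 + z = φ f → minpoly (RatFunc k) z = X ^ 2 + X - C f := by
    intro z hz hz2
    have hint : IsIntegral (RatFunc k) z := Algebra.IsIntegral.isIntegral z
    refine (Polynomial.eq_of_monic_of_dvd_of_natDegree_le (minpoly.monic hint) hmon
      (minpoly.dvd _ _ (by simp [hz2])) ?_).symm
    refine le_trans ?_ ((minpoly.two_le_natDegree_iff hint).2 hz)
    refine natDegree_le_iff_degree_le.2 ((degree_sub_le _ _).trans (max_le ((degree_add_le _ _).trans (max_le ?_ ?_)) ?_))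
    · exact (degree_X_pow_le 2)
    · exact degree_X_le.trans (by norm_num)
    · exact degree_C_le.trans (by norm_num)
  have : Algebra.IsQuadraticExtension (RatFunc k) K := { finrank_eq_two' := hdeg }
  obtain ⟨σ, hσ⟩ : ∃ σ : K ≃ₐ[RatFunc k] K, σ y = y + 1 := (isConjRoot_iff_exists_algEquiv).1 (by
    show minpoly (RatFunc k) (y + 1) = minpoly (RatFunc k) y
    rw [hmin _ hy1 (by rw [CharTwo.add_sq, one_pow]; linear_combination heq + CharTwo.two_eq_zero (R := K)),
      hmin _ hy heq])
  have hrep : ∀ z : K, ∃ a b : RatFunc k, z = φ a + φ b * y := by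
    intro z
    have hli : LinearIndependent (RatFunc k) ![(1 : K), y] := by
      rw [LinearIndependent.pair_iff]
      intro s t h
      rcases eq_or_ne t 0 with rfl | ht
      · rw [zero_smul, add_zero, Algebra.smul_def, mul_one, map_eq_zero] at h
        exact ⟨h, rfl⟩
      · exfalso
        refine hy ⟨-s / t, ?_⟩
        rw [Algebra.smul_def, Algebra.smul_def, mul_one] at h
        rw [map_div₀, map_neg, div_eq_iff ((_root_.map_ne_zero _).2 ht)]
        linear_combination -h
    have htop := hli.span_eq_top_of_card_eq_finrank' (by simp [hdeg])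
    obtain ⟨c, hc⟩ := (Submodule.mem_span_range_iff_exists_fun (RatFunc k)).1
      (htop ▸ Submodule.mem_top : z ∈ _)
    exact ⟨c 0, c 1, by rw [← hc, Fin.sum_univ_two]; simp [Algebra.smul_def]⟩
  let D := _root_.FunFld.conorm K E
  have hD : ∀ (Q : _root_.FunFld.Place k K) (P : _root_.FunFld.Place k (RatFunc k)) (e : ℕ),
      _root_.FunFld.IsOverWith Q P e → D Q = e * E P := fun Q P e he => Ext.conorm_apply hK₀ E he
  have hσL : ∀ z ∈ _root_.FunFld.L D, σ z ∈ _root_.FunFld.L D := by
    intro z hz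
    rw [Degree.mem_L_iff_ord] at hz ⊢
    rcases hz with rfl | hz
    · exact Or.inl (map_zero σ)
    refine Or.inr fun Q => ?_
    obtain ⟨P, e, he0, he⟩ := Ext.exists_place_below hK₀ Q
    have h1 := hz (Galois.comapAut Q σ)
    rw [hD _ P e (Galois.isOverWith_comapAut he σ), Place.ord_def (Galois.comapAut Q σ),
      Galois.comapAut_apply, ← Place.ord_def] at h1
    rw [hD Q P e he]; exact h1
  have hpole : ∀ (Q : _root_.FunFld.Place k K) (P : _root_.FunFld.Place k (RatFunc k)) (e : ℕ),
      _root_.FunFld.IsOverWith Q P e → (P ∈ S → e = 2 ∧ Q.ord y = P.ord f) ∧ (P ∉ S → 0 ≤ Q.ord y) := by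
    intro Q P e he
    have h1 := Ext.ord_map he f
    rw [← heq] at h1
    have he0 : (0 : ℤ) < e := by exact_mod_cast Ext.pos_of_isOverWith he
    have hbig : 1 < Q.1 y → Q.ord (y ^ 2 + y) = 2 * Q.ord y := fun h => by
      have hval : Q.1 (y ^ 2 + y) = Q.1 y ^ 2 := by
        rw [Valuation.map_add_eq_of_lt_left, map_pow]
        rw [map_pow]
        exact lt_self_pow₀ h one_lt_two
      rw [Place.ord_def, Place.ord_def, hval, WithZero.log_pow, nsmul_eq_mul]; push_cast; ring
    refine ⟨fun hP => ?_, fun hP => ?_⟩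
    · have hneg := (hS P).1 hP
      have hlt : ∀ (Q' : _root_.FunFld.Place k K) (e' : ℕ), _root_.FunFld.IsOverWith Q' P e' → 1 < Q'.1 y := by
        intro Q' e' he'
        by_contra h
        rw [not_lt] at h
        have h2 : Q'.1 (y ^ 2 + y) ≤ 1 := (Q'.1.map_add _ _).trans (max_le (by rw [map_pow]; exact pow_le_one₀ zero_le h) h)
        have h3 := (Place.val_le_one_iff Q').1 h2
        rw [heq, Ext.ord_map he'] at h3
        have := mul_neg_of_pos_of_neg (by exact_mod_cast Ext.pos_of_isOverWith he' : (0 : ℤ) < e') hneg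
        omega
      have hram := Quadratic.ramified hK₀ hdeg P (m := P.ord f) (hodd P hneg) fun Q' e' he' => by
        have h3 := Ext.ord_map he' f
        rw [← heq] at h3
        have hval : Q'.1 (y ^ 2 + y) = Q'.1 y ^ 2 := by
          rw [Valuation.map_add_eq_of_lt_left, map_pow]
          rw [map_pow]
          exact lt_self_pow₀ (hlt Q' e' he') one_lt_two
        refine ⟨Q'.ord y, ?_⟩
        rw [← h3, Place.ord_def, Place.ord_def, hval, WithZero.log_pow, nsmul_eq_mul]; push_cast; ring
      have he2 : e = 2 := (Ext.place_below_unique he (hram.2 Q ⟨e, he⟩).1).2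
      rw [hbig (hlt Q e he), he2] at h1
      exact ⟨he2, by push_cast at h1; omega⟩
    · by_contra h
      have h2 : 1 < Q.1 y := (Place.one_lt_val_iff Q).2 (not_le.1 h)
      rw [hbig h2] at h1
      have := mul_nonneg he0.le (not_lt.1 fun h' => hP ((hS P).2 h'))
      omega
  let V₁ := _root_.FunFld.L E
  let V₂ := _root_.FunFld.L (E - Δ)
  have hsmul : ∀ (r : k) (a : RatFunc k), φ (r • a) = r • φ a := fun r a =>
    (IsScalarTower.toAlgHom k (RatFunc k) K).toLinearMap.map_smul r a
  let Ψ : V₁ × V₂ →ₗ[k] K :=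
    { toFun := fun p => φ p.1 + φ p.2 * y
      map_add' := fun p q => by simp only [Prod.fst_add, Prod.snd_add, Submodule.coe_add, map_add]; ring
      map_smul' := fun r p => by
        simp only [Prod.smul_fst, Prod.smul_snd, Submodule.coe_smul, hsmul, RingHom.id_apply, smul_add,
          smul_mul_assoc] }
  have hinj : Function.Injective Ψ := by
    refine (injective_iff_map_eq_zero Ψ).2 fun p hp => ?_
    have hp' : φ (p.1 : RatFunc k) + φ (p.2 : RatFunc k) * y = 0 := hp
    have hp2 : (p.2 : RatFunc k) = 0 := by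
      by_contra h
      refine hy ⟨-(p.1 : RatFunc k) / p.2, ?_⟩
      rw [map_div₀, map_neg, div_eq_iff ((_root_.map_ne_zero _).2 h)]
      linear_combination -hp'
    rw [hp2, map_zero, zero_mul, add_zero, map_eq_zero] at hp'
    exact Prod.ext (Subtype.ext hp') (Subtype.ext hp2)
  have hmem1 : ∀ a : RatFunc k, a ∈ V₁ → φ a ∈ _root_.FunFld.L D := by
    intro a ha
    rw [Degree.mem_L_iff_ord] at ha ⊢
    rcases ha with rfl | ha
    · exact Or.inl (map_zero _)
    refine Or.inr fun Q => ?_
    obtain ⟨P, e, he0, he⟩ := Ext.exists_place_below hK₀ Q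
    rw [Ext.ord_map he, hD Q P e he]
    nlinarith [ha P, Int.natCast_nonneg e]
  have hmem2 : ∀ b : RatFunc k, b ∈ V₂ → φ b * y ∈ _root_.FunFld.L D := by
    intro b hb
    rw [Degree.mem_L_iff_ord] at hb ⊢
    rcases hb with rfl | hb
    · exact Or.inl (by rw [map_zero, zero_mul])
    rcases eq_or_ne b 0 with rfl | hb0
    · exact Or.inl (by rw [map_zero, zero_mul])
    refine Or.inr fun Q => ?_
    obtain ⟨P, e, he0, he⟩ := Ext.exists_place_below hK₀ Q
    have h1 := hb P
    rw [Finsupp.sub_apply] at h1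
    rw [Place.ord_mul Q ((_root_.map_ne_zero _).2 hb0) hy0, Ext.ord_map he, hD Q P e he]
    by_cases hP : P ∈ S
    · obtain ⟨rfl, h2⟩ := (hpole Q P e he).1 hP
      rw [hΔS P hP] at h1
      obtain ⟨c, hc⟩ := hodd P ((hS P).1 hP)
      rw [h2]
      push_cast
      omega
    · have h2 := (hpole Q P e he).2 hP
      rw [hΔ0 P hP, sub_zero] at h1
      nlinarith [Int.natCast_nonneg e]
  have himage : LinearMap.range Ψ = _root_.FunFld.L D := by
    refine le_antisymm ?_ fun z hz => ?_
    · rintro _ ⟨p, rfl⟩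
      exact Submodule.add_mem _ (hmem1 _ p.1.2) (hmem2 _ p.2.2)
    obtain ⟨a, b, rfl⟩ := hrep z
    have hsum : φ b ∈ _root_.FunFld.L D := by
      have := (_root_.FunFld.L D).add_mem hz (hσL _ hz)
      rw [map_add, map_mul, σ.commutes, σ.commutes, hσ] at this
      convert this using 1
      linear_combination (-(φ a) - φ b * y) * CharTwo.two_eq_zero (R := K)
    have hb : b ∈ V₂ := by
      rcases eq_or_ne b 0 with rfl | hb0
      · exact zero_mem _
      rw [Degree.mem_L_iff_ord]
      refine Or.inr fun P => ?_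
      obtain ⟨Q, e, he⟩ := Ext.exists_over (K' := K) hK₀ P
      have he0 : (0 : ℤ) < e := by exact_mod_cast Ext.pos_of_isOverWith he
      rw [Finsupp.sub_apply]
      by_cases hP : P ∈ S
      · obtain ⟨rfl, h2⟩ := (hpole Q P e he).1 hP
        rw [hΔS P hP]
        obtain ⟨c, hc⟩ := hodd P ((hS P).1 hP)
        by_contra hcon
        have hby0 : φ b * y ≠ 0 := mul_ne_zero ((_root_.map_ne_zero _).2 hb0) hy0
        have hby : Q.ord (φ b * y) = 2 * P.ord b + P.ord f := by
          rw [Place.ord_mul Q ((_root_.map_ne_zero _).2 hb0) hy0, Ext.ord_map he, h2]; push_cast; ring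
        have hlt : Q.ord (φ b * y) < -D Q := by
          rw [hby, hD Q P 2 he]; push_cast; omega
        have hzlt : Q.1 (φ a + φ b * y) < Q.1 (φ b * y) := by
          rcases eq_or_ne (φ a + φ b * y) 0 with h0 | h0
          · rw [h0, map_zero, Place.val_eq_exp Q hby0]; exact WithZero.exp_pos
          · have h3 := (Degree.mem_L_iff_ord.1 hz).resolve_left h0 Q
            rw [Place.val_eq_exp Q h0, Place.val_eq_exp Q hby0, WithZero.exp_lt_exp]
            omega
        have hneq : Q.1 (φ a) = Q.1 (φ b * y) := by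
          have := Q.1.map_sub_eq_of_lt_right hzlt
          rwa [add_sub_cancel_right] at this
        have h4 : Q.ord (φ a) = Q.ord (φ b * y) := by rw [Place.ord_def, Place.ord_def, hneq]
        rw [hby, Ext.ord_map he] at h4
        push_cast at h4
        omega
      · have h1 := (Degree.mem_L_iff_ord.1 hsum).resolve_left ((_root_.map_ne_zero _).2 hb0) Q
        rw [Ext.ord_map he, hD Q P e he, ← mul_neg] at h1
        rw [hΔ0 P hP, sub_zero]
        exact le_of_mul_le_mul_left h1 he0
    have ha : a ∈ V₁ := by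
      have h1 := (_root_.FunFld.L D).sub_mem hz (hmem2 b hb)
      rw [add_sub_cancel_right] at h1
      rcases eq_or_ne a 0 with rfl | ha0
      · exact zero_mem _
      rw [Degree.mem_L_iff_ord]
      refine Or.inr fun P => ?_
      obtain ⟨Q, e, he⟩ := Ext.exists_over (K' := K) hK₀ P
      have he0 : (0 : ℤ) < e := by exact_mod_cast Ext.pos_of_isOverWith he
      have h2 := (Degree.mem_L_iff_ord.1 h1).resolve_left ((_root_.map_ne_zero _).2 ha0) Q
      rw [Ext.ord_map he, hD Q P e he, ← mul_neg] at h2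
      exact le_of_mul_le_mul_left h2 he0
    exact ⟨(⟨a, ha⟩, ⟨b, hb⟩), rfl⟩
  have hell : _root_.FunFld.ell D = _root_.FunFld.ell E + _root_.FunFld.ell (E - Δ) := by
    have := Degree.finiteDimensional_L hK₀ E
    have := Degree.finiteDimensional_L hK₀ (E - Δ)
    show Module.finrank k (_root_.FunFld.L D) = _
    rw [← himage, LinearMap.finrank_range_of_inj hinj, Module.finrank_prod]
    rfl
  have hDdeg : D.deg = 2 * (m : ℤ) := by rw [Ext.deg_conorm hK₀, hdeg, hEdeg]; norm_num
  have hg := hN D (by rw [hDdeg]; omega)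
  simp only [Riemann.delta, hDdeg, hell] at hg
  push_cast at hg
  omega

end Groth.Agent.H81.ASGenus
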