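import Groth.Agent.S19044
/-!
# Artin–Schreier double covers with poles over finitely many points of the affine line
-/

set_option autoImplicit false

namespace Groth.Agent.H81.ASPoints

open WithZero Groth.Agent.Lib.FunFld

universe u v
variable {k : Type u} {K : Type v} [Field k] [Field K] [Algebra k K] [Algebra (RatFunc k) K]
  [IsScalarTower k (RatFunc k) K]

theorem sub_eq (β : k) : algebraMap (RatFunc k) K ((RatFunc.X : RatFunc k) - RatFunc.C β) =
    algebraMap (RatFunc k) K RatFunc.X - algebraMap k K β := by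
  rw [map_sub, ← RatFunc.algebraMap_eq_C, ← IsScalarTower.algebraMap_apply]

theorem val_sub_iff {Q : _root_.FunFld.Place k K} {P : _root_.FunFld.Place k (RatFunc k)} {e : ℕ}
    (he : _root_.FunFld.IsOverWith Q P e) (β : k) :
    Q.1 (algebraMap (RatFunc k) K RatFunc.X - algebraMap k K β) < 1 ↔
      P.1 ((RatFunc.X : RatFunc k) - RatFunc.C β) < 1 := by
  rw [← sub_eq, he]
  exact pow_lt_one_iff_of_nonneg zero_le (Ext.pos_of_isOverWith he).ne'

omit [Algebra (RatFunc k) K] [IsScalarTower k (RatFunc k) K] in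
theorem ord_sub {P : _root_.FunFld.Place k (RatFunc k)} {β : k}
    (h : P.1 ((RatFunc.X : RatFunc k) - RatFunc.C β) < 1) :
    P.ord ((RatFunc.X : RatFunc k) - RatFunc.C β) = 1 := by
  have hι : algebraMap (Polynomial k) (RatFunc k) (Polynomial.X - Polynomial.C β) = RatFunc.X - RatFunc.C β := by
    rw [map_sub, RatFunc.algebraMap_X, RatFunc.algebraMap_C]
  rw [← hι] at h ⊢
  exact RatPlace.ord_irreducible P (Polynomial.irreducible_X_sub_C β) h

omit [Algebra (RatFunc k) K] [IsScalarTower k (RatFunc k) K] in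
/-- At one point of the line every other linear form is a unit. -/
theorem ord_sub_ne {P : _root_.FunFld.Place k (RatFunc k)} {β γ : k}
    (h : P.1 ((RatFunc.X : RatFunc k) - RatFunc.C β) < 1) (hne : γ ≠ β) :
    P.ord ((RatFunc.X : RatFunc k) - RatFunc.C γ) = 0 := by
  have hι : ∀ γ : k, algebraMap (Polynomial k) (RatFunc k) (Polynomial.X - Polynomial.C γ) = RatFunc.X - RatFunc.C γ := fun γ => by
    rw [map_sub, RatFunc.algebraMap_X, RatFunc.algebraMap_C]
  rw [← hι] at h ⊢
  exact RatPlace.ord_eq_zero_of_isCoprime P (Polynomial.irreducible_X_sub_C β) h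
    (Polynomial.isCoprime_X_sub_C_of_isUnit_sub (sub_ne_zero.2 (Ne.symm hne)).isUnit)

omit [Algebra (RatFunc k) K] [IsScalarTower k (RatFunc k) K] in
theorem X_nonneg {P : _root_.FunFld.Place k (RatFunc k)} {β : k}
    (h : P.1 ((RatFunc.X : RatFunc k) - RatFunc.C β) < 1) : 0 ≤ P.ord (RatFunc.X : RatFunc k) := by
  have hι : algebraMap (Polynomial k) (RatFunc k) (Polynomial.X - Polynomial.C β) = RatFunc.X - RatFunc.C β := by
    rw [map_sub, RatFunc.algebraMap_X, RatFunc.algebraMap_C]
  rw [← hι] at h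
  exact RatPlace.X_nonneg_of_irreducible P (Polynomial.irreducible_X_sub_C β) h

variable [CharP k 2] [FiniteDimensional (RatFunc k) K]

omit [Algebra k K] [IsScalarTower k (RatFunc k) K] in
theorem trace_y (hdeg : Module.finrank (RatFunc k) K = 2) {y : K}
    (hy : y ∉ Set.range (algebraMap (RatFunc k) K)) {f : RatFunc k}
    (heq : y ^ 2 + y = algebraMap (RatFunc k) K f) : Algebra.trace (RatFunc k) K y = 1 := by
  have : CharP (RatFunc k) 2 := charP_of_injective_algebraMap (algebraMap k (RatFunc k)).injective 2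
  have hint : IsIntegral (RatFunc k) y := Algebra.IsIntegral.isIntegral y
  open Polynomial in
  have hmon : (X ^ 2 + X - C f).Monic ∧ (X ^ 2 + X - C f).natDegree = 2 := by
    have h : (X ^ 2 + X - C f).natDegree = 2 := by compute_degree!
    exact ⟨by rw [Monic, leadingCoeff, h]; simp [coeff_X], h⟩
  have hm : minpoly (RatFunc k) y = Polynomial.X ^ 2 + Polynomial.X - Polynomial.C f := by
    refine (Polynomial.eq_of_monic_of_dvd_of_natDegree_le (minpoly.monic hint) hmon.1
      (minpoly.dvd _ _ (by simp [heq])) ?_).symm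
    rw [hmon.2]
    exact (minpoly.two_le_natDegree_iff hint).2 hy
  rw [trace_eq_finrank_mul_minpoly_nextCoeff, Quadratic.adjoin_eq_top hdeg hy, IntermediateField.finrank_top,
    Nat.cast_one, one_mul, hm, Polynomial.nextCoeff_of_natDegree_pos (by rw [hmon.2]; norm_num), hmon.2]
  simp [Polynomial.coeff_X, CharTwo.neg_eq]

variable (hdeg : Module.finrank (RatFunc k) K = 2) {y : K} (hy : y ∉ Set.range (algebraMap (RatFunc k) K))
  {f : RatFunc k} (heq : y ^ 2 + y = algebraMap (RatFunc k) K f) {B : Finset k} {d : k → ℕ}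
  (hd : ∀ β ∈ B, Odd (d β))
  (hpole : ∀ (p : _root_.FunFld.Place k (RatFunc k)) (β : k), β ∈ B →
      p.1 ((RatFunc.X : RatFunc k) - RatFunc.C β) < 1 → p.ord f = -(d β : ℤ))

include hdeg hd hpole heq in
omit [CharP k 2] in
/-- The place over a pole is unique, ramified, and `y` has order `-d` there. -/
theorem at_pole {β : k} (hβ : β ∈ B) {P : _root_.FunFld.Place k (RatFunc k)}
    (hP : P.1 ((RatFunc.X : RatFunc k) - RatFunc.C β) < 1) {Q : _root_.FunFld.Place k K} {e : ℕ}
    (he : _root_.FunFld.IsOverWith Q P e) :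
    e = 2 ∧ Q.ord y = -(d β : ℤ) ∧ ∀ Q', _root_.FunFld.IsOver Q' P → Q' = Q := by
  classical
  have hK₀ := RatPlace.isFunctionField (k := k)
  have hf : 1 < P.1 f := (Place.one_lt_val_iff P).2 (by
    rw [hpole P β hβ hP]
    have := (hd β hβ).pos
    omega)
  have hy2 : ∀ (Q' : _root_.FunFld.Place k K) (e' : ℕ), _root_.FunFld.IsOverWith Q' P e' →
      2 * Q'.ord y = (e' : ℤ) * P.ord f := by
    intro Q' e' he'
    have hlt : 1 < Q'.1 y := by
      by_contra h
      rw [not_lt] at h
      have h2 : Q'.1 (y ^ 2 + y) ≤ 1 :=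
        (Q'.1.map_add _ _).trans (max_le (by rw [map_pow]; exact pow_le_one₀ zero_le h) h)
      rw [heq, he'] at h2
      exact absurd h2 (not_le.2 (one_lt_pow₀ hf (Ext.pos_of_isOverWith he').ne'))
    have h3 : Q'.1 y ^ 2 = P.1 f ^ e' := by
      rw [← he', ← heq, Valuation.map_add_eq_of_lt_left, map_pow]
      rw [map_pow]
      exact lt_self_pow₀ hlt one_lt_two
    have h := congrArg log h3
    rw [log_pow, log_pow, nsmul_eq_mul, nsmul_eq_mul] at h
    rw [Place.ord_def, Place.ord_def]
    push_cast at h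
    linarith
  have hodd : Odd (P.ord f) := by rw [hpole P β hβ hP]; exact (hd β hβ).natCast.neg
  have h4 := Quadratic.ramified hK₀ hdeg P (m := P.ord f) hodd fun Q' e' he' => ⟨Q'.ord y, (hy2 Q' e' he').symm⟩
  have he2 : e = 2 := (Ext.place_below_unique he (h4.2 Q ⟨e, he⟩).1).2
  refine ⟨he2, ?_, fun Q' hQ' => ?_⟩
  · have := hy2 Q e he
    rw [he2, hpole P β hβ hP] at this
    push_cast at this
    omega
  · by_contra hne
    obtain ⟨hfin, hsum⟩ := Ext.sum_ramIdx_mul_deg (K' := K) hK₀ P
    have hle : ∑ R ∈ ({Q, Q'} : Finset _), _root_.FunFld.ramIdx R P * R.deg ≤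
        ∑ R ∈ hfin.toFinset, _root_.FunFld.ramIdx R P * R.deg :=
      Finset.sum_le_sum_of_subset fun R hR => by
        rw [hfin.mem_toFinset]
        simp only [Finset.mem_insert, Finset.mem_singleton] at hR
        rcases hR with rfl | rfl
        · exact ⟨e, he⟩
        · exact hQ'
    rw [hsum, hdeg, Finset.sum_pair (Ne.symm hne), Ext.ramIdx_eq he, he2, Ext.ramIdx_eq (h4.2 Q' hQ').1] at hle
    have hP1 := Existence.deg_pos hK₀ P
    have hQ1 := Quadratic.deg_le_of_isOverWith hK₀ he
    have hQ2 := Quadratic.deg_le_of_isOverWith hK₀ (h4.2 Q' hQ').1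
    omega

variable (hint : ∀ p : _root_.FunFld.Place k (RatFunc k),
    (∀ β ∈ B, 1 ≤ p.1 ((RatFunc.X : RatFunc k) - RatFunc.C β)) → p.1 f ≤ 1)

include heq hint in
omit [CharP k 2] in
theorem val_y_le {Q : _root_.FunFld.Place k K}
    (h : ∀ β ∈ B, 1 ≤ Q.1 (algebraMap (RatFunc k) K RatFunc.X - algebraMap k K β)) : Q.1 y ≤ 1 := by
  obtain ⟨P, e, -, he⟩ := Ext.exists_place_below (RatPlace.isFunctionField (k := k)) Q
  have hf : P.1 f ≤ 1 := hint P fun β hβ => not_lt.1 fun h' => absurd ((val_sub_iff he β).2 h') (not_lt.2 (h β hβ))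
  by_contra hy1
  rw [not_le] at hy1
  have h1 : Q.1 (y ^ 2 + y) = Q.1 y ^ 2 := by
    rw [Valuation.map_add_eq_of_lt_left, map_pow]
    rw [map_pow]
    exact lt_self_pow₀ hy1 one_lt_two
  have h2 : Q.1 (y ^ 2 + y) ≤ 1 := by rw [heq, he]; exact pow_le_one₀ zero_le hf
  rw [h1] at h2
  exact absurd h2 (not_le.2 (one_lt_pow₀ hy1 two_ne_zero))

include hdeg hy heq hd hpole hint in
omit [FiniteDimensional (RatFunc k) K] in
/-- The genus is one less than the sum of the `(d + 1) / 2`. -/
theorem genus_eq [IsAlgClosed k] (hK : _root_.FunFld.IsFunctionField k K) :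
    (_root_.FunFld.genus k K : ℤ) = -1 + ∑ α ∈ B, (((d α + 1) / 2 : ℕ) : ℤ) := by
  classical
  have hK₀ := RatPlace.isFunctionField (k := k)
  have htr : ∀ α : k, Transcendental k ((RatFunc.X : RatFunc k) - RatFunc.C α) := fun α => by
    rw [show (RatFunc.X : RatFunc k) - RatFunc.C α = algebraMap (Polynomial k) (RatFunc k) (Polynomial.X - Polynomial.C α) by
      rw [map_sub, RatFunc.algebraMap_X, RatFunc.algebraMap_C]]
    exact (transcendental_algebraMap_iff (IsFractionRing.injective (Polynomial k) (RatFunc k))).2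
      (Polynomial.transcendental _ (by simp) (mem_nonZeroDivisors_of_ne_zero (by simp)))
  choose Pb hPb using fun α => Gen.Existence.exists_zero hK₀.1 (htr α)
  have hPb' : ∀ α, (Pb α).1 ((RatFunc.X : RatFunc k) - RatFunc.C α) < 1 := fun α =>
    (Place.val_lt_one_iff _).2 (Or.inr (hPb α))
  have hneg : ∀ P : _root_.FunFld.Place k (RatFunc k), P.ord f < 0 →
      ∃ β ∈ B, P.1 ((RatFunc.X : RatFunc k) - RatFunc.C β) < 1 := fun P hP => by
    by_contra h
    push Not at h
    exact absurd (hint P h) (not_le.2 ((Place.one_lt_val_iff P).2 hP))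
  rw [ASGenus.genus_eq hK hdeg y hy f heq (fun P hP => by
      obtain ⟨β, hβ, hlt⟩ := hneg P hP
      rw [hpole P β hβ hlt]
      exact (hd β hβ).natCast.neg) (B.image Pb) fun P => ?_, Finset.sum_image]
  · congr 1
    refine Finset.sum_congr rfl fun α hα => ?_
    rw [Rational.deg_eq_one hK₀, hpole (Pb α) α hα (hPb' α)]
    push_cast
    omega
  · intro α _ β _ h
    by_contra hne
    have h1 := ord_sub_ne (hPb' α) (Ne.symm hne)
    rw [h, ord_sub (hPb' β)] at h1
    omega
  · rw [Finset.mem_image]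
    constructor
    · rintro ⟨α, hα, rfl⟩
      rw [hpole (Pb α) α hα (hPb' α)]
      have := (hd α hα).pos
      omega
    · intro hP
      obtain ⟨α, hα, hlt⟩ := hneg P hP
      exact ⟨α, hα, Groth.Agent.S19044.place_unique α _ _ (hPb' α) hlt⟩

omit [Algebra (RatFunc k) K] [IsScalarTower k (RatFunc k) K] [FiniteDimensional (RatFunc k) K] [CharP k 2] in
/-- On the line every repartition at one place is principal up to integral ones. -/
theorem exists_principal (P : _root_.FunFld.Place k (RatFunc k)) (g : RatFunc k) :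
    ∃ z : RatFunc k, P.1 (g - z) ≤ 1 ∧ ∀ R, R ≠ P → R.1 z ≤ 1 := by
  classical
  have hK₀ := RatPlace.isFunctionField (k := k)
  have hg0 := Rational.genus_eq_zero_of_adjoin_eq_top hK₀ (RatPlace.adjoin_X_eq_top (k := k))
  have hmem : (Pi.single P g : _root_.FunFld.Place k (RatFunc k) → RatFunc k) ∈ _root_.FunFld.adele k (RatFunc k) := by
    change ∀ᶠ Q : _root_.FunFld.Place k (RatFunc k) in Filter.cofinite, Q.1 ((Pi.single P g : _ → RatFunc k) Q) ≤ 1
    rw [Filter.eventually_cofinite]
    refine (Set.finite_singleton P).subset fun Q hQ => ?_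
    by_contra hne
    exact hQ (by rw [Pi.single_eq_of_ne hne, map_zero]; exact zero_le)
  rw [Riemann.adele_eq_of_delta_eq hK₀ (D := 0) (by rw [Riemann.delta_zero hK₀, hg0]; rfl)] at hmem
  obtain ⟨b, hb, c, ⟨z, rfl⟩, hbc⟩ := Submodule.mem_sup.1 hmem
  have hpt : ∀ R, b R + z = (Pi.single P g : _root_.FunFld.Place k (RatFunc k) → RatFunc k) R := fun R => congrFun hbc R
  have hb' : ∀ R : _root_.FunFld.Place k (RatFunc k), R.1 (b R) ≤ 1 := fun R => (hb R).trans_eq (by simp)
  refine ⟨z, ?_, fun R hR => ?_⟩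
  · have h := hpt P
    rw [Pi.single_eq_same] at h
    rw [← h, add_sub_cancel_right]
    exact hb' P
  · have h := hpt R
    rw [Pi.single_eq_of_ne hR] at h
    rw [eq_neg_of_add_eq_zero_right h, Valuation.map_neg]
    exact hb' R

omit [FiniteDimensional (RatFunc k) K] [CharP k 2] [Algebra (RatFunc k) K] [IsScalarTower k (RatFunc k) K] in
theorem single_mem [DecidableEq (_root_.FunFld.Place k K)] (Q : _root_.FunFld.Place k K) (v : K) :
    (Pi.single Q v : _root_.FunFld.Place k K → K) ∈ _root_.FunFld.adele k K := by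
  change ∀ᶠ R : _root_.FunFld.Place k K in Filter.cofinite, R.1 ((Pi.single Q v : _ → K) R) ≤ 1
  rw [Filter.eventually_cofinite]
  refine (Set.finite_singleton Q).subset fun R hR => ?_
  by_contra hne
  exact hR (by rw [Pi.single_eq_of_ne hne, map_zero]; exact zero_le)

end Groth.Agent.H81.ASPoints
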