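import Groth.Agent.H81.IntClosure
import Mathlib.RingTheory.Unramified.Field
import Mathlib.RingTheory.Polynomial.ScaleRoots
import Mathlib.FieldTheory.PurelyInseparable.Exponent
import Mathlib.FieldTheory.PurelyInseparable.Basic
import Mathlib.RingTheory.Flat.Basic
/-!
# Places under constant field extensions

If `k' ⊗ F_P` is reduced then the integral closure of `O_P` in `k' ⊗ K` is `k' ⊗ O_P`.
-/

set_option autoImplicit false

namespace Groth.Agent.H81.ConstExt

open WithZero Groth.Agent.Lib.FunFld Groth.Agent.Lib.FunFld.Place Polynomial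
open scoped TensorProduct

-- use the module structure coming from `Place.algRes`
attribute [-instance] IsLocalRing.instModuleResidueFieldOfAlgebra

universe u v w
variable {k : Type u} {K : Type v} {K' : Type w} [Field k] [Field K] [Field K']
  [Algebra k K] [Algebra K K'] [Algebra k K'] [IsScalarTower k K K']
variable {k' : Type u} [Field k'] [Algebra k k']
variable (ι : k' →ₐ[k] K')
variable {P : _root_.FunFld.Place k K} [Algebra P.O K'] [IsScalarTower P.O K K']

/-- `k' ⊗ O_P → K'`. -/
noncomputable def Φ : k' ⊗[k] P.O →ₐ[k] K' :=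
  Algebra.TensorProduct.productMap ι ((IsScalarTower.toAlgHom k K K').comp
    { P.O.subtype with commutes' := fun c => coe_algebraMap_O P c })

theorem Φ_tmul (c : k') (a : P.O) : Φ ι (P := P) (c ⊗ₜ a) = ι c * algebraMap K K' (a : K) := by
  simp only [Φ, Algebra.TensorProduct.productMap_apply_tmul]
  rfl

/-- `k' ⊗ O_P → k' ⊗ F_P`. -/
noncomputable def Ψ : k' ⊗[k] P.O →ₐ[k] k' ⊗[k] IsLocalRing.ResidueField P.O :=
  Algebra.TensorProduct.map (AlgHom.id k k') { IsLocalRing.residue P.O with commutes' := fun _ => rfl }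

theorem Ψ_tmul (c : k') (a : P.O) : Ψ (c ⊗ₜ[k] a) = c ⊗ₜ IsLocalRing.residue P.O a := by
  simp [Ψ]

theorem Ψ_surjective : Function.Surjective (Ψ (k := k) (k' := k') (P := P)) := by
  intro z
  induction z using TensorProduct.induction_on with
  | zero => exact ⟨0, map_zero _⟩
  | tmul c r =>
    obtain ⟨a, rfl⟩ := IsLocalRing.residue_surjective r
    exact ⟨c ⊗ₜ a, Ψ_tmul c a⟩
  | add x y hx hy =>
    obtain ⟨a, rfl⟩ := hx
    obtain ⟨b, rfl⟩ := hy
    exact ⟨a + b, map_add _ _ _⟩

theorem exists_repr (b : Module.Basis (Fin (Module.finrank k k')) k k') {M : Type*} [AddCommGroup M]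
    [Module k M] (t : k' ⊗[k] M) : ∃ a : Fin (Module.finrank k k') → M, t = ∑ i, b i ⊗ₜ[k] a i := by
  induction t using TensorProduct.induction_on with
  | zero => exact ⟨0, by simp⟩
  | tmul c m =>
    refine ⟨fun i => b.repr c i • m, ?_⟩
    conv_lhs => rw [← b.sum_repr c]
    rw [TensorProduct.sum_tmul]
    exact Finset.sum_congr rfl fun i _ => TensorProduct.smul_tmul _ _ _
  | add x y hx hy =>
    obtain ⟨a, rfl⟩ := hx
    obtain ⟨a', rfl⟩ := hy
    exact ⟨a + a', by simp [TensorProduct.tmul_add, Finset.sum_add_distrib]⟩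

theorem repr_eq_zero (b : Module.Basis (Fin (Module.finrank k k')) k k') {M : Type*} [AddCommGroup M]
    [Module k M] (a : Fin (Module.finrank k k') → M) (h : ∑ i, b i ⊗ₜ[k] a i = 0) (i) : a i = 0 := by
  have := congrArg (TensorProduct.lift ((LinearMap.lsmul k M).comp (b.coord i))) h
  simpa [Finsupp.single_apply] using this

variable [FiniteDimensional k k']

/-- Elements dying in `k' ⊗ F_P` are multiples of a uniformizer. -/
theorem exists_eq_mul {π : K} (hπ : P.1 π = exp (-1)) (t : k' ⊗[k] P.O) (ht : Ψ t = 0) :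
    ∃ d : k' ⊗[k] P.O, t = d * ((1 : k') ⊗ₜ[k] (⟨π, hπ.le.trans (by rw [← exp_zero, exp_le_exp]; omega)⟩ : P.O)) := by
  let b := Module.finBasis k k'
  obtain ⟨a, rfl⟩ := exists_repr b t
  simp only [map_sum, Ψ_tmul] at ht
  have hπ0 : π ≠ 0 := fun h => exp_ne_zero (by rw [← hπ, h, map_zero])
  have hd : ∀ i, P.1 ((a i : K) / π) ≤ 1 := fun i => by
    have h1 := (res_eq_zero_iff P (a i)).1 (repr_eq_zero b _ ht i)
    rw [map_div₀, hπ, div_le_one₀ exp_pos]
    rcases eq_or_ne (P.1 (a i : K)) 0 with h0 | h0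
    · rw [h0]; exact zero_le
    · have h2 : exp (log (P.1 (a i : K))) < exp (0 : ℤ) := by rw [exp_log h0, exp_zero]; exact h1
      rw [← exp_log h0, exp_le_exp]
      rw [exp_lt_exp] at h2
      omega
  refine ⟨∑ i, b i ⊗ₜ[k] (⟨_, hd i⟩ : P.O), ?_⟩
  rw [Finset.sum_mul]
  refine Finset.sum_congr rfl fun i _ => ?_
  rw [Algebra.TensorProduct.tmul_mul_tmul, mul_one]
  congr 1
  exact Subtype.ext (div_mul_cancel₀ (a i : K) hπ0).symm

variable (hinj : Function.Injective (Algebra.TensorProduct.productMap ι (IsScalarTower.toAlgHom k K K')))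
include hinj

omit [FiniteDimensional k k'] in
theorem Φ_injective : Function.Injective (Φ ι (P := P)) := by
  let s : P.O →ₐ[k] K := { P.O.subtype with commutes' := fun c => coe_algebraMap_O P c }
  have e : Φ ι (P := P) = (Algebra.TensorProduct.productMap ι (IsScalarTower.toAlgHom k K K')).comp
      (Algebra.TensorProduct.map (AlgHom.id k k') s) := by
    refine Algebra.TensorProduct.ext' fun c a => ?_
    simp only [Φ_tmul, AlgHom.comp_apply, Algebra.TensorProduct.map_tmul,
      Algebra.TensorProduct.productMap_apply_tmul]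
    rfl
  rw [e]
  exact hinj.comp (Module.Flat.lTensor_preserves_injective_linearMap (M := k') s.toLinearMap
    Subtype.val_injective)

variable [IsReduced (k' ⊗[k] IsLocalRing.ResidueField P.O)]

omit [FiniteDimensional k k'] in
/-- A multiple of `π` by an integral element dies in `k' ⊗ F_P`. -/
theorem Ψ_eq_zero {π : K} (hπ : P.1 π = exp (-1)) (t : k' ⊗[k] P.O) {y : K'} (hy : IsIntegral P.O y)
    (ht : Φ ι t = algebraMap K K' π * y) : Ψ t = 0 := by
  let πO : P.O := ⟨π, hπ.le.trans (by rw [← exp_zero, exp_le_exp]; omega)⟩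
  obtain ⟨p, hp, hp0⟩ := hy
  let q := p.scaleRoots πO
  let j : P.O →+* k' ⊗[k] P.O := (Algebra.TensorProduct.includeRight (R := k) (A := k') (B := P.O)).toRingHom
  have hΦj : (Φ ι (P := P)).toRingHom.comp j = algebraMap P.O K' := RingHom.ext fun a => by
    show Φ ι ((1 : k') ⊗ₜ a) = _
    rw [Φ_tmul, map_one, one_mul, IntClosure.algebraMap_O]
  have hq : q.eval₂ j t = 0 := by
    refine Φ_injective ι hinj ?_
    rw [map_zero]
    refine (hom_eval₂ q j (Φ ι (P := P)).toRingHom t).trans ?_
    rw [hΦj]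
    show q.eval₂ (algebraMap P.O K') (Φ ι t) = 0
    rw [ht, show algebraMap K K' π = algebraMap P.O K' πO from (IntClosure.algebraMap_O πO).symm]
    exact scaleRoots_eval₂_eq_zero _ hp0
  have hmap : q.map (IsLocalRing.residue P.O) = X ^ p.natDegree := by
    ext i
    rw [coeff_map, coeff_X_pow]
    have hπres : IsLocalRing.residue P.O πO = 0 := by
      rw [res_eq_zero_iff]
      show P.1 π < 1
      rw [hπ, ← exp_zero, exp_lt_exp]; omega
    simp only [q, coeff_scaleRoots]
    rcases lt_trichotomy i p.natDegree with h | h | h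
    · rw [if_neg h.ne, map_mul, map_pow, hπres, zero_pow (by omega), mul_zero]
    · subst h
      rw [if_pos rfl, Nat.sub_self, pow_zero, mul_one, hp.coeff_natDegree, map_one]
    · rw [if_neg h.ne', coeff_eq_zero_of_natDegree_lt h, zero_mul, map_zero]
  refine IsReduced.eq_zero _ ⟨p.natDegree, ?_⟩
  have h := congrArg (Ψ (k' := k') (P := P)) hq
  rw [map_zero] at h
  have hcomp : (Ψ (k := k) (k' := k') (P := P)).toRingHom.comp j =
      (Algebra.TensorProduct.includeRight (R := k) (A := k')
        (B := IsLocalRing.ResidueField P.O)).toRingHom.comp (IsLocalRing.residue P.O) :=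
    RingHom.ext fun a => Ψ_tmul 1 a
  have h' := (hom_eval₂ q j (Ψ (k := k) (k' := k') (P := P)).toRingHom t).symm.trans h
  rw [hcomp, ← eval₂_map, hmap, eval₂_pow, eval₂_X] at h'
  exact h'

/-- Integral elements of `k' K` come from `k' ⊗ O_P`. -/
theorem exists_of_isIntegral (z : k' ⊗[k] K)
    (hz : IsIntegral P.O (Algebra.TensorProduct.productMap ι (IsScalarTower.toAlgHom k K K') z)) :
    ∃ t, Φ ι (P := P) t = Algebra.TensorProduct.productMap ι (IsScalarTower.toAlgHom k K K') z := by
  obtain ⟨π, hπ⟩ := exists_val_eq_exp P (-1)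
  have hπ1 : P.1 π ≤ 1 := hπ.le.trans (by rw [← exp_zero, exp_le_exp]; omega)
  let b := Module.finBasis k k'
  obtain ⟨c, rfl⟩ := exists_repr b z
  set x := Algebra.TensorProduct.productMap ι (IsScalarTower.toAlgHom k K K') (∑ i, b i ⊗ₜ[k] c i)
  have hx : x = ∑ i, ι (b i) * algebraMap K K' (c i) := by simp [x]
  have hN : ∀ N : ℕ, (∀ i, P.1 (c i * π ^ N) ≤ 1) → ∀ i, P.1 (c i) ≤ 1 := by
    intro N
    induction N with
    | zero => simp
    | succ N ih =>
      intro h
      refine ih fun i => ?_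
      let t : k' ⊗[k] P.O := ∑ i, b i ⊗ₜ[k] (⟨_, h i⟩ : P.O)
      have ht : Φ ι t = algebraMap K K' π * (algebraMap K K' (π ^ N) * x) := by
        simp only [t, map_sum, Φ_tmul, hx, map_mul, map_pow, Finset.mul_sum]
        exact Finset.sum_congr rfl fun i _ => by ring
      have hint : IsIntegral P.O (algebraMap K K' (π ^ N) * x) := by
        refine IsIntegral.mul ?_ hz
        have : algebraMap K K' (π ^ N) = algebraMap P.O K' (⟨π, hπ1⟩ ^ N) := by
          rw [IntClosure.algebraMap_O]; rfl
        rw [this]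
        exact isIntegral_algebraMap
      have h0 := Ψ_eq_zero ι hinj hπ t hint ht
      simp only [t, map_sum, Ψ_tmul] at h0
      have h1 := (res_eq_zero_iff P _).1 (repr_eq_zero b _ h0 i)
      change P.1 (c i * π ^ (N + 1)) < 1 at h1
      rw [pow_succ, ← mul_assoc, map_mul, hπ] at h1
      rcases eq_or_ne (P.1 (c i * π ^ N)) 0 with h2 | h2
      · rw [h2]; exact zero_le
      · have h3 : exp (log (P.1 (c i * π ^ N)) + (-1)) < exp (0 : ℤ) := by
          rw [exp_add, exp_log h2, exp_zero]; exact h1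
        rw [exp_lt_exp] at h3
        rw [← exp_log h2]
        exact (exp_le_exp.2 (show _ ≤ (0 : ℤ) by omega)).trans exp_zero.le
  have hc : ∀ i, P.1 (c i) ≤ 1 := by
    refine hN (Finset.univ.sup fun i => (-(P.ord (c i))).toNat) fun i => ?_
    rcases eq_or_ne (c i) 0 with h0 | h0
    · simp [h0]
    rw [map_mul, map_pow, hπ, val_eq_exp P h0, ← exp_nsmul, ← exp_add]
    refine (exp_le_exp.2 (show _ ≤ (0 : ℤ) from ?_)).trans exp_zero.le
    rw [nsmul_eq_mul]
    have := Finset.le_sup (f := fun i => (-(P.ord (c i))).toNat) (Finset.mem_univ i)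
    simp only [mul_neg, mul_one]
    omega
  exact ⟨∑ i, b i ⊗ₜ[k] (⟨c i, hc i⟩ : P.O), by simp [hx, Φ_tmul]⟩

/-- No ramification. -/
theorem ramification_eq_one [FiniteDimensional K K'] (hK : _root_.FunFld.IsFunctionField k K)
    (hsurj : Function.Surjective (Algebra.TensorProduct.productMap ι (IsScalarTower.toAlgHom k K K')))
    {Q : _root_.FunFld.Place k K'} {e : ℕ} (he : _root_.FunFld.IsOverWith Q P e) : e = 1 := by
  classical
  by_contra hne
  have hpos := Ext.pos_of_isOverWith he
  obtain ⟨π, hπ⟩ := exists_val_eq_exp P (-1)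
  have hπ0 : algebraMap K K' π ≠ 0 := by
    simp only [ne_eq, map_eq_zero]
    rintro rfl
    exact exp_ne_zero (hπ.symm.trans (map_zero _))
  let S := (Ext.finite_over (K' := K') hK P).toFinset
  obtain ⟨u, hu⟩ := exists_val_eq_exp Q (-1)
  obtain ⟨x, hx⟩ := Approx.approximation S (fun Q' => if Q' = Q then u else 0) (fun _ => -2)
  have hxQ : Q.1 x = exp (-1) := by
    have h1 := hx Q ((Set.Finite.mem_toFinset _).2 ⟨e, he⟩)
    rw [if_pos rfl] at h1
    rw [← hu]
    have h2 : Q.1 (x - u) < Q.1 u := by rw [hu]; exact h1.trans_lt (exp_lt_exp.2 (by omega))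
    simpa using Q.1.map_add_eq_of_lt_left h2
  have hxS : ∀ Q', _root_.FunFld.IsOver Q' P → Q'.1 x ≤ exp (-1) := by
    intro Q' hQ'
    by_cases h : Q' = Q
    · subst h; exact hxQ.le
    have h1 := hx Q' ((Set.Finite.mem_toFinset _).2 hQ')
    rw [if_neg h, sub_zero] at h1
    exact h1.trans (exp_le_exp.2 (by omega))
  have hxint : IsIntegral P.O x := (IntClosure.isIntegral_iff hK).2 fun Q' hQ' =>
    (hxS Q' hQ').trans (by rw [← exp_zero, exp_le_exp]; omega)
  let N := S.sup fun Q' => _root_.FunFld.ramIdx Q' P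
  have hy : IsIntegral P.O (x ^ N / algebraMap K K' π) := (IntClosure.isIntegral_iff hK).2 fun Q' hQ' => by
    have hN : _root_.FunFld.ramIdx Q' P ≤ N :=
      Finset.le_sup (f := fun Q' => _root_.FunFld.ramIdx Q' P) ((Set.Finite.mem_toFinset _).2 hQ')
    rw [map_div₀, Ext.isOverWith_ramIdx hQ', hπ, ← exp_nsmul, div_le_one₀ exp_pos, map_pow]
    refine (pow_le_pow_left₀ zero_le (hxS Q' hQ') N).trans ?_
    rw [← exp_nsmul, exp_le_exp, nsmul_eq_mul, nsmul_eq_mul]
    simp only [mul_neg, mul_one]
    omega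
  obtain ⟨z, hz⟩ := hsurj x
  obtain ⟨t, ht⟩ := exists_of_isIntegral ι hinj z (hz ▸ hxint)
  rw [hz] at ht
  have h0 := Ψ_eq_zero ι hinj hπ (t ^ N) hy (by rw [map_pow, ht, mul_div_cancel₀ _ hπ0])
  rw [map_pow] at h0
  obtain ⟨d, hd⟩ := exists_eq_mul hπ t (IsReduced.eq_zero _ ⟨N, h0⟩)
  have hdint : Q.1 (Φ ι d) ≤ 1 := by
    obtain ⟨a, rfl⟩ := exists_repr (Module.finBasis k k') d
    rw [map_sum]
    refine Valuation.map_sum_le _ fun i _ => ?_
    rw [Φ_tmul, map_mul, he]
    refine mul_le_one' ?_ (pow_le_one₀ zero_le (a i).2)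
    have hint : IsIntegral P.O (ι (Module.finBasis k k' i)) := by
      obtain ⟨p, hp, hp0⟩ := (Algebra.IsIntegral.isIntegral (R := k) (Module.finBasis k k' i)).map ι
      refine ⟨p.map (algebraMap k P.O), hp.map _, ?_⟩
      rw [eval₂_map]
      have : (algebraMap P.O K').comp (algebraMap k P.O) = algebraMap k K' := RingHom.ext fun c => by
        rw [RingHom.comp_apply, IntClosure.algebraMap_O, coe_algebraMap_O, ← IsScalarTower.algebraMap_apply]
      rw [this]
      exact hp0
    exact (IntClosure.isIntegral_iff hK).1 hint Q ⟨e, he⟩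
  have h1 : Q.1 x ≤ exp (-(2 : ℤ)) := by
    rw [← ht, hd, map_mul, map_mul, Φ_tmul, map_one, one_mul, he, hπ, ← exp_nsmul]
    refine (mul_le_mul' hdint le_rfl).trans ?_
    rw [one_mul, exp_le_exp, nsmul_eq_mul]
    simp only [mul_neg, mul_one]
    omega
  rw [hxQ, exp_le_exp] at h1
  omega

omit hinj [IsReduced (k' ⊗[k] IsLocalRing.ResidueField P.O)] in
/-- `k' ⊗ K` has finite dimension over `K`. -/
theorem finiteDimensional
    (hsurj : Function.Surjective (Algebra.TensorProduct.productMap ι (IsScalarTower.toAlgHom k K K'))) :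
    FiniteDimensional K K' := by
  classical
  let b := Module.finBasis k k'
  refine ⟨⟨Finset.univ.image (fun i => ι (b i)), ?_⟩⟩
  rw [eq_top_iff]
  rintro x -
  obtain ⟨z, rfl⟩ := hsurj x
  obtain ⟨c, rfl⟩ := exists_repr b z
  rw [map_sum]
  refine Submodule.sum_mem _ fun i _ => ?_
  rw [Algebra.TensorProduct.productMap_apply_tmul, IsScalarTower.toAlgHom_apply, mul_comm, ← Algebra.smul_def]
  exact Submodule.smul_mem _ _ (Submodule.subset_span (Finset.mem_coe.2 (Finset.mem_image.2 ⟨i, Finset.mem_univ _, rfl⟩)))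

theorem integralClosure_eq
    (hsurj : Function.Surjective (Algebra.TensorProduct.productMap ι (IsScalarTower.toAlgHom k K K'))) :
    (integralClosure P.O K').toSubring = (Algebra.adjoin P.O (Set.range ι)).toSubring := by
  refine le_antisymm (fun x hx => ?_) ?_
  · obtain ⟨z, rfl⟩ := hsurj x
    obtain ⟨t, ht⟩ := exists_of_isIntegral ι hinj z hx
    rw [← ht]
    obtain ⟨a, rfl⟩ := exists_repr (Module.finBasis k k') t
    rw [map_sum]
    refine Subalgebra.sum_mem _ fun i _ => ?_
    rw [Φ_tmul, ← IntClosure.algebraMap_O]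
    exact Subalgebra.mul_mem _ (Algebra.subset_adjoin ⟨_, rfl⟩) (Subalgebra.algebraMap_mem _ _)
  · intro x hx
    refine (Algebra.adjoin_le ?_ : Algebra.adjoin P.O (Set.range ι) ≤ integralClosure P.O K') hx
    rintro _ ⟨c, rfl⟩
    obtain ⟨p, hp, hp0⟩ := (Algebra.IsIntegral.isIntegral (R := k) c).map ι
    refine ⟨p.map (algebraMap k P.O), hp.map _, ?_⟩
    rw [eval₂_map]
    have : (algebraMap P.O K').comp (algebraMap k P.O) = algebraMap k K' := RingHom.ext fun c => by
      rw [RingHom.comp_apply, IntClosure.algebraMap_O, coe_algebraMap_O, ← IsScalarTower.algebraMap_apply]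
    rw [this]
    exact hp0

omit hinj [IsReduced (k' ⊗[k] IsLocalRing.ResidueField P.O)] in
theorem isReduced_of_isSeparable_left [Algebra.IsSeparable k k'] :
    IsReduced (k' ⊗[k] IsLocalRing.ResidueField P.O) := by
  have := Algebra.FormallyUnramified.of_isSeparable k k'
  have := Algebra.FormallyUnramified.isReduced_of_field (IsLocalRing.ResidueField P.O)
    (IsLocalRing.ResidueField P.O ⊗[k] k')
  exact isReduced_of_injective (Algebra.TensorProduct.comm k k' (IsLocalRing.ResidueField P.O))
    (Algebra.TensorProduct.comm k k' (IsLocalRing.ResidueField P.O)).injective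

omit hinj [IsReduced (k' ⊗[k] IsLocalRing.ResidueField P.O)] [FiniteDimensional k k'] in
theorem isReduced_of_isSeparable_right (hK : _root_.FunFld.IsFunctionField k K)
    [Algebra.IsSeparable k (IsLocalRing.ResidueField P.O)] :
    IsReduced (k' ⊗[k] IsLocalRing.ResidueField P.O) := by
  have : FiniteDimensional k (IsLocalRing.ResidueField P.O) :=
    Module.finite_of_finrank_pos (Existence.deg_pos hK P)
  have := Algebra.FormallyUnramified.of_isSeparable k (IsLocalRing.ResidueField P.O)
  exact Algebra.FormallyUnramified.isReduced_of_field k' (k' ⊗[k] IsLocalRing.ResidueField P.O)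

omit hinj [IsReduced (k' ⊗[k] IsLocalRing.ResidueField P.O)] in
set_option backward.isDefEq.respectTransparency false in
/-- A point has a single point above it in a purely inseparable situation. -/
theorem existsUnique_over (hK : _root_.FunFld.IsFunctionField k K)
    (hbij : Function.Bijective (Algebra.TensorProduct.productMap ι (IsScalarTower.toAlgHom k K K')))
    (hpi : IsPurelyInseparable k k' ∨ IsPurelyInseparable k (IsLocalRing.ResidueField P.O)) :
    ∃! Q : _root_.FunFld.Place k K', _root_.FunFld.IsOver Q P := by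
  classical
  have : FiniteDimensional K K' := finiteDimensional ι hbij.2
  obtain ⟨Q₁, hQ₁⟩ := Ext.exists_over (K' := K') hK P
  refine ⟨Q₁, hQ₁, fun Q₂ hQ₂ => ?_⟩
  by_contra hne
  let L := separableClosure k k'
  let ι' : L →ₐ[k] K' := ι.comp L.val
  have hinj' : Function.Injective
      (Algebra.TensorProduct.productMap ι' (IsScalarTower.toAlgHom k K K')) := by
    have e : Algebra.TensorProduct.productMap ι' (IsScalarTower.toAlgHom k K K') =
        (Algebra.TensorProduct.productMap ι (IsScalarTower.toAlgHom k K K')).comp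
          (Algebra.TensorProduct.map L.val (AlgHom.id k K)) :=
      Algebra.TensorProduct.ext' fun c a => by simp [ι']
    rw [e]
    exact hbij.1.comp (Module.Flat.rTensor_preserves_injective_linearMap (M := K) L.val.toLinearMap
      Subtype.val_injective)
  have : IsReduced (L ⊗[k] IsLocalRing.ResidueField P.O) := isReduced_of_isSeparable_left (k' := L) (P := P)
  have hunit : ∀ z : L ⊗[k] IsLocalRing.ResidueField P.O, z = 0 ∨ IsUnit z := by
    rcases hpi with h | h
    · have : IsPurelyInseparable k k' := h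
      have hL : ∀ c : L, ∃ a : k, algebraMap k L a = c := fun c => by
        have hc : (c : k') ∈ (⊥ : IntermediateField k k') := by
          rw [← separableClosure.eq_bot_of_isPurelyInseparable k k']; exact c.2
        obtain ⟨a, ha⟩ := IntermediateField.mem_bot.1 hc
        exact ⟨a, Subtype.ext ha⟩
      intro z
      have hz : ∃ f, z = (1 : L) ⊗ₜ[k] f := by
        induction z using TensorProduct.induction_on with
        | zero => exact ⟨0, by simp⟩
        | tmul c f =>
          obtain ⟨a, rfl⟩ := hL c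
          exact ⟨a • f, by rw [Algebra.algebraMap_eq_smul_one, TensorProduct.smul_tmul]⟩
        | add x y hx hy =>
          obtain ⟨f, rfl⟩ := hx
          obtain ⟨g, rfl⟩ := hy
          exact ⟨f + g, (TensorProduct.tmul_add _ _ _).symm⟩
      obtain ⟨f, rfl⟩ := hz
      rcases eq_or_ne f 0 with rfl | hf
      · exact Or.inl (TensorProduct.tmul_zero _ _)
      · exact Or.inr ((IsUnit.mk0 f hf).map (Algebra.TensorProduct.includeRight (R := k) (A := L)))
    · have : IsPurelyInseparable k (IsLocalRing.ResidueField P.O) := h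
      have : FiniteDimensional k (IsLocalRing.ResidueField P.O) :=
        Module.finite_of_finrank_pos (Existence.deg_pos hK P)
      obtain ⟨p, hp⟩ := ExpChar.exists k
      obtain ⟨n, hn⟩ : ∃ n : ℕ, ∀ f : IsLocalRing.ResidueField P.O,
          f ^ p ^ n ∈ (algebraMap k (IsLocalRing.ResidueField P.O)).range :=
        ⟨_, IsPurelyInseparable.exponent_def' k p⟩
      intro z
      rcases eq_or_ne z 0 with h0 | h0
      · exact Or.inl h0
      right
      have : Nontrivial (L ⊗[k] IsLocalRing.ResidueField P.O) := ⟨⟨z, 0, h0⟩⟩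
      have : ExpChar (L ⊗[k] IsLocalRing.ResidueField P.O) p :=
        expChar_of_injective_algebraMap (algebraMap k (L ⊗[k] IsLocalRing.ResidueField P.O)).injective p
      have hmem : ∀ w : L ⊗[k] IsLocalRing.ResidueField P.O, ∃ c : L, w ^ p ^ n = c ⊗ₜ[k] 1 := by
        intro w
        induction w using TensorProduct.induction_on with
        | zero => exact ⟨0, (zero_pow (M₀ := L ⊗[k] IsLocalRing.ResidueField P.O) (expChar_pow_pos k p n).ne').trans (TensorProduct.zero_tmul L (1 : IsLocalRing.ResidueField P.O)).symm⟩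
        | tmul c f =>
          obtain ⟨a, ha⟩ := hn f
          refine ⟨c ^ p ^ n * algebraMap k L a, ?_⟩
          rw [Algebra.TensorProduct.tmul_pow, ← ha, Algebra.algebraMap_eq_smul_one,
            Algebra.algebraMap_eq_smul_one, mul_smul_comm, mul_one, TensorProduct.smul_tmul]
        | add x y hx hy =>
          obtain ⟨c, hc⟩ := hx
          obtain ⟨d, hd⟩ := hy
          refine ⟨c + d, (add_pow_expChar_pow (R := L ⊗[k] IsLocalRing.ResidueField P.O) x y p n).trans ?_⟩
          rw [TensorProduct.add_tmul, hc, hd]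
      obtain ⟨c, hc⟩ := hmem z
      refine (isUnit_pow_iff (expChar_pow_pos k p n).ne').1 ?_
      rw [hc]
      refine (IsUnit.mk0 c ?_).map (Algebra.TensorProduct.includeLeft (R := k) (S := k) (A := L))
      rintro rfl
      exact h0 (IsReduced.eq_zero _ ⟨p ^ n, by rw [hc, TensorProduct.zero_tmul]⟩)
  -- separate the two places
  obtain ⟨π, hπ⟩ := exists_val_eq_exp P (-1)
  obtain ⟨x, hx⟩ := Approx.approximation (Ext.finite_over (K' := K') hK P).toFinset
    (fun Q' => if Q' = Q₁ then 0 else 1) (fun _ => -1)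
  have hlt : exp (-(1 : ℤ)) < (1 : WithZero (Multiplicative ℤ)) := by rw [← exp_zero, exp_lt_exp]; omega
  have hxle : ∀ Q', _root_.FunFld.IsOver Q' P → Q'.1 x ≤ 1 := by
    intro Q' hQ'
    have h1 := hx Q' ((Set.Finite.mem_toFinset _).2 hQ')
    have h2 := Q'.1.map_add (x - if Q' = Q₁ then 0 else 1) (if Q' = Q₁ then 0 else 1)
    rw [sub_add_cancel] at h2
    refine h2.trans (max_le (h1.trans hlt.le) ?_)
    split_ifs <;> simp
  have hx1 : Q₁.1 x < 1 := by
    have h1 := hx Q₁ ((Set.Finite.mem_toFinset _).2 hQ₁)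
    rw [if_pos rfl, sub_zero] at h1
    exact h1.trans_lt hlt
  have hx2 : Q₂.1 x = 1 := by
    have h1 := hx Q₂ ((Set.Finite.mem_toFinset _).2 hQ₂)
    rw [if_neg hne] at h1
    have h2 : Q₂.1 (x - 1) < Q₂.1 1 := by rw [map_one]; exact h1.trans_lt hlt
    simpa using Q₂.1.map_add_eq_of_lt_left h2
  have hxint : IsIntegral P.O x := (IntClosure.isIntegral_iff hK).2 hxle
  have : IsPurelyInseparable L k' := separableClosure.isPurelyInseparable k k'
  obtain ⟨p, hp⟩ := ExpChar.exists k
  have : ExpChar L p := expChar_of_injective_algebraMap (algebraMap k L).injective p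
  have : ExpChar K' p := expChar_of_injective_algebraMap (algebraMap k K').injective p
  obtain ⟨n, hn⟩ : ∃ n : ℕ, ∀ c : k', c ^ p ^ n ∈ (algebraMap L k').range :=
    ⟨_, IsPurelyInseparable.exponent_def' L p⟩
  obtain ⟨z, hz⟩ := hbij.2 x
  obtain ⟨z', hz'⟩ : ∃ z' : L ⊗[k] K,
      Algebra.TensorProduct.productMap ι' (IsScalarTower.toAlgHom k K K') z' =
        (Algebra.TensorProduct.productMap ι (IsScalarTower.toAlgHom k K K') z) ^ p ^ n := by
    clear hz
    induction z using TensorProduct.induction_on with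
    | zero => exact ⟨0, by rw [map_zero, map_zero, zero_pow (expChar_pow_pos k p n).ne']⟩
    | tmul c a =>
      obtain ⟨l, hl⟩ := hn c
      refine ⟨l ⊗ₜ (a ^ p ^ n), ?_⟩
      simp only [Algebra.TensorProduct.productMap_apply_tmul, ι', AlgHom.comp_apply, mul_pow, map_pow]
      congr 1
      rw [← map_pow, ← hl]
      rfl
    | add a c ha hc =>
      obtain ⟨a', ha'⟩ := ha
      obtain ⟨c', hc'⟩ := hc
      exact ⟨a' + c', by rw [map_add, map_add, ha', hc', add_pow_expChar_pow]⟩
  rw [hz] at hz'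
  obtain ⟨t, ht⟩ := exists_of_isIntegral ι' hinj' (P := P) z' (by rw [hz']; exact hxint.pow _)
  rw [hz'] at ht
  have hΦint : ∀ s : L ⊗[k] P.O, IsIntegral P.O (Φ ι' s) := by
    intro s
    obtain ⟨a, rfl⟩ := exists_repr (Module.finBasis k L) s
    rw [map_sum]
    refine IsIntegral.sum _ fun i _ => ?_
    rw [Φ_tmul, ← IntClosure.algebraMap_O]
    refine IsIntegral.mul ?_ isIntegral_algebraMap
    obtain ⟨q, hq, hq0⟩ := (Algebra.IsIntegral.isIntegral (R := k) (Module.finBasis k L i)).map ι'
    refine ⟨q.map (algebraMap k P.O), hq.map _, ?_⟩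
    rw [eval₂_map]
    have : (algebraMap P.O K').comp (algebraMap k P.O) = algebraMap k K' := RingHom.ext fun c => by
      rw [RingHom.comp_apply, IntClosure.algebraMap_O, coe_algebraMap_O, ← IsScalarTower.algebraMap_apply]
    rw [this]
    exact hq0
  have hsmall : ∀ (Q : _root_.FunFld.Place k K') (s : L ⊗[k] P.O), _root_.FunFld.IsOver Q P →
      Ψ s = 0 → Q.1 (Φ ι' s) < 1 := by
    intro Q s hQ hs
    obtain ⟨d, rfl⟩ := exists_eq_mul hπ s hs
    obtain ⟨e, he⟩ := hQ
    rw [map_mul, Φ_tmul, map_one, one_mul, map_mul, he, hπ]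
    exact mul_lt_one_of_nonneg_of_lt_one_right
      ((IntClosure.isIntegral_iff hK).1 (hΦint d) Q ⟨e, he⟩) zero_le
      (pow_lt_one₀ zero_le hlt (Ext.pos_of_isOverWith he).ne')
  rcases hunit (Ψ t) with h0 | h0
  · have h1 := hsmall Q₂ t hQ₂ h0
    rw [ht, map_pow, hx2, one_pow] at h1
    exact lt_irrefl _ h1
  · obtain ⟨w, hw⟩ := h0.exists_right_inv
    obtain ⟨s, rfl⟩ := Ψ_surjective w
    have h1 := hsmall Q₁ (t * s - 1) hQ₁ (by rw [map_sub, map_mul, hw, map_one, sub_self])
    rw [map_sub, map_mul, map_one, ht] at h1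
    have h2 : Q₁.1 (x ^ p ^ n * Φ ι' s) < 1 := by
      rw [map_mul, map_pow]
      exact mul_lt_one_of_nonneg_of_lt_one_left zero_le
        (pow_lt_one₀ zero_le hx1 (expChar_pow_pos k p n).ne')
        ((IntClosure.isIntegral_iff hK).1 (hΦint s) Q₁ hQ₁)
    have h3 : Q₁.1 (x ^ p ^ n * Φ ι' s - 1) = 1 := by
      rw [Valuation.map_sub_swap]
      exact (Q₁.1.map_one_sub_of_lt h2)
    exact h1.ne h3

end Groth.Agent.H81.ConstExt
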