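import Groth.Agent.H81.ConstPlace
import Mathlib.FieldTheory.IntermediateField.Adjoin.Algebra
import Mathlib.FieldTheory.AlgebraicClosure
/-!
# The constant field of a finitely generated field of transcendence degree one
-/

set_option autoImplicit false

namespace Groth.Agent.H81.ConstField

open WithZero Groth.Agent.Lib.FunFld

universe u v
variable {k : Type u} {L : Type v} [Field k] [Field L] [Algebra k L]

set_option backward.isDefEq.respectTransparency false in
theorem finite (hL : Gen.Bound.IsFF k L) : FiniteDimensional k (algebraicClosure k L) := by
  obtain ⟨x, hx, -⟩ := id hL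
  obtain ⟨R, -⟩ := Gen.Existence.exists_zero hL hx
  have := Gen.Existence.finiteDimensional_residueField hL R
  have hO : ∀ c : algebraicClosure k L, (c : L) ∈ R.O := fun c => by
    have hc : IsIntegral k (c : L) := ((mem_algebraicClosure_iff).1 c.2).isIntegral
    have : IsScalarTower k R.O L := IsScalarTower.of_algebraMap_eq fun c => by
      rw [Algebra.algebraMap_ofSubsemiring_apply]
      exact (Place.coe_algebraMap_O R c).symm
    obtain ⟨a, ha⟩ := IsIntegrallyClosed.isIntegral_iff.1 (hc.tower_top (A := R.O))
    rw [← ha]
    exact a.2
  let j : algebraicClosure k L →ₐ[k] IsLocalRing.ResidueField R.O :=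
    { (IsLocalRing.residue R.O).comp ((algebraicClosure k L).val.toRingHom.codRestrict R.O.toSubring hO) with
      commutes' := fun c => by
        show IsLocalRing.residue R.O _ = IsLocalRing.residue R.O (algebraMap k R.O c)
        congr 1 }
  exact FiniteDimensional.of_injective j.toLinearMap j.toRingHom.injective

theorem isFunctionField (hL : Gen.Bound.IsFF k L) :
    _root_.FunFld.IsFunctionField (algebraicClosure k L) L := by
  have : Algebra.IsAlgebraic k (algebraicClosure k L) := algebraicClosure.isAlgebraic k L
  refine ⟨?_, fun y hy => ?_⟩
  · obtain ⟨x, hx, hfin⟩ := hL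
    refine ⟨x, hx.extendScalars _, ?_⟩
    let A := IntermediateField.adjoin k ({x} : Set L)
    let B := IntermediateField.adjoin (algebraicClosure k L) ({x} : Set L)
    have hle : A ≤ B.restrictScalars k := IntermediateField.adjoin_le_iff.2
      (IntermediateField.subset_adjoin (algebraicClosure k L) _)
    let jAB : A →+* B :=
      { toFun := fun a => ⟨(a : L), hle a.2⟩
        map_one' := rfl
        map_mul' := fun _ _ => rfl
        map_zero' := rfl
        map_add' := fun _ _ => rfl }
    let _ := jAB.toAlgebra
    have : IsScalarTower A B L := IsScalarTower.of_algebraMap_eq fun _ => rfl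
    exact Module.Finite.right A B L
  · exact ⟨⟨y, (mem_algebraicClosure_iff).2 (hy.restrictScalars k)⟩, rfl⟩

end Groth.Agent.H81.ConstField
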