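import Groth.Agent.Lib.FunFld.Ext
/-!
# Places do not see a finite extension of the constants
-/

set_option autoImplicit false

namespace Groth.Agent.H81.ConstPlace

open WithZero Groth.Agent.Lib.FunFld

universe u u' v
variable {k : Type u} {k' : Type u'} {L : Type v} [Field k] [Field k'] [Field L] [Algebra k k'] [Algebra k L]
  [Algebra k' L] [IsScalarTower k k' L] [FiniteDimensional k k']

theorem val_algebraMap_le (Q : _root_.FunFld.Place k L) (c : k') : Q.1 (algebraMap k' L c) ≤ 1 := by
  have h : IsIntegral Q.O (algebraMap k' L c) := by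
    have h1 : IsIntegral k (algebraMap k' L c) :=
      (Algebra.IsIntegral.isIntegral c).map (IsScalarTower.toAlgHom k k' L)
    have : IsScalarTower k Q.O L := IsScalarTower.of_algebraMap_eq fun c => by
      rw [Algebra.algebraMap_ofSubsemiring_apply]
      exact (Place.coe_algebraMap_O Q c).symm
    exact h1.tower_top
  obtain ⟨a, ha⟩ := IsIntegrallyClosed.isIntegral_iff.1 h
  rw [← ha]
  exact a.2

variable (k k' L) in
/-- Places over `k'` are places over `k`. -/
def equiv : _root_.FunFld.Place k' L ≃ _root_.FunFld.Place k L where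
  toFun Q := ⟨Q.1, fun c => by rw [IsScalarTower.algebraMap_apply k k' L]; exact Q.2.1 _, Q.2.2⟩
  invFun Q := ⟨Q.1, val_algebraMap_le Q, Q.2.2⟩
  left_inv _ := rfl
  right_inv _ := rfl

set_option backward.isDefEq.respectTransparency false in
theorem deg_equiv (Q : _root_.FunFld.Place k' L) :
    (equiv k k' L Q).deg = Module.finrank k k' * Q.deg := by
  let Q' := equiv k k' L Q
  show Module.finrank k (IsLocalRing.ResidueField Q'.O) = _
  let _ : Algebra k (IsLocalRing.ResidueField Q.O) :=
    ((algebraMap k' (IsLocalRing.ResidueField Q.O)).comp (algebraMap k k')).toAlgebra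
  have : IsScalarTower k k' (IsLocalRing.ResidueField Q.O) := IsScalarTower.of_algebraMap_eq fun _ => rfl
  let e : IsLocalRing.ResidueField Q'.O ≃+* IsLocalRing.ResidueField Q.O :=
    IsLocalRing.ResidueField.mapEquiv (RingEquiv.refl Q.O : Q'.O ≃+* Q.O)
  have he : ∀ c : k, e (algebraMap k (IsLocalRing.ResidueField Q'.O) c) =
      algebraMap k (IsLocalRing.ResidueField Q.O) c := fun c => by
    show IsLocalRing.residue Q.O _ = IsLocalRing.residue Q.O (algebraMap k' Q.O (algebraMap k k' c))
    congr 1
    refine Subtype.ext ?_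
    show ((algebraMap k Q'.O c : Q'.O) : L) = _
    rw [Place.coe_algebraMap_O, Place.coe_algebraMap_O, ← IsScalarTower.algebraMap_apply]
  refine ((AlgEquiv.ofRingEquiv (f := e) he).toLinearEquiv.finrank_eq).trans ?_
  exact (Module.finrank_mul_finrank k k' (IsLocalRing.ResidueField Q.O)).symm

theorem ord_equiv (Q : _root_.FunFld.Place k' L) (x : L) : (equiv k k' L Q).ord x = Q.ord x := rfl

end Groth.Agent.H81.ConstPlace
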