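import Groth.Agent.Lib.FunFld.Ext
import Mathlib.RingTheory.Flat.Basic
import Mathlib.RingTheory.Algebraic.Basic
import Mathlib.Algebra.Polynomial.Basis
/-!
# Constant extensions keep the degree over a rational subfield
-/

set_option autoImplicit false

namespace Groth.Agent.H81.ConstRank

open IntermediateField Polynomial
open scoped TensorProduct

universe u v u' v'
variable {k : Type u} {K : Type v} {k' : Type u'} {K' : Type v'} [Field k] [Field K] [Field k'] [Field K']
  [Algebra k K] [Algebra k k'] [Algebra k' K'] [Algebra k K'] [IsScalarTower k k' K']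

/-- The map `k' ⊗ K → K'` is `k'`-linear. -/
theorem sum_smul (φ : K →ₐ[k] K')
    (hinj : Function.Injective (Algebra.TensorProduct.productMap (IsScalarTower.toAlgHom k k' K') φ))
    {ι : Type*} {w : ι → K} (hw : LinearIndependent k w) :
    LinearIndependent k' (fun i => φ (w i)) := by
  let m : k' ⊗[k] K →ₐ[k'] K' :=
    Algebra.TensorProduct.lift (Algebra.ofId k' K') φ fun _ _ => .all _ _
  have hm : Function.Injective m.toLinearMap := by
    convert hinj using 1
    funext z
    induction z using TensorProduct.induction_on with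
    | zero => simp
    | tmul a b => simp [m]
    | add a b ha hb => simp only [map_add] at ha hb ⊢; rw [ha, hb]
  have := (Module.Flat.linearIndependent_one_tmul (S := k') hw).map' m.toLinearMap
    (LinearMap.ker_eq_bot.2 hm)
  rwa [show (⇑m.toLinearMap ∘ fun x => (1 : k') ⊗ₜ[k] w x) = fun i => φ (w i) from
    funext fun i => by simp [m]] at this

variable [Algebra.IsAlgebraic k k']

theorem transcendental_map (φ : K →ₐ[k] K') {z : K} (hz : Transcendental k z) :
    Transcendental k' (φ z) := fun h =>
  hz ((isAlgebraic_algHom_iff φ φ.toRingHom.injective).1 (h.restrictScalars k))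

omit [Algebra.IsAlgebraic k k'] in
theorem aeval_map (φ : K →ₐ[k] K') {z : K} (p : k[X]) :
    φ (aeval z p) = aeval (φ z) (p.map (algebraMap k k')) := by
  rw [aeval_map_algebraMap, aeval_algHom_apply]

omit [Algebra.IsAlgebraic k k'] in
/-- The degree over the field generated by a transcendental element does not change. -/
theorem finrank_adjoin (φ : K →ₐ[k] K')
    (hbij : Function.Bijective (Algebra.TensorProduct.productMap (IsScalarTower.toAlgHom k k' K') φ))
    {z : K} (hz : Transcendental k z) [FiniteDimensional (adjoin k ({z} : Set K)) K] :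
    FiniteDimensional (adjoin k' ({φ z} : Set K')) K' ∧
      Module.finrank (adjoin k' ({φ z} : Set K')) K' = Module.finrank (adjoin k ({z} : Set K)) K := by
  classical
  let F := adjoin k ({z} : Set K)
  let E := adjoin k' ({φ z} : Set K')
  let b := Module.finBasis F K
  have hmem : ∀ p : k'[X], aeval (φ z) p ∈ E := fun p => by
    rw [← show ((aeval (⟨φ z, mem_adjoin_simple_self k' _⟩ : E) p : E) : K') = aeval (φ z) p from
      (aeval_algHom_apply E.val _ p).symm]
    exact SetLike.coe_mem _
  have hFE : ∀ c : F, φ (c : K) ∈ E := fun c => by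
    obtain ⟨r, s, hrs⟩ := (mem_adjoin_simple_iff k (c : K)).1 c.2
    rw [hrs, map_div₀, aeval_map (k' := k'), aeval_map (k' := k')]
    exact E.div_mem (hmem _) (hmem _)
  let F₀ : F := ⟨z, mem_adjoin_simple_self k z⟩
  -- spanning
  have hspan : ⊤ ≤ Submodule.span E (Set.range fun i => φ (b i)) := by
    rintro x -
    obtain ⟨w, rfl⟩ := hbij.2 x
    induction w using TensorProduct.induction_on with
    | zero => rw [map_zero]; exact zero_mem _
    | add a c ha hc => rw [map_add]; exact add_mem ha hc
    | tmul c a =>
      rw [Algebra.TensorProduct.productMap_apply_tmul, ← b.sum_repr a, map_sum, Finset.mul_sum]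
      refine Submodule.sum_mem _ fun i _ => ?_
      rw [show (b.repr a i) • b i = ((b.repr a i : F) : K) * b i from rfl, map_mul, ← mul_assoc]
      exact Submodule.smul_mem _ (⟨_, E.mul_mem (E.algebraMap_mem c) (hFE (b.repr a i))⟩ : E)
        (Submodule.subset_span ⟨i, rfl⟩)
  -- independence
  have hpow : LinearIndependent k (fun n : ℕ => F₀ ^ n) := by
    have h0 : LinearIndependent k (fun n : ℕ => z ^ n) := by
      have hinj : Function.Injective (aeval z : k[X] →ₐ[k] K).toLinearMap := transcendental_iff_injective.1 hz
      have := (Polynomial.basisMonomials k).linearIndependent.map' _ (LinearMap.ker_eq_bot.2 hinj)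
      rwa [show (⇑(aeval z : k[X] →ₐ[k] K).toLinearMap ∘ ⇑(basisMonomials k)) = fun n : ℕ => z ^ n from
        funext fun n => by simp [Polynomial.coe_basisMonomials]] at this
    exact LinearIndependent.of_comp F.val.toLinearMap (by
      rw [show (⇑F.val.toLinearMap ∘ fun n : ℕ => F₀ ^ n) = fun n : ℕ => z ^ n from
        funext fun n => by simp [F₀]]
      exact h0)
  have hli' : LinearIndependent k' (fun p : ℕ × Fin (Module.finrank F K) => φ (z ^ p.1 * b p.2)) :=
    sum_smul φ hbij.1 (linearIndependent_smul hpow b.linearIndependent :)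
  have hli : LinearIndependent E (fun i => φ (b i)) := by
    rw [Fintype.linearIndependent_iff]
    intro c hc
    choose r s hrs using fun i => (mem_adjoin_simple_iff k' ((c i : E) : K')).1 (c i).2
    let s' := fun i => if aeval (φ z) (s i) = 0 then 1 else s i
    have hs' : ∀ i, aeval (φ z) (s' i) ≠ 0 := fun i => by
      by_cases h : aeval (φ z) (s i) = 0
      · simp [s', h]
      · simpa [s', h] using h
    let r' := fun i => if aeval (φ z) (s i) = 0 then 0 else r i
    have hc' : ∀ i, ((c i : E) : K') * aeval (φ z) (s' i) = aeval (φ z) (r' i) := fun i => by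
      by_cases h : aeval (φ z) (s i) = 0
      · simp [s', r', h, hrs i]
      · simp only [s', r', if_neg h, hrs i, div_mul_cancel₀ _ h]
    let H := fun i => r' i * ∏ j ∈ Finset.univ.erase i, s' j
    have hH : ∀ i, aeval (φ z) (H i) = ((c i : E) : K') * aeval (φ z) (∏ j, s' j) := fun i => by
      rw [map_mul, ← hc', mul_assoc, ← map_mul, Finset.mul_prod_erase _ _ (Finset.mem_univ i)]
    have hsum : ∑ i, aeval (φ z) (H i) * φ (b i) = 0 := by
      have h1 : ∑ i, aeval (φ z) (H i) * φ (b i) =
          aeval (φ z) (∏ j, s' j) * ∑ i, ((c i : E) : K') * φ (b i) := by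
        rw [Finset.mul_sum]
        exact Finset.sum_congr rfl fun i _ => by rw [hH]; ring
      rw [h1, show ∑ i, ((c i : E) : K') * φ (b i) = 0 from hc, mul_zero]
    obtain ⟨N, hN⟩ : ∃ N, ∀ i, (H i).natDegree < N :=
      ⟨(Finset.univ.sup fun i => (H i).natDegree) + 1, fun i =>
        Nat.lt_succ_of_le (Finset.le_sup (f := fun i => (H i).natDegree) (Finset.mem_univ i))⟩
    have hzero : ∀ i n, n < N → (H i).coeff n = 0 := by
      intro i n hn
      refine linearIndependent_iff'.1 hli' (Finset.range N ×ˢ Finset.univ) (fun p => (H p.2).coeff p.1) ?_ (n, i)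
        (Finset.mem_product.2 ⟨Finset.mem_range.2 hn, Finset.mem_univ _⟩)
      rw [Finset.sum_product_right]
      refine (Finset.sum_congr rfl fun j _ => ?_).trans hsum
      rw [aeval_eq_sum_range' (hN j), Finset.sum_mul]
      exact Finset.sum_congr rfl fun m _ => by rw [map_mul, map_pow, smul_mul_assoc]
    intro i
    have h0 : H i = 0 := Polynomial.ext fun n => by
      by_cases hn : n < N
      · rw [hzero i n hn, coeff_zero]
      · rw [coeff_zero]; exact coeff_eq_zero_of_natDegree_lt (by have := hN i; omega)
    have h2 := hH i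
    rw [h0, map_zero] at h2
    rcases mul_eq_zero.1 h2.symm with h | h
    · exact Subtype.ext h
    · rw [map_prod, Finset.prod_eq_zero_iff] at h
      obtain ⟨j, -, hj⟩ := h
      exact absurd hj (hs' j)
  let bE := Module.Basis.mk hli hspan
  exact ⟨Module.Finite.of_basis bE, by rw [Module.finrank_eq_card_basis bE, Fintype.card_fin]⟩

end Groth.Agent.H81.ConstRank
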