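import Groth.Agent.Lib.FunFld.Ext
import Groth.Agent.Lib.FunFld.Approx
import Mathlib.RingTheory.Valuation.LocalSubring
import Mathlib.Algebra.BigOperators.Field
/-!
# Integral closure of a place in a finite extension

It is the intersection of the places above, and it is module finite.
-/

set_option autoImplicit false

namespace Groth.Agent.H81.IntClosure

open WithZero Groth.Agent.Lib.FunFld Groth.Agent.Lib.FunFld.Place

universe u v w
variable {k : Type u} {K : Type v} {K' : Type w} [Field k] [Field K] [Field K']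
  [Algebra k K] [Algebra K K'] [Algebra k K'] [IsScalarTower k K K'] [FiniteDimensional K K']
variable {P : _root_.FunFld.Place k K} [Algebra P.O K'] [IsScalarTower P.O K K']

omit [Algebra k K'] [IsScalarTower k K K'] [FiniteDimensional K K'] in
theorem algebraMap_O (x : P.O) : algebraMap P.O K' x = algebraMap K K' (x : K) :=
  IsScalarTower.algebraMap_apply P.O K K' x

/-- Being integral over `O_P` is being integral at all places above `P`. -/
theorem isIntegral_iff (hK : _root_.FunFld.IsFunctionField k K) {x : K'} :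
    IsIntegral P.O x ↔ ∀ Q : _root_.FunFld.Place k K', _root_.FunFld.IsOver Q P → Q.1 x ≤ 1 := by
  have key := iInf_valuationSubring_superset (K := K') (s := Set.range (algebraMap P.O K'))
  have hcl : Subring.closure (Set.range (algebraMap P.O K')) = (algebraMap P.O K').range := by
    rw [← RingHom.coe_range, Subring.closure_eq]
  constructor
  · rintro hx Q ⟨e, he⟩
    have hsub : Set.range (algebraMap P.O K') ⊆ Q.O.toSubring := by
      rintro _ ⟨a, rfl⟩
      show Q.1 _ ≤ 1
      rw [algebraMap_O, he]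
      exact pow_le_one₀ zero_le a.2
    have hint : IsIntegral (Subring.closure (Set.range (algebraMap P.O K'))) x := by
      obtain ⟨p, hp, hp0⟩ := hx
      let g : P.O →+* Subring.closure (Set.range (algebraMap P.O K')) :=
        (algebraMap P.O K').codRestrict _ fun a => Subring.subset_closure ⟨a, rfl⟩
      refine ⟨p.map g, hp.map g, ?_⟩
      rw [Polynomial.eval₂_map]
      exact hp0
    have hmem : x ∈ (integralClosure (Subring.closure (Set.range (algebraMap P.O K'))) K').toSubring := hint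
    rw [← key] at hmem
    exact (Subring.mem_iInf.1 hmem ⟨Q.O, hsub⟩ : x ∈ Q.O.toSubring)
  · intro hx
    have hmem : x ∈ ⨅ V : {V : ValuationSubring K' // Set.range (algebraMap P.O K') ⊆ V.toSubring},
        V.1.toSubring := by
      rw [Subring.mem_iInf]
      rintro ⟨V, hV⟩
      by_cases htop : V = ⊤
      · subst htop; exact trivial
      have hk : ∀ c : k, algebraMap k K' c ∈ V := fun c => by
        refine hV ⟨⟨algebraMap k K c, P.2.1 c⟩, ?_⟩
        rw [algebraMap_O, ← IsScalarTower.algebraMap_apply]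
      obtain ⟨Q, hQ⟩ := Gen.Existence.exists_place_of_valuationSubring (Ext.isFF_of_finite (K' := K') hK) V hk htop
      obtain ⟨R, e, he0, he⟩ := Ext.exists_place_below hK Q
      have hR : R = P := by
        refine (place_eq_of_O_le fun a ha => ?_).symm
        have h1 : Q.1 (algebraMap K K' a) ≤ 1 := by
          have : algebraMap P.O K' ⟨a, ha⟩ ∈ V := hV ⟨_, rfl⟩
          rw [algebraMap_O, ← hQ] at this
          exact this
        rw [he] at h1
        exact (pow_le_one_iff_of_nonneg zero_le he0.ne').1 h1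
      show x ∈ V
      rw [← hQ]
      exact hx Q ⟨e, hR ▸ he⟩
    rw [key] at hmem
    obtain ⟨p, hp, hp0⟩ : IsIntegral (Subring.closure (Set.range (algebraMap P.O K'))) x := hmem
    let g : P.O →+* Subring.closure (Set.range (algebraMap P.O K')) :=
      (algebraMap P.O K').codRestrict _ fun a => Subring.subset_closure ⟨a, rfl⟩
    have hg : Function.Surjective g := by
      rintro ⟨y, hy⟩
      rw [hcl] at hy
      obtain ⟨a, rfl⟩ := hy
      exact ⟨a, rfl⟩
    obtain ⟨q, hq, -, hq'⟩ := Polynomial.lifts_and_degree_eq_and_monic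
      ((Polynomial.lifts_iff_coeff_lifts p).2 fun i => hg (p.coeff i)) hp
    refine ⟨q, hq', ?_⟩
    rw [← hq, Polynomial.eval₂_map] at hp0
    exact hp0

/-- The integral closure of `O_P` is module finite. -/
theorem finite (hK : _root_.FunFld.IsFunctionField k K) :
    Module.Finite P.O (integralClosure P.O K') := by
  classical
  obtain ⟨π, hπ⟩ := exists_val_eq_exp P (-1)
  have hπ0 : π ≠ 0 := fun h => exp_ne_zero (by rw [← hπ, h, map_zero])
  have hπ1 : P.1 π ≤ 1 := hπ.le.trans (by rw [← exp_zero, exp_le_exp]; omega)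
  let πO : P.O := ⟨π, hπ1⟩
  let ψ := algebraMap K K'
  have hψπ : ψ π ≠ 0 := by simpa [ψ] using hπ0
  have hdvd : ∀ a : P.O, P.1 (a : K) < 1 → ∃ b : P.O, a = πO * b := fun a ha => by
    refine ⟨⟨(a : K) / π, ?_⟩, Subtype.ext (mul_div_cancel₀ (a : K) hπ0).symm⟩
    show P.1 _ ≤ 1
    rw [map_div₀, hπ, div_le_one₀ exp_pos]
    rcases eq_or_ne (P.1 (a : K)) 0 with h0 | h0
    · rw [h0]; exact zero_le
    · have h1 : exp (log (P.1 (a : K))) < exp (0 : ℤ) := by rw [exp_log h0, exp_zero]; exact ha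
      rw [← exp_log h0, exp_le_exp]
      rw [exp_lt_exp] at h1
      omega
  let R := integralClosure P.O K'
  let Indep : ∀ {r : ℕ}, (Fin r → K') → Prop := fun {r} m => ∀ a : Fin r → P.O,
    (∃ y ∈ R, ∑ i, algebraMap P.O K' (a i) * m i = ψ π * y) → ∀ i, P.1 (a i : K) < 1
  -- families independent modulo `π` are independent over `K`
  have hli : ∀ {r : ℕ} (m : Fin r → K'), Indep m → LinearIndependent K m := by
    intro r m hm
    rw [Fintype.linearIndependent_iff]
    intro c hc
    by_contra hne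
    push Not at hne
    obtain ⟨i₀, hi₀⟩ := hne
    obtain ⟨i₁, -, hmax⟩ := Finset.exists_max_image Finset.univ (fun i => P.1 (c i)) ⟨i₀, Finset.mem_univ _⟩
    have hc1 : c i₁ ≠ 0 := fun h => hi₀ ((Valuation.zero_iff P.1).1 (le_antisymm
      ((hmax i₀ (Finset.mem_univ _)).trans (by rw [h, map_zero])) zero_le))
    let a : Fin r → P.O := fun i => ⟨c i / c i₁, by
      show P.1 _ ≤ 1
      rw [map_div₀]
      exact div_le_one_of_le₀ (hmax i (Finset.mem_univ _)) zero_le⟩
    have h1 := hm a ⟨0, R.zero_mem, by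
      have h : ∑ i, algebraMap K K' (c i) * m i = 0 := by simpa [Algebra.smul_def] using hc
      simp only [a, algebraMap_O, map_div₀, div_mul_eq_mul_div, mul_zero]
      rw [← Finset.sum_div, h, zero_div]⟩ i₁
    simp [a, div_self hc1] at h1
  let Good : ℕ → Prop := fun r => ∃ m : Fin r → K', (∀ i, m i ∈ R) ∧ Indep m
  have hbound : ∀ r, Good r → r ≤ Module.finrank K K' := fun r ⟨m, _, hm⟩ => by
    simpa using (hli m hm).fintype_card_le_finrank
  obtain ⟨r, hr, hrmax⟩ : ∃ r, Good r ∧ ∀ s, Good s → s ≤ r := by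
    have h0 : Good 0 := ⟨Fin.elim0, fun i => i.elim0, fun a _ i => i.elim0⟩
    exact ⟨Nat.findGreatest Good (Module.finrank K K'), Nat.findGreatest_spec (Nat.zero_le _) h0,
      fun s hs => Nat.le_findGreatest (hbound s hs) hs⟩
  obtain ⟨m, hmR, hm⟩ := hr
  -- maximality: spanning modulo `π`
  have hspan : ∀ x ∈ R, ∃ a : Fin r → P.O, ∃ y ∈ R,
      x = (∑ i, algebraMap P.O K' (a i) * m i) + ψ π * y := by
    intro x hx
    have hns : ¬ Indep (Fin.cons x m : Fin (r + 1) → K') := fun h => by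
      have := hrmax (r + 1) ⟨_, fun i => Fin.cases hx hmR i, h⟩
      omega
    simp only [Indep, not_forall] at hns
    obtain ⟨a, ⟨y, hy, he⟩, i, hi⟩ := hns
    rw [Fin.sum_univ_succ, Fin.cons_zero] at he
    simp only [Fin.cons_succ] at he
    by_cases h0 : P.1 (a 0 : K) < 1
    · exfalso
      obtain ⟨b, hb⟩ := hdvd _ h0
      have h2 := hm (fun i => a i.succ) ⟨y - algebraMap P.O K' b * x,
        R.sub_mem hy (R.mul_mem (R.algebraMap_mem b) hx), by
          rw [mul_sub, ← he, hb, map_mul, algebraMap_O πO]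
          ring⟩
      refine hi ?_
      refine Fin.cases h0 (fun j => h2 j) i
    · have hu : IsUnit (a 0) := by
        by_contra hu
        exact h0 ((mem_maximalIdeal_iff P (a 0)).1 ((IsLocalRing.mem_maximalIdeal _).2 hu))
      obtain ⟨u, hu⟩ := hu
      refine ⟨fun i => -((u⁻¹ : P.Oˣ) * a i.succ), algebraMap P.O K' (u⁻¹ : P.Oˣ) * y,
        R.mul_mem (R.algebraMap_mem _) hy, ?_⟩
      have hu1 : algebraMap P.O K' (u⁻¹ : P.Oˣ) * algebraMap P.O K' (a 0) = 1 := by
        rw [← map_mul, ← hu, Units.inv_mul, map_one]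
      simp only [map_neg, map_mul, neg_mul, Finset.sum_neg_distrib, mul_assoc, ← Finset.mul_sum]
      linear_combination (algebraMap P.O K' (u⁻¹ : P.Oˣ)) * he - x * hu1
  -- counting over `k`
  obtain ⟨hfin, hsum⟩ := Ext.sum_ramIdx_mul_deg (K' := K') hK P
  let Qs := hfin.toFinset
  let S : Submodule k K' :=
    { carrier := {z | ∃ y ∈ R, z = ψ π * y}
      add_mem' := by
        rintro _ _ ⟨y, hy, rfl⟩ ⟨y', hy', rfl⟩
        exact ⟨y + y', R.add_mem hy hy', (mul_add _ _ _).symm⟩
      zero_mem' := ⟨0, R.zero_mem, (mul_zero _).symm⟩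
      smul_mem' := by
        rintro c _ ⟨y, hy, rfl⟩
        refine ⟨algebraMap P.O K' ⟨algebraMap k K c, P.2.1 c⟩ * y, R.mul_mem (R.algebraMap_mem _) hy, ?_⟩
        rw [algebraMap_O, Algebra.smul_def, IsScalarTower.algebraMap_apply k K K']
        ring }
  have hfinP : FiniteDimensional k (IsLocalRing.ResidueField P.O) :=
    Module.finite_of_finrank_pos (Existence.deg_pos hK P)
  let bP := Module.finBasis k (IsLocalRing.ResidueField P.O)
  choose l hl using fun j => IsLocalRing.residue_surjective (bP j)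
  let G : Fin r × Fin (Module.finrank k (IsLocalRing.ResidueField P.O)) → K' ⧸ S :=
    fun p => S.mkQ (algebraMap P.O K' (l p.2) * m p.1)
  have hG : ∀ x ∈ R, S.mkQ x ∈ Submodule.span k (Set.range G) := by
    intro x hx
    obtain ⟨a, y, hy, rfl⟩ := hspan x hx
    rw [map_add, (Submodule.Quotient.mk_eq_zero S).2 ⟨y, hy, rfl⟩ |> fun h => (show S.mkQ (ψ π * y) = 0 from h),
      add_zero, map_sum]
    refine Submodule.sum_mem _ fun i _ => ?_
    let c := fun j => bP.repr (IsLocalRing.residue P.O (a i)) j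
    have hres : IsLocalRing.residue P.O (a i - ∑ j, algebraMap k P.O (c j) * l j) = 0 := by
      rw [map_sub, map_sum, sub_eq_zero]
      refine (bP.sum_repr (IsLocalRing.residue P.O (a i))).symm.trans (Finset.sum_congr rfl fun j _ => ?_)
      rw [map_mul, hl]
      exact Algebra.smul_def (c j) (bP j)
    obtain ⟨b, hb⟩ := hdvd _ ((res_eq_zero_iff P _).1 hres)
    rw [sub_eq_iff_eq_add] at hb
    rw [hb, map_add, map_sum, add_mul, map_add, Finset.sum_mul, map_sum]
    refine Submodule.add_mem _ ?_ (Submodule.sum_mem _ fun j _ => ?_)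
    · rw [show S.mkQ (algebraMap P.O K' (πO * b) * m i) = 0 from (Submodule.Quotient.mk_eq_zero S).2
        ⟨algebraMap P.O K' b * m i, R.mul_mem (R.algebraMap_mem b) (hmR i), by
          rw [map_mul, algebraMap_O πO, mul_assoc]⟩]
      exact zero_mem _
    · have e : algebraMap P.O K' (algebraMap k P.O (c j) * l j) * m i =
          c j • (algebraMap P.O K' (l j) * m i) := by
        rw [map_mul, algebraMap_O (algebraMap k P.O (c j)), coe_algebraMap_O, Algebra.smul_def,
          IsScalarTower.algebraMap_apply k K K', mul_assoc]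
      rw [e, map_smul]
      exact Submodule.smul_mem _ _ (Submodule.subset_span ⟨(i, j), rfl⟩)
  let e : _root_.FunFld.Place k K' → ℕ := fun Q => _root_.FunFld.ramIdx Q P
  have hQO : ∀ Q : Qs, _root_.FunFld.IsOverWith (Q : _root_.FunFld.Place k K') P (e Q) := fun Q =>
    Ext.isOverWith_ramIdx (hfin.mem_toFinset.1 Q.2)
  let ι := Σ Q : Qs, Fin (e Q) × Fin (Q : _root_.FunFld.Place k K').deg
  have hfinQ : ∀ Q : Qs, FiniteDimensional k (IsLocalRing.ResidueField (Q : _root_.FunFld.Place k K').O) :=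
    fun Q => Module.finite_of_finrank_pos (Gen.Existence.deg_pos (Ext.isFF_of_finite hK) _)
  let bQ := fun Q : Qs => Module.finBasis k (IsLocalRing.ResidueField (Q : _root_.FunFld.Place k K').O)
  choose lQ hlQ using fun (Q : Qs) j => IsLocalRing.residue_surjective (bQ Q j)
  choose t ht using fun Q : _root_.FunFld.Place k K' => exists_val_eq_exp Q (-1)
  have hz : ∀ p : ι, ∃ z ∈ R, ∀ Q : Qs, (Q : _root_.FunFld.Place k K').1
      (z - if Q = p.1 then t p.1 ^ (p.2.1 : ℕ) * (lQ p.1 p.2.2 : K') else 0) ≤ exp (-(e Q : ℤ)) := by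
    rintro ⟨Q₀, i, j⟩
    obtain ⟨z, hz⟩ := Approx.approximation Qs
      (fun Q => if Q = (Q₀ : _root_.FunFld.Place k K') then t Q₀ ^ (i : ℕ) * (lQ Q₀ j : K') else 0)
      (fun Q => -(e Q : ℤ))
    refine ⟨z, (isIntegral_iff hK).2 fun Q hQ => ?_, fun Q => ?_⟩
    · have h1 := hz Q (hfin.mem_toFinset.2 hQ)
      have hle : exp (-(e Q : ℤ)) ≤ (1 : WithZero (Multiplicative ℤ)) := by rw [← exp_zero, exp_le_exp]; omega
      have h2 := Q.1.map_add (z - if Q = (Q₀ : _root_.FunFld.Place k K') then t Q₀ ^ (i : ℕ) * (lQ Q₀ j : K') else 0)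
        (if Q = (Q₀ : _root_.FunFld.Place k K') then t Q₀ ^ (i : ℕ) * (lQ Q₀ j : K') else 0)
      rw [sub_add_cancel] at h2
      refine h2.trans (max_le (h1.trans hle) ?_)
      split_ifs with h
      · subst h
        rw [map_mul, map_pow, ht]
        exact (mul_le_mul' (pow_le_one₀ zero_le (by rw [← exp_zero, exp_le_exp]; omega)) (lQ Q₀ j).2).trans
          (by rw [one_mul])
      · simp
    · have h1 := hz Q Q.2
      by_cases h : Q = Q₀
      · subst h; simpa using h1
      · rw [if_neg h]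
        rw [if_neg (fun h' => h (Subtype.ext h'))] at h1
        exact h1
  choose z hzR hzv using hz
  have hind : LinearIndependent k fun p => S.mkQ (z p) := by
    rw [Fintype.linearIndependent_iff]
    intro c hc
    have hc' : S.mkQ (∑ p, c p • z p) = 0 := by rw [map_sum]; simpa only [map_smul] using hc
    obtain ⟨y, hy, hsumeq⟩ := (Submodule.Quotient.mk_eq_zero S).1 hc'
    by_contra hne
    push Not at hne
    obtain ⟨⟨Q₀, i', j'⟩, hne⟩ := hne
    -- the first nonzero row at `Q₀`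
    obtain ⟨i₀, ⟨j₀, hne₀⟩, hmin⟩ : ∃ i₀ : Fin (e Q₀), (∃ j, c ⟨Q₀, i₀, j⟩ ≠ 0) ∧
        ∀ i : Fin (e Q₀), (∃ j, c ⟨Q₀, i, j⟩ ≠ 0) → i₀ ≤ i := by
      have hS : (Finset.univ.filter fun i : Fin (e Q₀) => ∃ j, c ⟨Q₀, i, j⟩ ≠ 0).Nonempty :=
        ⟨i', Finset.mem_filter.2 ⟨Finset.mem_univ _, j', hne⟩⟩
      obtain ⟨i₀, h1, h2⟩ := Finset.exists_min_image _ id hS
      exact ⟨i₀, (Finset.mem_filter.1 h1).2, fun i hi => h2 i (Finset.mem_filter.2 ⟨Finset.mem_univ _, hi⟩)⟩
    let Q := (Q₀ : _root_.FunFld.Place k K')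
    let tgt : ι → K' := fun p => if Q₀ = p.1 then t p.1 ^ (p.2.1 : ℕ) * (lQ p.1 p.2.2 : K') else 0
    have hi₀ : exp (-(e Q : ℤ)) ≤ exp (-((i₀ : ℕ) : ℤ) - 1) := by
      rw [exp_le_exp]; have := i₀.2; change (i₀ : ℕ) < e Q at this; omega
    have hsmul : ∀ (a : k) (w : K'), Q.1 (a • w) ≤ Q.1 w := fun a w => by
      rw [Algebra.smul_def, map_mul]
      exact (mul_le_mul' (Q.2.1 a) le_rfl).trans_eq (one_mul _)
    have hA : Q.1 (∑ p, c p • tgt p) ≤ exp (-((i₀ : ℕ) : ℤ) - 1) := by
      have h1 : Q.1 (∑ p, c p • z p) ≤ exp (-(e Q : ℤ)) := by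
        have he' := hQO Q₀ π
        rw [hsumeq, map_mul]
        refine (mul_le_mul' he'.le ((isIntegral_iff hK).1 hy Q ⟨_, hQO Q₀⟩)).trans ?_
        rw [mul_one, hπ, ← exp_nsmul, exp_le_exp]
        simp [e, Q]
      have h2 : Q.1 (∑ p, c p • (z p - tgt p)) ≤ exp (-(e Q : ℤ)) :=
        Valuation.map_sum_le _ fun p _ => (hsmul _ _).trans (hzv p Q₀)
      have h3 : ∑ p, c p • tgt p = (∑ p, c p • z p) - ∑ p, c p • (z p - tgt p) := by
        simp only [smul_sub, Finset.sum_sub_distrib]; ring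
      rw [h3]
      exact (Q.1.map_sub_le h1 h2).trans hi₀
    have htgt : ∑ p, c p • tgt p = ∑ q : Fin (e Q₀) × Fin Q.deg,
        c ⟨Q₀, q⟩ • (t Q ^ (q.1 : ℕ) * (lQ Q₀ q.2 : K')) := by
      rw [Fintype.sum_sigma, Finset.sum_eq_single Q₀]
      · simp only [tgt, if_pos rfl]; rfl
      · intro Q' _ hQ'
        simp [tgt, if_neg (Ne.symm hQ')]
      · simp
    rw [htgt, Fintype.sum_prod_type, Finset.sum_eq_add_sum_sdiff_singleton_of_mem (Finset.mem_univ i₀)] at hA
    let u : Q.O := ∑ j, algebraMap k Q.O (c ⟨Q₀, i₀, j⟩) * lQ Q₀ j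
    have hrow : ∑ j, c ⟨Q₀, i₀, j⟩ • (t Q ^ (i₀ : ℕ) * (lQ Q₀ j : K')) = t Q ^ (i₀ : ℕ) * (u : K') := by
      simp only [u, AddSubmonoidClass.coe_finsetSum, MulMemClass.coe_mul, coe_algebraMap_O,
        Finset.mul_sum, Algebra.smul_def]
      exact Finset.sum_congr rfl fun j _ => by ring
    rw [hrow] at hA
    have hrest : Q.1 (∑ i ∈ Finset.univ \ {i₀}, ∑ j, c ⟨Q₀, i, j⟩ • (t Q ^ (i : ℕ) * (lQ Q₀ j : K'))) ≤
        exp (-((i₀ : ℕ) : ℤ) - 1) := by
      refine Valuation.map_sum_le _ fun i hi => Valuation.map_sum_le _ fun j _ => ?_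
      by_cases hc0 : c ⟨Q₀, i, j⟩ = 0
      · simp [hc0]
      have hlt : (i₀ : ℕ) < i := lt_of_le_of_ne (hmin i ⟨j, hc0⟩)
        fun h => (Finset.mem_sdiff.1 hi).2 (Finset.mem_singleton.2 (Fin.ext h).symm)
      refine (hsmul _ _).trans ?_
      rw [map_mul, map_pow, ht, ← exp_nsmul]
      refine (mul_le_mul' le_rfl (lQ Q₀ j).2).trans ?_
      rw [mul_one, exp_le_exp, nsmul_eq_mul]
      simp only [mul_neg, mul_one]
      omega
    have hu : Q.1 (t Q ^ (i₀ : ℕ) * (u : K')) ≤ exp (-((i₀ : ℕ) : ℤ) - 1) := by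
      have := Q.1.map_sub_le hA hrest
      rwa [add_sub_cancel_right] at this
    rw [map_mul, map_pow, ht, ← exp_nsmul] at hu
    have hres : IsLocalRing.residue Q.O u = 0 := by
      rw [res_eq_zero_iff]
      by_contra h1
      have h2 : exp ((i₀ : ℕ) • (-1 : ℤ)) * 1 ≤ exp (-((i₀ : ℕ) : ℤ) - 1) :=
        (mul_le_mul' le_rfl (not_lt.1 h1)).trans hu
      rw [mul_one, exp_le_exp, nsmul_eq_mul] at h2
      simp only [mul_neg, mul_one] at h2
      omega
    have hzero := Fintype.linearIndependent_iff.1 (bQ Q₀).linearIndependent (fun j => c ⟨Q₀, i₀, j⟩) (by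
      rw [← hres]
      simp only [u, map_sum, map_mul]
      refine Finset.sum_congr rfl fun j _ => ?_
      rw [hlQ Q₀ j]
      exact Algebra.smul_def (c ⟨Q₀, i₀, j⟩) (bQ Q₀ j))
    exact hne₀ (hzero j₀)
  have hcard : Fintype.card ι ≤ r * P.deg := by
    have h1 : LinearIndependent k fun p => (⟨S.mkQ (z p), hG _ (hzR p)⟩ : Submodule.span k (Set.range G)) :=
      LinearIndependent.of_comp (Submodule.span k (Set.range G)).subtype hind
    have := FiniteDimensional.span_of_finite k (Set.finite_range G)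
    refine h1.fintype_card_le_finrank.trans ((finrank_range_le_card G).trans ?_)
    simp [_root_.FunFld.Place.deg]
  have hrn : r = Module.finrank K K' := by
    refine le_antisymm (hbound r ⟨m, hmR, hm⟩) ?_
    have h1 : Fintype.card ι = Module.finrank K K' * P.deg := by
      rw [Fintype.card_sigma]
      simp only [Fintype.card_prod, Fintype.card_fin]
      rw [Finset.sum_coe_sort Qs (fun Q => e Q * Q.deg)]
      exact hsum
    rw [h1] at hcard
    exact Nat.le_of_mul_le_mul_right hcard (Existence.deg_pos hK P)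
  have hspanK : Submodule.span K (Set.range m) = ⊤ := (hli m hm).span_eq_top_of_card_eq_finrank' (by simp [hrn])
  -- the family generates
  refine ⟨⟨Finset.univ.image (fun i => (⟨m i, hmR i⟩ : R)), ?_⟩⟩
  rw [eq_top_iff]
  rintro ⟨x, hx⟩ -
  obtain ⟨b, hb⟩ := (Submodule.mem_span_range_iff_exists_fun K).1 (hspanK ▸ Submodule.mem_top : x ∈ _)
  obtain ⟨N, hN⟩ : ∃ N : ℕ, ∀ i, P.1 (b i * π ^ N) ≤ 1 := by
    refine ⟨Finset.univ.sup fun i => (-(P.ord (b i))).toNat, fun i => ?_⟩
    rcases eq_or_ne (b i) 0 with h0 | h0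
    · simp [h0]
    rw [map_mul, map_pow, hπ, val_eq_exp P h0, ← exp_nsmul, ← exp_add, ← exp_zero, exp_le_exp, nsmul_eq_mul]
    have := Finset.le_sup (f := fun i => (-(P.ord (b i))).toNat) (Finset.mem_univ i)
    simp only [mul_neg, mul_one]
    omega
  suffices h : ∀ N : ℕ, ∀ x ∈ R, (∃ a : Fin r → P.O, ψ π ^ N * x = ∑ i, algebraMap P.O K' (a i) * m i) →
      ∃ a : Fin r → P.O, x = ∑ i, algebraMap P.O K' (a i) * m i by
    obtain ⟨a, ha⟩ := h N x hx ⟨fun i => ⟨b i * π ^ N, hN i⟩, by
      rw [← hb, Finset.mul_sum]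
      refine Finset.sum_congr rfl fun i _ => ?_
      rw [Algebra.smul_def, algebraMap_O, map_mul, map_pow]
      ring⟩
    have : (⟨x, hx⟩ : R) = ∑ i, a i • (⟨m i, hmR i⟩ : R) := Subtype.ext (by
      rw [AddSubmonoidClass.coe_finsetSum]
      show x = _
      refine ha.trans ?_
      exact Finset.sum_congr rfl fun i _ => (Algebra.smul_def (a i) (m i)).symm)
    rw [this]
    exact Submodule.sum_mem _ fun i _ => Submodule.smul_mem _ _
      (Submodule.subset_span (Finset.mem_coe.2 (Finset.mem_image.2 ⟨i, Finset.mem_univ _, rfl⟩)))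
  intro N
  induction N with
  | zero => rintro x hx ⟨a, ha⟩; exact ⟨a, by simpa using ha⟩
  | succ N ih =>
    rintro x hx ⟨a, ha⟩
    refine ih x hx ?_
    choose d hd using fun i => hdvd (a i) (hm a ⟨ψ π ^ N * x, R.mul_mem (R.pow_mem (by
      rw [show ψ π = algebraMap P.O K' πO from (algebraMap_O πO).symm]
      exact R.algebraMap_mem _) N) hx, by rw [← ha, pow_succ]; ring⟩ i)
    refine ⟨d, mul_left_cancel₀ hψπ ?_⟩
    rw [← mul_assoc, ← pow_succ', ha, Finset.mul_sum]
    exact Finset.sum_congr rfl fun i _ => by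
      rw [hd i, map_mul, algebraMap_O πO, mul_assoc]

end Groth.Agent.H81.IntClosure
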