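import Groth.Agent.Lib.FunFld.Rational
import Mathlib.FieldTheory.RatFunc.AsPolynomial
import Mathlib.RingTheory.Polynomial.RationalRoot
/-!
# Places of the rational function field
-/

set_option autoImplicit false

namespace Groth.Agent.H81.RatPlace

open WithZero Polynomial IntermediateField Groth.Agent.Lib.FunFld Groth.Agent.Lib.FunFld.Place

universe u
variable {k : Type u} [Field k]

local notation "ι" => algebraMap k[X] (RatFunc k)

theorem exists_div (a : RatFunc k) : ∃ r s : k[X], s ≠ 0 ∧ a = ι r / ι s :=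
  ⟨a.num, a.denom, a.denom_ne_zero, (a.num_div_denom).symm⟩

theorem ι_ne_zero {g : k[X]} (hg : g ≠ 0) : ι g ≠ 0 :=
  (map_ne_zero_iff _ (IsFractionRing.injective k[X] (RatFunc k))).2 hg

theorem aeval_X (g : k[X]) : aeval (RatFunc.X : RatFunc k) g = ι g := by
  rw [← RatFunc.algebraMap_X, aeval_algebraMap_apply, aeval_X_left_apply]

theorem adjoin_X_eq_top : adjoin k ({RatFunc.X} : Set (RatFunc k)) = ⊤ := by
  rw [eq_top_iff]
  rintro a -
  obtain ⟨r, s, _, rfl⟩ := exists_div a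
  exact (mem_adjoin_simple_iff k _).2 ⟨r, s, by rw [aeval_X, aeval_X]⟩

theorem isFunctionField : _root_.FunFld.IsFunctionField k (RatFunc k) := by
  refine ⟨⟨RatFunc.X, RatFunc.transcendental_X, ?_⟩, fun a ha => ?_⟩
  · rw [adjoin_X_eq_top]
    exact Module.Finite.of_surjective
      (Algebra.linearMap (⊤ : IntermediateField k (RatFunc k)) (RatFunc k)) fun b => ⟨⟨b, trivial⟩, rfl⟩
  · obtain ⟨g, rfl⟩ := IsIntegrallyClosed.isIntegral_iff.1 (ha.isIntegral.tower_top (A := k[X]))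
    rcases Nat.eq_zero_or_pos g.natDegree with h | h
    · rw [eq_C_of_natDegree_eq_zero h]
      exact ⟨g.coeff 0, by rw [IsScalarTower.algebraMap_apply k k[X] (RatFunc k)]; rfl⟩
    · exfalso
      refine Polynomial.transcendental g (by omega) (mem_nonZeroDivisors_of_ne_zero (leadingCoeff_ne_zero.2 fun h0 => by rw [h0, natDegree_zero] at h; omega)) ?_
      exact (isAlgebraic_algHom_iff (IsScalarTower.toAlgHom k k[X] (RatFunc k))
        (IsFractionRing.injective k[X] (RatFunc k))).1 ha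

variable (P : _root_.FunFld.Place k (RatFunc k))

theorem ord_nonneg_of_X (hX : 0 ≤ P.ord (RatFunc.X : RatFunc k)) (g : k[X]) : 0 ≤ P.ord (ι g) := by
  rw [← val_le_one_iff] at hX ⊢
  induction g using Polynomial.induction_on with
  | C c =>
    rw [← Polynomial.algebraMap_eq, ← IsScalarTower.algebraMap_apply]
    exact P.2.1 c
  | add p q hp hq => rw [map_add]; exact (P.1.map_add _ _).trans (max_le hp hq)
  | monomial n c h =>
    rw [pow_succ, ← mul_assoc, map_mul, map_mul, RatFunc.algebraMap_X]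
    exact mul_le_one₀ h zero_le hX

theorem ord_eq_natDegree_mul (hX : P.ord (RatFunc.X : RatFunc k) < 0) {g : k[X]} (hg : g ≠ 0) :
    P.ord (ι g) = g.natDegree * P.ord (RatFunc.X : RatFunc k) := by
  let a := P.ord (RatFunc.X : RatFunc k)
  have hX0 : (RatFunc.X : RatFunc k) ≠ 0 := RatFunc.X_ne_zero
  have hterm : ∀ i, g.coeff i ≠ 0 →
      P.1 (algebraMap k (RatFunc k) (g.coeff i) * RatFunc.X ^ i) = exp (-((i : ℤ) * a)) := fun i hi => by
    rw [map_mul, val_algebraMap P hi, one_mul, map_pow, val_eq_exp P hX0, ← exp_nsmul, nsmul_eq_mul]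
    congr 1; ring
  refine ord_eq_of_val_eq_exp P (n := -((g.natDegree : ℤ) * a)) ?_ |>.trans (neg_neg _)
  rw [← aeval_X, aeval_eq_sum_range, Finset.sum_range_succ]
  have hlead : g.coeff g.natDegree ≠ 0 := by simpa using hg
  rw [Algebra.smul_def, Valuation.map_add_eq_of_lt_right, hterm _ hlead]
  refine Valuation.map_sum_lt _ (by rw [hterm _ hlead]; exact exp_ne_zero) fun i hi => ?_
  rw [Algebra.smul_def, hterm _ hlead]
  by_cases h0 : g.coeff i = 0
  · rw [h0, map_zero, zero_mul, map_zero]; exact exp_pos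
  · rw [hterm i h0, exp_lt_exp]
    have := Finset.mem_range.1 hi
    have hi' : (i : ℤ) + 1 ≤ g.natDegree := by exact_mod_cast this
    nlinarith

theorem ord_X_eq_neg_one (hX : P.ord (RatFunc.X : RatFunc k) < 0) :
    P.ord (RatFunc.X : RatFunc k) = -1 := by
  obtain ⟨t, ht⟩ := exists_val_eq_exp P (-1)
  obtain ⟨r, s, hs, rfl⟩ := exists_div t
  have h0 : ι r / ι s ≠ 0 := fun h => exp_ne_zero (a := (-1 : ℤ)) (by rw [← ht, h, map_zero])
  have hr : r ≠ 0 := fun h => h0 (by simp [h])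
  have h := ord_eq_of_val_eq_exp P ht
  rw [ord_div P (ι_ne_zero hr) (ι_ne_zero hs), ord_eq_natDegree_mul P hX hr,
    ord_eq_natDegree_mul P hX hs, ← sub_mul] at h
  rcases Int.eq_one_or_neg_one_of_mul_eq_one' (h.trans (neg_neg 1)) with h' | h' <;> omega

theorem ord_poly_inf (hX : P.ord (RatFunc.X : RatFunc k) < 0) {g : k[X]} (hg : g ≠ 0) :
    P.ord (ι g) = -(g.natDegree : ℤ) := by
  rw [ord_eq_natDegree_mul P hX hg, ord_X_eq_neg_one P hX, mul_neg_one]

theorem deg_inf (hX : P.ord (RatFunc.X : RatFunc k) < 0) : P.deg = 1 := by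
  obtain ⟨Q, hQ, hQX, hother⟩ :=
    Rational.exists_place_deg_one_of_adjoin_eq_top isFunctionField (adjoin_X_eq_top (k := k))
  have : P = Q := by
    by_contra h
    have := hother P h
    omega
  exact this ▸ hQ

theorem X_nonneg_of_irreducible {p : k[X]} (hp : Irreducible p) (h : P.1 (ι p) < 1) :
    0 ≤ P.ord (RatFunc.X : RatFunc k) := by
  by_contra hX
  have h1 := ord_poly_inf P (not_le.1 hX) hp.ne_zero
  rcases (val_lt_one_iff P).1 h with h0 | h0
  · exact ι_ne_zero hp.ne_zero h0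
  · omega

theorem ord_eq_zero_of_isCoprime {p g : k[X]} (hp : Irreducible p) (h : P.1 (ι p) < 1)
    (hg : IsCoprime p g) : P.ord (ι g) = 0 := by
  have hX := X_nonneg_of_irreducible P hp h
  refine le_antisymm (not_lt.1 fun hlt => ?_) (ord_nonneg_of_X P hX g)
  obtain ⟨a, b, hab⟩ := hg
  have h1 : P.1 (ι (a * p + b * g)) < 1 := by
    rw [map_add, map_mul, map_mul]
    refine P.1.map_add_lt ?_ ?_
    · rw [map_mul]; exact (mul_le_of_le_one_left' ((val_le_one_iff P).2 (ord_nonneg_of_X P hX a))).trans_lt h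
    · rw [map_mul]; exact (mul_le_of_le_one_left' ((val_le_one_iff P).2 (ord_nonneg_of_X P hX b))).trans_lt
        ((val_lt_one_iff P).2 (Or.inr hlt))
  rw [hab, map_one, map_one] at h1
  exact lt_irrefl _ h1

theorem ord_irreducible {p : k[X]} (hp : Irreducible p) (h : P.1 (ι p) < 1) : P.ord (ι p) = 1 := by
  have hpos : 0 < P.ord (ι p) := ((val_lt_one_iff P).1 h).resolve_left (ι_ne_zero hp.ne_zero)
  have key : ∀ g : k[X], g ≠ 0 → P.ord (ι p) ∣ P.ord (ι g) := fun g hg => by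
    obtain ⟨g₁, hg₁, hnd⟩ : ∃ g₁ : k[X], g = p ^ (multiplicity p g) * g₁ ∧ ¬ p ∣ g₁ := by
      obtain ⟨g₁, h1, h2⟩ := (FiniteMultiplicity.of_not_isUnit hp.not_isUnit hg).exists_eq_pow_mul_and_not_dvd
      exact ⟨g₁, h1, h2⟩
    have hg₁0 : g₁ ≠ 0 := fun h0 => hnd (h0 ▸ dvd_zero p)
    rw [hg₁, map_mul, map_pow, ord_mul P (pow_ne_zero _ (ι_ne_zero hp.ne_zero)) (ι_ne_zero hg₁0), ord_pow,
      ord_eq_zero_of_isCoprime P hp h ((Irreducible.coprime_iff_not_dvd hp).2 hnd), add_zero]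
    exact dvd_mul_left _ _
  obtain ⟨t, ht⟩ := exists_val_eq_exp P (-1)
  obtain ⟨r, s, hs, rfl⟩ := exists_div t
  have h0 : ι r / ι s ≠ 0 := fun h => exp_ne_zero (a := (-1 : ℤ)) (by rw [← ht, h, map_zero])
  have hr : r ≠ 0 := fun h => h0 (by simp [h])
  have h1 := ord_eq_of_val_eq_exp P ht
  rw [ord_div P (ι_ne_zero hr) (ι_ne_zero hs)] at h1
  have h2 : P.ord (ι p) ∣ 1 := by
    rw [show (1 : ℤ) = -(-1) by norm_num, ← h1]
    exact dvd_sub (key r hr) (key s hs)
  exact Int.eq_one_of_dvd_one hpos.le h2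

omit [Field k] in
theorem exists_irreducible_dvd {k : Type u} [Field k] (P : _root_.FunFld.Place k (RatFunc k))
    {g : k[X]} (hg : g ≠ 0) (h : 0 < P.ord (algebraMap k[X] (RatFunc k) g)) :
    ∃ p : k[X], Irreducible p ∧ p ∣ g ∧ P.1 (algebraMap k[X] (RatFunc k) p) < 1 := by
  induction g using WfDvdMonoid.induction_on_irreducible with
  | zero => exact absurd rfl hg
  | unit u hu =>
    exfalso
    obtain ⟨c, hc, rfl⟩ := Polynomial.isUnit_iff.1 hu
    rw [← Polynomial.algebraMap_eq, ← IsScalarTower.algebraMap_apply, ord_algebraMap] at h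
    omega
  | mul a p ha hp ih =>
    rw [map_mul, ord_mul P (ι_ne_zero hp.ne_zero) (ι_ne_zero ha)] at h
    by_cases h1 : 0 < P.ord (algebraMap k[X] (RatFunc k) p)
    · exact ⟨p, hp, dvd_mul_right p a, (val_lt_one_iff P).2 (Or.inr h1)⟩
    · obtain ⟨q, hq, hqa, hlt⟩ := ih ha (by omega)
      exact ⟨q, hq, hqa.trans (dvd_mul_left a p), hlt⟩

theorem ord_eq_one_of_squarefree {g : k[X]} (hg : Squarefree g) (h : 0 < P.ord (algebraMap k[X] (RatFunc k) g)) :
    P.ord (algebraMap k[X] (RatFunc k) g) = 1 := by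
  obtain ⟨p, hp, ⟨a, rfl⟩, hlt⟩ := exists_irreducible_dvd P hg.ne_zero h
  have ha : IsCoprime p a :=
    hp.coprime_iff_not_dvd.2 fun ⟨c, hc⟩ => hp.not_isUnit (hg p ⟨c, by rw [hc]; ring⟩)
  rw [map_mul, ord_mul P (ι_ne_zero hp.ne_zero) (ι_ne_zero (right_ne_zero_of_mul hg.ne_zero)),
    ord_irreducible P hp hlt, ord_eq_zero_of_isCoprime P hp hlt ha]
  rfl

end Groth.Agent.H81.RatPlace
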