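import Groth.Agent.Lib.FunFld.Galois
import Groth.Agent.Lib.FunFld.Approx
import Mathlib.FieldTheory.Fixed
import Mathlib.FieldTheory.Separable
import Mathlib.FieldTheory.Minpoly.Field
/-!
# The inertia group has order the ramification index
-/

set_option autoImplicit false

namespace Groth.Agent.H81.Inertia

open WithZero IsLocalRing Polynomial
open Groth.Agent.Lib.FunFld Groth.Agent.Lib.FunFld.Place
open scoped Pointwise

universe u v w
variable {k : Type u} {K : Type v} {K' : Type w} [Field k] [Field K] [Field K']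
  [Algebra k K] [Algebra K K'] [Algebra k K'] [IsScalarTower k K K'] [FiniteDimensional K K']

set_option backward.isDefEq.respectTransparency false in
/-- `|I| = e` for a separable residue field. -/
theorem card_inertia [IsGalois K K'] (hK : _root_.FunFld.IsFunctionField k K)
    (Q : _root_.FunFld.Place k K') (P : _root_.FunFld.Place k K) {e : ℕ}
    (he : _root_.FunFld.IsOverWith Q P e) [Algebra.IsSeparable k (ResidueField Q.O)] :
    Nat.card ((Q.O).inertiaSubgroup K) = e := by
  classical
  let D := (Q.O).decompositionSubgroup K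
  let κ := ResidueField Q.O
  have he0 := Ext.pos_of_isOverWith he
  have hσO : ∀ a : P.O, algebraMap K K' (a : K) ∈ Q.O := fun a => by
    show Q.1 _ ≤ 1
    rw [he]; exact pow_le_one₀ zero_le a.2
  let σ : P.O →ₐ[k] Q.O :=
    { ((algebraMap K K').comp P.O.subtype).codRestrict Q.O.toSubring hσO with
      commutes' := fun c => Subtype.ext (by
        show algebraMap K K' ((algebraMap k P.O c : P.O) : K) = _
        rw [coe_algebraMap_O, coe_algebraMap_O, ← IsScalarTower.algebraMap_apply]) }
  have hσ_lt : ∀ a : P.O, Q.1 (σ a : K') < 1 ↔ P.1 (a : K) < 1 := fun a => by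
    show Q.1 (algebraMap K K' (a : K)) < 1 ↔ _
    rw [he, pow_lt_one_iff_of_nonneg zero_le he0.ne']
  have hlocal : IsLocalHom σ.toRingHom := ⟨fun a ha => by
    by_contra h
    have h1 := (mem_maximalIdeal_iff P a).1 ((IsLocalRing.mem_maximalIdeal _).2 h)
    exact ((IsLocalRing.mem_maximalIdeal _).1 ((mem_maximalIdeal_iff Q _).2 ((hσ_lt a).2 h1))) ha⟩
  let φ : ResidueField P.O →ₐ[k] κ :=
    { ResidueField.map σ.toRingHom with
      commutes' := fun c => by
        show ResidueField.map σ.toRingHom (residue P.O (algebraMap k P.O c)) = residue Q.O (algebraMap k Q.O c)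
        rw [ResidueField.map_residue]
        exact congrArg _ (σ.commutes c) }
  have hφ : ∀ a : P.O, φ (residue P.O a) = residue Q.O (σ a) := fun a => ResidueField.map_residue σ.toRingHom a
  let H : Subgroup (RingAut κ) := (MulSemiringAction.toRingAut D κ).range
  let E := FixedPoints.subfield H κ
  have hmem : ∀ a : κ, a ∈ E ↔ ∀ τ : D, τ • a = a := fun a => by
    constructor
    · intro h τ; exact h ⟨_, τ, rfl⟩
    · rintro h ⟨_, τ, rfl⟩; exact h τ
  have hact : ∀ (τ : D) (z : Q.O), τ • residue Q.O z = residue Q.O (τ • z) :=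
    fun τ z => rfl
  have hfix : E = φ.fieldRange.toSubfield := by
    refine SetLike.ext fun a => (hmem a).trans ⟨fun hfa => ?_, ?_⟩
    swap
    · rintro ⟨b, rfl⟩ τ
      obtain ⟨b, rfl⟩ := residue_surjective b
      show τ • φ (residue P.O b) = φ (residue P.O b)
      rw [hφ, hact]
      congr 1
      exact Subtype.ext ((τ : K' ≃ₐ[K] K').commutes (b : K))
    show a ∈ φ.fieldRange
    rcases eq_or_ne a 0 with rfl | ha0
    · exact zero_mem _
    obtain ⟨a₀, rfl⟩ := residue_surjective a
    let S : Finset (_root_.FunFld.Place k K') :=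
      (Finset.univ : Finset (K' ≃ₐ[K] K')).image (Galois.comapAut Q)
    obtain ⟨z, hz⟩ := Approx.approximation S (fun R => if R = Q then (a₀ : K') else 0)
      (fun _ => -1)
    have hQS : Q ∈ S := Finset.mem_image.2 ⟨1, Finset.mem_univ _, Subtype.ext (Valuation.ext fun x => rfl)⟩
    have hlt : exp (-1 : ℤ) < (1 : WithZero (Multiplicative ℤ)) := (exp_lt_exp.2 (by norm_num)).trans_eq exp_zero
    have hzQ : Q.1 (z - a₀) < 1 := by
      have := hz Q hQS
      rw [if_pos rfl] at this
      exact this.trans_lt hlt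
    have hconj : ∀ τ : K' ≃ₐ[K] K', ∃ h : Q.1 (τ z) ≤ 1,
        residue Q.O ⟨τ z, h⟩ = residue Q.O a₀ ∨ residue Q.O ⟨τ z, h⟩ = 0 := by
      intro τ
      have h1 := hz (Galois.comapAut Q τ) (Finset.mem_image_of_mem _ (Finset.mem_univ τ))
      by_cases hτ : Galois.comapAut Q τ = Q
      · rw [if_pos hτ, hτ] at h1
        have h2 : Q.1 z ≤ 1 := by
          have := Q.1.map_add (z - a₀) a₀
          rw [sub_add_cancel] at this
          exact this.trans (max_le (h1.trans hlt.le) a₀.2)
        have hτD : τ ∈ D := by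
          have h3 : τ⁻¹ • Q.O = Q.O := by rw [← Galois.O_comapAut, hτ]
          show τ • Q.O = Q.O
          conv_lhs => rw [← h3]
          rw [smul_inv_smul]
        have h4 : Q.1 (τ z) ≤ 1 := ((⟨τ, hτD⟩ : D) • (⟨z, h2⟩ : Q.O) : Q.O).2
        refine ⟨h4, Or.inl ?_⟩
        have h5 := hfa ⟨τ, hτD⟩
        have h6 : residue Q.O a₀ = residue Q.O ⟨z, h2⟩ := by
          rw [← sub_eq_zero, ← map_sub, res_eq_zero_iff]
          show Q.1 ((a₀ : K') - z) < 1
          rw [Valuation.map_sub_swap]; exact hzQ
        rw [h6, hact] at h5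
        rw [h6]
        exact h5
      · rw [if_neg hτ, sub_zero, Galois.comapAut_apply] at h1
        exact ⟨h1.trans hlt.le, Or.inr ((res_eq_zero_iff Q _).2 (h1.trans_lt hlt))⟩
    let g : K'[X] := ∏ τ : K' ≃ₐ[K] K', (X - C (τ z))
    let g₀ : Q.O[X] := ∏ τ : K' ≃ₐ[K] K', (X - C ⟨τ z, (hconj τ).1⟩)
    have hg₀ : g₀.map Q.O.subtype = g := by simp [g, g₀, Polynomial.map_prod]
    have hfixc : ∀ i, ∃ c : P.O, σ c = g₀.coeff i := by
      intro i
      have hco : g.coeff i ∈ (⊥ : IntermediateField K K') := by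
        rw [IsGalois.mem_bot_iff_fixed]
        intro τ
        have hg : g.map (τ : K' →+* K') = g := by
          simp only [g, Polynomial.map_prod, Polynomial.map_sub, map_X, map_C]
          exact Fintype.prod_equiv (Equiv.mulLeft τ) _ _ fun ρ => rfl
        conv_rhs => rw [← hg, coeff_map]
        rfl
      obtain ⟨c, hc⟩ := IntermediateField.mem_bot.1 hco
      have hc' : algebraMap K K' c = (g₀.coeff i : K') := by rw [hc, ← hg₀, coeff_map]; rfl
      have hcO : P.1 c ≤ 1 := by
        have h1 := (g₀.coeff i).2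
        rw [← hc'] at h1
        rw [mem_O_iff, he] at h1
        exact (pow_le_one_iff_of_nonneg zero_le he0.ne').1 h1
      exact ⟨⟨c, hcO⟩, Subtype.ext hc'⟩
    choose c hc using hfixc
    let F := φ.fieldRange
    obtain ⟨gF, hgF⟩ : ∃ gF : F[X], gF.map (algebraMap F κ) = g₀.map (residue Q.O) := by
      refine (mem_lifts _).1 ((lifts_iff_coeff_lifts _).2 fun i => ?_)
      rw [coeff_map, ← hc i, ← hφ]
      exact ⟨⟨_, residue P.O (c i), rfl⟩, rfl⟩
    have hg0 : g₀.map (residue Q.O) = ∏ τ : K' ≃ₐ[K] K', (X - C (residue Q.O ⟨τ z, (hconj τ).1⟩)) := by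
      simp [g₀, Polynomial.map_prod]
    have ha : aeval (residue Q.O a₀) gF = 0 := by
      rw [aeval_def, ← eval_map, hgF, hg0, eval_prod]
      refine Finset.prod_eq_zero (Finset.mem_univ 1) ?_
      rw [eval_sub, eval_X, eval_C, sub_eq_zero, ← sub_eq_zero, ← map_sub, res_eq_zero_iff]
      show Q.1 ((a₀ : K') - z) < 1
      rw [Valuation.map_sub_swap]; exact hzQ
    have : Algebra.IsSeparable F κ := Algebra.isSeparable_tower_top_of_isSeparable k F κ
    let a := residue Q.O a₀
    have hint : IsIntegral F a := (Algebra.IsSeparable.isSeparable F a).isIntegral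
    have hdvd := Polynomial.map_dvd (algebraMap F κ) (minpoly.dvd F a ha)
    rw [hgF, hg0] at hdvd
    have hsplit : ((minpoly F a).map (algebraMap F κ)).Splits :=
      Polynomial.Splits.of_dvd (Polynomial.Splits.prod fun τ _ => Polynomial.Splits.X_sub_C _)
        (Finset.prod_ne_zero_iff.2 fun τ _ => X_sub_C_ne_zero _) hdvd
    have hroots : ∀ r ∈ ((minpoly F a).map (algebraMap F κ)).roots, r = a := by
      intro r hr
      have h1 := Multiset.mem_of_le (Polynomial.roots.le_of_dvd
        (Finset.prod_ne_zero_iff.2 fun τ _ => X_sub_C_ne_zero _) hdvd) hr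
      rw [roots_prod _ _ (Finset.prod_ne_zero_iff.2 fun τ _ => X_sub_C_ne_zero _), Multiset.mem_bind] at h1
      obtain ⟨τ, -, hτ⟩ := h1
      rw [roots_X_sub_C, Multiset.mem_singleton] at hτ
      rcases (hconj τ).2 with h2 | h2
      · rw [hτ, h2]
      · exfalso
        rw [hτ, h2] at hr
        have hr0 := isRoot_of_mem_roots hr
        rw [IsRoot, eval_map, eval₂_at_zero, map_eq_zero] at hr0
        exact minpoly.coeff_zero_ne_zero hint ha0 hr0
    have hnd : ((minpoly F a).map (algebraMap F κ)).roots.Nodup :=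
      nodup_roots (Polynomial.Separable.map (Algebra.IsSeparable.isSeparable F a))
    have hdeg : (minpoly F a).natDegree = 1 := by
      refine le_antisymm ?_ (minpoly.natDegree_pos hint)
      rw [← natDegree_map (algebraMap F κ), hsplit.natDegree_eq_card_roots]
      exact (Multiset.card_le_card ((Multiset.le_iff_subset hnd).2 fun r hr => Multiset.mem_singleton.2 (hroots r hr))).trans_eq (Multiset.card_singleton a)
    obtain ⟨b, hb⟩ := minpoly.natDegree_eq_one_iff.1 hdeg
    show a ∈ φ.fieldRange
    rw [← hb]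
    exact b.2
  have hfinκ : FiniteDimensional k κ :=
    Module.finite_of_finrank_pos (Gen.Existence.deg_pos (Ext.isFF_of_finite hK) Q)
  have : Finite H := Finite.of_surjective _ (MulSemiringAction.toRingAut D κ).rangeRestrict_surjective
  have : Fintype H := Fintype.ofFinite H
  have hfs : FaithfulSMul H κ := ⟨fun h => Subtype.ext (RingEquiv.ext h)⟩
  have h1 : Module.finrank E κ = Nat.card H := by
    rw [FixedPoints.finrank_eq_card H κ, Nat.card_eq_fintype_card]
  rw [hfix] at h1
  have h1' : Module.finrank φ.fieldRange κ = Nat.card H := h1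
  have h2 : Module.finrank k φ.fieldRange = P.deg :=
    ((AlgEquiv.ofInjectiveField φ).toLinearEquiv.finrank_eq).symm
  have h3 : P.deg * Nat.card H = Q.deg := by
    rw [← h2, ← h1']; exact Module.finrank_mul_finrank k φ.fieldRange κ
  have h4 : Nat.card D = Nat.card ((Q.O).inertiaSubgroup K) * Nat.card H := by
    rw [Subgroup.card_eq_card_quotient_mul_card_subgroup ((Q.O).inertiaSubgroup K), mul_comm]
    congr 1
    exact Nat.card_congr (QuotientGroup.quotientKerEquivRange (MulSemiringAction.toRingAut D κ)).toEquiv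
  have h5 := Galois.card_decomposition_mul_deg hK he
  rw [h4, ← h3, mul_assoc, mul_comm (Nat.card H)] at h5
  exact Nat.eq_of_mul_eq_mul_right (h3 ▸ Gen.Existence.deg_pos (Ext.isFF_of_finite hK) Q) h5

/-- Restriction of scalars as a homomorphism. -/
def resScalars {K E L : Type*} [Field K] [Field E] [Field L] [Algebra K E] [Algebra E L] [Algebra K L]
    [IsScalarTower K E L] : (L ≃ₐ[E] L) →* (L ≃ₐ[K] L) where
  toFun σ := σ.restrictScalars K
  map_one' := rfl
  map_mul' _ _ := rfl

end Groth.Agent.H81.Inertia
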