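import Mathlib.RingTheory.Noetherian.Basic
import Mathlib.RingTheory.Ideal.Quotient.Operations
import Mathlib.RingTheory.Finiteness.Basic
import Mathlib.Order.Zorn

/-!
# The Eakin–Nagata theorem (Formanek's proof)

A subring over which a Noetherian ring is a finite module is Noetherian.
-/

universe u v

namespace Groth.Agent.H81.EakinNagata

open Submodule

variable {B : Type u} {A : Type v} [CommRing B] [CommRing A] [Algebra B A]

/-- A submodule containing the image of multiplication by `b` is finitely generated, if `A` is finite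
and the quotient by that image is Noetherian. -/
theorem fg_of_smul_le {M : Type*} [AddCommGroup M] [Module B M] [Module.Finite B M] (b : B)
    [IsNoetherian B (M ⧸ LinearMap.range (LinearMap.lsmul B M b))]
    (N : Submodule B M) (h : LinearMap.range (LinearMap.lsmul B M b) ≤ N) : N.FG := by
  refine Submodule.fg_of_fg_map_of_fg_inf_ker (Submodule.mkQ (LinearMap.range (LinearMap.lsmul B M b)))
    (IsNoetherian.noetherian _) ?_
  rw [Submodule.ker_mkQ, inf_eq_right.2 h, ← Submodule.map_top]
  exact (Module.Finite.fg_top).map _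

theorem isNoetherianModule [IsNoetherianRing A] [Module.Finite B A] : IsNoetherian B A := by
  by_contra hA
  obtain ⟨J, hJ, hmax⟩ := set_has_maximal_iff_noetherian.2 (inferInstance : IsNoetherian A A)
    {J : Ideal A | ¬ IsNoetherian B (A ⧸ J)} ⟨⊥, fun h => hA
      (isNoetherian_of_linearEquiv ((AlgEquiv.quotientBot B A).toLinearEquiv))⟩
  let M := A ⧸ J
  have : Module.Finite B M := Module.Finite.of_surjective (Ideal.Quotient.mkₐ B J).toLinearMap
    Ideal.Quotient.mk_surjective
  obtain ⟨n, π, hπ⟩ := Module.Finite.exists_fin' B M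
  -- submodules with the same annihilator
  let S : Set (Submodule B M) := {N | ∀ b : B, (∀ m : M, b • m ∈ N) → ∀ m : M, b • m = 0}
  obtain ⟨N, -, hN⟩ := zorn_le_nonempty₀ S (fun c hc hchain N₀ hN₀ => by
    refine ⟨sSup c, fun b hb => ?_, fun z hz => le_sSup hz⟩
    have : ∃ z ∈ c, LinearMap.range ((LinearMap.lsmul B M b).comp π) ≤ z := by
      have hfg : (LinearMap.range ((LinearMap.lsmul B M b).comp π)).FG := by
        rw [← Submodule.map_top]; exact (Module.Finite.fg_top).map _
      exact (Submodule.fg_iff_compact _).1 hfg c _ ⟨N₀, hN₀⟩ hchain.directedOn (isLUB_sSup c) (by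
        rintro _ ⟨v, rfl⟩; exact hb _)
    obtain ⟨z, hz, hle⟩ := this
    refine hc hz b fun m => ?_
    obtain ⟨v, rfl⟩ := hπ m
    exact hle ⟨v, rfl⟩) ⊥ (fun b hb m => by simpa using hb m)
  have hNM : IsNoetherian B (M ⧸ N) := by
    refine ⟨fun P => ?_⟩
    rcases eq_or_ne P ⊥ with rfl | hP
    · exact Submodule.fg_bot
    have hlt : N < P.comap N.mkQ := by
      refine lt_of_le_of_ne (fun x hx => by simp [(Submodule.Quotient.mk_eq_zero N).2 hx]) fun h => hP ?_
      rw [← Submodule.map_comap_eq_of_surjective N.mkQ_surjective P, ← h, Submodule.mkQ_map_self]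
    have : ¬ (P.comap N.mkQ ∈ S) := fun h => hlt.ne' (le_antisymm (hN.2 h hlt.le) hlt.le)
    simp only [S, Set.mem_setOf_eq, not_forall] at this
    obtain ⟨b, hb, m₀, hm₀⟩ := this
    have hbJ : algebraMap B A b ∉ J := fun h => hm₀ (by
      obtain ⟨a, rfl⟩ := Ideal.Quotient.mk_surjective m₀
      rw [← Ideal.Quotient.mkₐ_eq_mk B, ← map_smul, Algebra.smul_def, Ideal.Quotient.mkₐ_eq_mk,
        Ideal.Quotient.eq_zero_iff_mem]
      exact Ideal.mul_mem_right (α := A) _ J h)
    have hJ' : IsNoetherian B (A ⧸ (J ⊔ Ideal.span {algebraMap B A b})) := by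
      by_contra hc
      exact hmax _ hc (lt_of_le_of_ne le_sup_left fun h => hbJ (by
        rw [h]; exact Ideal.mem_sup_right (Ideal.mem_span_singleton_self _)))
    have : IsNoetherian B (M ⧸ LinearMap.range (LinearMap.lsmul B M b)) := by
      let g : A →ₗ[B] M ⧸ LinearMap.range (LinearMap.lsmul B M b) :=
        (Submodule.mkQ _).comp (Ideal.Quotient.mkₐ B J).toLinearMap
      haveI : IsNoetherian B (A ⧸ (J ⊔ Ideal.span {algebraMap B A b}).restrictScalars B) :=
        isNoetherian_of_linearEquiv (Submodule.Quotient.restrictScalarsEquiv B (J ⊔ Ideal.span {algebraMap B A b})).symm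
      refine isNoetherian_of_surjective (M := A ⧸ ((J ⊔ Ideal.span {algebraMap B A b}).restrictScalars B))
        (Submodule.liftQ _ g ?_) ?_
      · intro x hx
        obtain ⟨j, hj, y, hy, rfl⟩ := Submodule.mem_sup.1 hx
        obtain ⟨a, rfl⟩ := Ideal.mem_span_singleton'.1 hy
        rw [LinearMap.mem_ker, map_add]
        have h1 : g j = 0 := by
          show Submodule.mkQ _ (Ideal.Quotient.mk J j) = 0
          rw [Ideal.Quotient.eq_zero_iff_mem.2 hj, map_zero]
        have h2 : g (a * algebraMap B A b) = 0 := by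
          show Submodule.mkQ _ (Ideal.Quotient.mk J _) = 0
          rw [Submodule.mkQ_apply, Submodule.Quotient.mk_eq_zero]
          exact ⟨Ideal.Quotient.mk J a, by
            rw [LinearMap.lsmul_apply, mul_comm, ← Algebra.smul_def]; rfl⟩
        rw [h1, h2, add_zero]
      · rw [Submodule.range_liftQ]
        exact LinearMap.range_eq_top.2 ((Submodule.mkQ_surjective _).comp Ideal.Quotient.mk_surjective)
    have hfg := fg_of_smul_le b (P.comap N.mkQ) (by rintro _ ⟨m, rfl⟩; exact hb m)
    rw [← Submodule.map_comap_eq_of_surjective N.mkQ_surjective P]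
    exact hfg.map _
  -- `B` modulo the annihilator embeds into `(M/N)^n`
  let φ : B →ₗ[B] (Fin n → M ⧸ N) :=
    LinearMap.toSpanSingleton B _ (fun i => N.mkQ (π (Pi.single i 1)))
  have hker : ∀ b ∈ LinearMap.ker φ, ∀ m : M, b • m = 0 := by
    intro b hb
    refine hN.1 b fun m => ?_
    obtain ⟨v, rfl⟩ := hπ m
    rw [pi_eq_sum_univ' v, map_sum, Finset.smul_sum]
    refine Submodule.sum_mem _ fun i _ => ?_
    rw [map_smul, smul_comm]
    refine N.smul_mem _ ((Submodule.Quotient.mk_eq_zero N).1 ?_)
    exact congr_fun hb i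
  have : IsNoetherian B (B ⧸ LinearMap.ker φ) :=
    isNoetherian_of_linearEquiv φ.quotKerEquivRange.symm
  refine hJ (isNoetherian_of_surjective (M := Fin n → B ⧸ LinearMap.ker φ)
    (∑ i, (Submodule.liftQ _ (LinearMap.toSpanSingleton B M (π (Pi.single i 1)))
      (fun b hb => hker b hb _)).comp (LinearMap.proj i)) ?_)
  rw [LinearMap.range_eq_top]
  intro m
  obtain ⟨v, rfl⟩ := hπ m
  refine ⟨fun i => Submodule.Quotient.mk (v i), ?_⟩
  conv_rhs => rw [pi_eq_sum_univ' v, map_sum]
  simp only [LinearMap.sum_apply, LinearMap.comp_apply, LinearMap.proj_apply, Submodule.liftQ_apply,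
    LinearMap.toSpanSingleton_apply, map_smul]
  all_goals rfl

/-- **Eakin–Nagata.** -/
theorem isNoetherianRing [IsNoetherianRing A] [Module.Finite B A] [FaithfulSMul B A] : IsNoetherianRing B :=
  haveI := isNoetherianModule (B := B) (A := A)
  isNoetherian_of_injective (Algebra.linearMap B A) (FaithfulSMul.algebraMap_injective B A)

end Groth.Agent.H81.EakinNagata
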