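import Groth.Agent.H81.FinCovTrace
import Groth.Agent.H81.PushLocFree
import Groth.Agent.Lib.RelSpecBasics.Gamma
import Groth.Agent.Lib.TensorMod.Gen
import Groth.Agent.Lib.TensorMod.Pullback
import Groth.Agent.Lib.ClSub.Sections

/-!
Covers and double covers from finite locally free algebras.
-/

universe u

open CategoryTheory CategoryTheory.Limits AlgebraicGeometry Opposite TopologicalSpace

namespace Groth.Agent.H81.FinCovDbl

open Groth.Agent.Lib Groth.Agent.Lib.TensorMod Groth.Agent.Lib.TensorMod.Dual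
open Groth.Agent.H81.FinCovTrace

variable {X : Scheme.{u}} (A : RelSpec.QCAlg X)

theorem isFinLocFreeOfRank_push {d : ℕ} (hA : FlatMod.IsFinLocFreeOfRank d A.toModule) :
    FlatMod.IsFinLocFreeOfRank d (PushLocFree.push A.π) := by
  have hiso := RelSpecBasics.Gamma.isIso_gammaMap A
  have hb : ∀ V : X.Opens, Function.Bijective (A.gammaMap.app (op V)).hom := fun V =>
    ConcreteCategory.bijective_of_isIso (A.gammaMap.app (op V))
  intro x
  obtain ⟨U, hx, ⟨i⟩⟩ := hA x
  obtain ⟨e, he⟩ := Basis.exists_basis_of_iso i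
  choose E hE using fun k => (hb U).2 (show ASec A U from e k)
  let E' : Fin d → Γ(PushLocFree.push A.π, U) := fun k => E k
  refine ⟨U, hx, Basis.exists_iso_of_basis (e := E') fun V h => ?_⟩
  have key : ∀ a, (A.gammaMap.app (op V)).hom (Basis.comb E' h a) = (Basis.comb e h a : ASec A V) := by
    intro a
    change (A.gammaMap.app (op V)).hom (∑ k, A.π.app V (a k) *
      A.spec.presheaf.map (homOfLE (A.π.preimage_mono h)).op (E k)) = _
    rw [map_sum]
    refine Finset.sum_congr rfl fun k _ => ?_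
    refine (map_mul (A.gammaMap.app (op V)).hom _ _).trans (congrArg₂ (· * ·) ?_ ?_)
    · exact congr(($(A.π_c_gammaMap)).app (op V) (a k))
    · refine (congr($(A.gammaMap.naturality (homOfLE h).op) (E k))).trans ?_
      exact congrArg (A.presheaf.map (homOfLE h).op) (hE k)
  refine (Function.Bijective.of_comp_iff' (hb V) _).1 ?_
  exact (iff_of_eq (congrArg Function.Bijective (funext key))).2 (he V h)

theorem isCover_π {d : ℕ} (hA : FlatMod.IsFinLocFreeOfRank d A.toModule) : FinCov.IsCover A.π d := by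
  have h := isFinLocFreeOfRank_push A hA
  obtain ⟨h1, h2, h3⟩ := PushLocFree.isFinLocFree_of_push A.π fun y =>
    let ⟨U, hy, i⟩ := h y; ⟨U, d, hy, i⟩
  haveI := h1; haveI := h2
  refine ⟨⟨h1, h2, h3⟩, fun y => ?_⟩
  obtain ⟨U, hy, ⟨i⟩⟩ := h y
  exact PushLocFree.finrank_eq hy i

theorem strMod_trace {d : ℕ} (hA : FlatMod.IsFinLocFreeOfRank d A.toModule)
    (τ : A.toModule ⟶ Coh.structureModule X) (hτ : FinCov.IsTrace A τ) :
    FinCov.strMod A ≫ τ = d • 𝟙 (Coh.structureModule X) := by
  have hA' : FlatMod.IsFinLocFree A.toModule := fun x => let ⟨U, hx, i⟩ := hA x; ⟨U, d, hx, i⟩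
  ext W r
  obtain ⟨r, rfl⟩ : ∃ r' : Γ(X, W), (show Γ(Coh.structureModule X, W) from r') = r := ⟨r, rfl⟩
  have e : ∀ n : ℕ, (n • 𝟙 (Coh.structureModule X)).app W r = n • r := by
    intro n
    induction n with
    | zero => simp only [zero_nsmul]; rfl
    | succ n ih => rw [succ_nsmul, succ_nsmul, Scheme.Modules.Hom.add_app]; exact congrArg (· + r) ih
  refine Eq.trans ?_ (e d).symm
  change τ.app W (algebraMap Γ(X, W) (ASec A W) r) = d • r
  refine ext_small_affine A hA' fun V hV hVa hs => ?_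
  refine (rf_trace A τ hV _).trans ?_
  rw [resA_algebraMap]
  refine (trace_eq_of_small A hτ hVa hs _).trans ?_
  rcases subsingleton_or_nontrivial Γ(X, V) with h | h
  · exact Subsingleton.elim (α := Γ(X, V)) _ _
  obtain ⟨x, hx⟩ : Nonempty V := by
    by_contra hne
    haveI : Subsingleton Γ(X, V) := CommRingCat.subsingleton_of_isTerminal
      (X.sheaf.isTerminalOfEqEmpty (TopologicalSpace.Opens.ext (Set.eq_empty_iff_forall_notMem.2 fun x hx => hne ⟨⟨x, hx⟩⟩)))
    exact not_subsingleton Γ(X, V) ‹_›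
  obtain ⟨U, hxU, ⟨i⟩⟩ := hA x
  obtain ⟨e', he'⟩ := Basis.exists_basis_of_iso i
  obtain ⟨W', hW', hxW', hle⟩ := exists_isAffineOpen_mem_and_subset (show x ∈ U ⊓ V from ⟨hxU, hx⟩)
  obtain ⟨U₁, n, e₁, hle₁, he₁⟩ := hs
  obtain ⟨b, -⟩ := exists_basis A he₁ hle₁
  obtain ⟨b₁, -⟩ := exists_basis A he₁ ((show W' ≤ V from fun y hy => (hle hy).2).trans hle₁)
  obtain ⟨b', -⟩ := exists_basis A he' (show W' ≤ U from fun y hy => (hle hy).1)
  haveI : Nontrivial Γ(X, W') := (hW'.primeIdealOf ⟨x, hxW'⟩).nontrivial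
  have hn : n = d := by
    have h1 := Module.finrank_eq_card_basis b₁
    rw [Module.finrank_eq_card_basis b'] at h1
    simpa using h1.symm
  haveI := Module.Free.of_basis b
  rw [tr, Algebra.trace_algebraMap, Module.finrank_eq_card_basis b, Fintype.card_fin, hn]
  exact (map_nsmul (X.presheaf.map (homOfLE hV).op).hom d r).symm

variable {L : X.Modules} {m : CohB1.tensorMod L L ⟶ Coh.structureModule X} {j : L ⟶ A.toModule}

/-- The basis `1, j e`. -/
theorem isBasis_dbl (h : FinCov.IsDblAlg L m A j) {U : X.Opens} {e : Γ(L, U)} (he : Gen.IsGen L U e) :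
    Basis.IsBasis (M := A.toModule) (U := U) ![(show Γ(A.toModule, U) from (1 : ASec A U)), j.app U e] := by
  intro V hV
  have key : ∀ a : Fin 2 → Γ(X, V),
      (Basis.comb (M := A.toModule) ![(show Γ(A.toModule, U) from (1 : ASec A U)), j.app U e] hV a : ASec A V) =
        algebraMap Γ(X, V) (ASec A V) (a 0) + (show ASec A V from j.app V (a 1 • rs L hV e)) := fun a => by
    rw [Basis.comb, Fin.sum_univ_two]
    refine congrArg₂ (fun x y : ASec A V => x + y) ?_ ?_
    · change algebraMap Γ(X, V) (ASec A V) (a 0) * resA A hV 1 = _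
      rw [map_one, mul_one]
    · refine Eq.trans ?_ (j.app_smul _ _).symm
      exact congrArg (fun t => a 1 • t) (PresheafOfModules.naturality_apply j.val (homOfLE hV).op e).symm
  have h2 := (h.1 V).comp (Function.Bijective.prodMap Function.bijective_id (he V hV))
  have h3 := h2.comp (finTwoArrowEquiv Γ(X, V)).bijective
  exact (iff_of_eq (congrArg Function.Bijective (funext fun a => key a))).2 h3

theorem isFinLocFreeOfRank_two (hL : PicF.IsInvertible L) (h : FinCov.IsDblAlg L m A j) :
    FlatMod.IsFinLocFreeOfRank 2 A.toModule := fun x => by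
  obtain ⟨U, e, hx, he⟩ := Gen.isInvertible_iff.1 hL x
  exact ⟨U, hx, Basis.exists_iso_of_basis (isBasis_dbl A h he)⟩

theorem trace_j (hL : PicF.IsInvertible L) (h : FinCov.IsDblAlg L m A j)
    (τ : A.toModule ⟶ Coh.structureModule X) (hτ : FinCov.IsTrace A τ) : j ≫ τ = 0 := by
  classical
  ext W l
  refine TopCat.Sheaf.eq_of_locally_eq' X.sheaf (fun V : {V : X.Opens // (IsAffineOpen V ∧
      ∃ e : Γ(L, V), Gen.IsGen L V e) ∧ V ≤ W} => V.1) W (fun V => homOfLE V.2.2) (fun x hx => ?_) _ _ fun V => ?_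
  · obtain ⟨U, e, hxU, he⟩ := Gen.isInvertible_iff.1 hL x
    obtain ⟨V, hV, hxV, hVU⟩ := exists_isAffineOpen_mem_and_subset (show x ∈ U ⊓ W from ⟨hxU, hx⟩)
    exact Opens.mem_iSup.2 ⟨⟨V, ⟨hV, _, he.res (show V ≤ U from fun y hy => (hVU hy).1)⟩,
      fun y hy => (hVU hy).2⟩, hxV⟩
  obtain ⟨V, ⟨hVa, e, he⟩, hVW⟩ := V
  refine Eq.trans ?_ (map_zero (X.presheaf.map (homOfLE hVW).op).hom).symm
  refine (rf_trace A τ hVW (j.app W l)).trans ?_
  rw [show resA A hVW (j.app W l) = j.app V (rs L hVW l) from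
    (PresheafOfModules.naturality_apply j.val (homOfLE hVW).op l).symm]
  obtain ⟨c, hc⟩ := (he V le_rfl).2 (rs L hVW l)
  simp only [rs_self] at hc
  rw [← hc, Scheme.Modules.Hom.app_smul, Scheme.Modules.Hom.app_smul]
  suffices h0 : (show Γ(X, V) from τ.app V (j.app V e)) = 0 from
    (congrArg (c * ·) h0).trans (mul_zero c)
  have hbB := isBasis_dbl A h he
  have hs : Small A V := ⟨V, 2, _, le_rfl, hbB⟩
  refine (trace_eq_of_small A hτ hVa hs _).trans ?_
  obtain ⟨b, hb⟩ := exists_basis A hbB le_rfl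
  have hrepr : ∀ (r : Γ(X, V)) (l : Γ(L, V)) (c : Γ(X, V)), c • e = l →
      b.equivFun (algebraMap _ _ r + (show ASec A V from j.app V l)) = ![r, c] := by
    intro r l c hcl
    rw [← LinearEquiv.eq_symm_apply, hb, Basis.comb, Fin.sum_univ_two, rs_self, rs_self]
    subst hcl
    refine congrArg₂ (fun x y : ASec A V => x + y) (mul_one _).symm ?_
    exact j.app_smul c e
  have hz : (show ASec A V from j.app V (0 : Γ(L, V))) = 0 := map_zero (j.app V).hom
  have hb0 : b 0 = 1 := by
    have := congrArg b.equivFun.symm (hrepr 1 0 0 (zero_smul _ _))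
    rw [LinearEquiv.symm_apply_apply, hz, map_one, add_zero, Module.Basis.equivFun_symm_apply,
      Fin.sum_univ_two] at this
    simpa using this.symm
  have hb1 : b 1 = j.app V e := by
    have := congrArg b.equivFun.symm (hrepr 0 e 1 (one_smul _ _))
    rw [LinearEquiv.symm_apply_apply, map_zero, zero_add, Module.Basis.equivFun_symm_apply,
      Fin.sum_univ_two] at this
    simpa using this.symm
  change tr A V (show ASec A V from j.app V e) = 0
  rw [tr, Algebra.trace_eq_matrix_trace b, Matrix.trace_fin_two, Algebra.leftMulMatrix_eq_repr_mul,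
    Algebra.leftMulMatrix_eq_repr_mul, hb0, hb1, mul_one, ← Module.Basis.equivFun_apply,
    ← Module.Basis.equivFun_apply]
  have h1 := hrepr 0 e 1 (one_smul _ _)
  rw [map_zero, zero_add] at h1
  have h2 := hrepr (show Γ(X, V) from m.app V (SecTwist.tmul L L V e e)) 0 0 (zero_smul _ _)
  rw [hz, add_zero] at h2
  have hmul : (show ASec A V from j.app V e) * (show ASec A V from j.app V e) =
      algebraMap Γ(X, V) (ASec A V) (m.app V (SecTwist.tmul L L V e e)) := h.2 V e e
  rw [h1, hmul, h2]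
  simp

theorem trace_eq_zero_iff (hL : PicF.IsInvertible L) (h : FinCov.IsDblAlg L m A j)
    (h2 : IsUnit (2 : Γ(X, ⊤))) (τ : A.toModule ⟶ Coh.structureModule X) (hτ : FinCov.IsTrace A τ)
    (U : X.Opens) (a : Γ(A.toModule, U)) :
    τ.app U a = 0 ↔ a ∈ Set.range (j.app U) := by
  have hj := trace_j A hL h τ hτ
  have hj' : ∀ l, τ.app U (j.app U l) = 0 := fun l => congrArg (fun φ => φ.app U l) hj
  refine ⟨fun h0 => ?_, fun ⟨l, hl⟩ => hl ▸ hj' l⟩
  obtain ⟨⟨s, l⟩, rfl⟩ := (h.1 U).2 a
  have h1 : τ.app U ((FinCov.strMod A).app U s) = 2 • (show Γ(Coh.structureModule X, U) from s) := by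
    have := congrArg (fun φ => φ.app U s) (strMod_trace A (isFinLocFreeOfRank_two A hL h) τ hτ)
    refine this.trans ?_
    rw [two_nsmul, two_nsmul, Scheme.Modules.Hom.add_app]
    rfl
  change τ.app U ((FinCov.strMod A).app U s + j.app U l) = 0 at h0
  rw [map_add] at h0
  replace h0 : 2 • s = (0 : Γ(X, U)) := h1.symm.trans ((add_zero _).symm.trans
    ((congrArg (τ.app U ((FinCov.strMod A).app U s) + ·) (hj' l).symm).trans h0))
  rw [two_nsmul] at h0
  have hs : s = 0 := by
    refine (h2.map (X.presheaf.map (homOfLE (le_top : U ≤ ⊤)).op).hom).mul_right_eq_zero.1 ?_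
    rw [show (X.presheaf.map (homOfLE (le_top : U ≤ ⊤)).op).hom 2 = 2 from map_ofNat _ 2, two_mul]
    exact h0
  exact ⟨l, by rw [hs]; exact (zero_add _).symm.trans (congrArg (· + _) (map_zero _).symm)⟩

theorem exists_dbl_kernel (hA : FlatMod.IsFinLocFreeOfRank 2 A.toModule)
    (τ : A.toModule ⟶ Coh.structureModule X) (hτ : FinCov.IsTrace A τ) (h2 : IsUnit (2 : Γ(X, ⊤))) :
    ∃ m : CohB1.tensorMod (kernel τ) (kernel τ) ⟶ Coh.structureModule X,
      FinCov.IsDblAlg (kernel τ) m A (kernel.ι τ) := by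
  classical
  have hA' : FlatMod.IsFinLocFree A.toModule := fun x => let ⟨U, hx, i⟩ := hA x; ⟨U, 2, hx, i⟩
  let half : ∀ U : X.Opens, Γ(X, U) := fun U => rf le_top (↑h2.unit⁻¹ : Γ(X, ⊤))
  have hhalf : ∀ U, 2 * half U = 1 := fun U => by
    rw [← map_ofNat (X.presheaf.map (homOfLE (le_top : U ≤ ⊤)).op).hom 2]
    refine (map_mul (X.presheaf.map (homOfLE (le_top : U ≤ ⊤)).op).hom 2 _).symm.trans ?_
    rw [IsUnit.mul_val_inv, map_one]
  have hstr : ∀ U (s : Γ(X, U)), (show Γ(X, U) from τ.app U (algebraMap Γ(X, U) (ASec A U) s)) = 2 * s := by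
    intro U s
    have := congrArg (fun φ => φ.app U s) (strMod_trace A hA τ hτ)
    refine this.trans ?_
    rw [two_nsmul, Scheme.Modules.Hom.add_app, two_mul]
    rfl
  let ι : ∀ U, Γ(kernel τ, U) → ASec A U := fun U l => (kernel.ι τ).app U l
  have hτι : ∀ U l, τ.app U (ι U l) = 0 := fun U l => ClSub.Sections.app_kernel_ι_app τ U l
  have hadd : ∀ (U : X.Opens) (x y : ASec A U), (show Γ(X, U) from τ.app U (x + y)) =
      (show Γ(X, U) from τ.app U x) + (show Γ(X, U) from τ.app U y) := fun U x y => map_add (τ.app U).hom x y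
  have hιadd : ∀ (U : X.Opens) a a', ι U (a + a') = ι U a + ι U a' := fun U a a' =>
    map_add ((kernel.ι τ).app U).hom a a'
  let mm : ∀ U, Γ(kernel τ, U) → Γ(kernel τ, U) → Γ(X, U) := fun U l l' =>
    half U * (show Γ(X, U) from τ.app U (ι U l * ι U l'))
  obtain ⟨m, hm⟩ := Pullback.exists_hom_of_pairing (M := kernel τ) (N := kernel τ) (H := Coh.structureModule X)
    mm
    (fun U a a' b => by
      change half U * _ = half U * _ + half U * _
      rw [← mul_add]; refine congrArg (half U * ·) ?_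
      change τ.app U (ι U (a + a') * ι U b) = τ.app U (ι U a * ι U b) + τ.app U (ι U a' * ι U b)
      rw [hιadd, add_mul]
      exact hadd U _ _)
    (fun U a b b' => by
      change half U * _ = half U * _ + half U * _
      rw [← mul_add]; refine congrArg (half U * ·) ?_
      change τ.app U (ι U a * ι U (b + b')) = τ.app U (ι U a * ι U b) + τ.app U (ι U a * ι U b')
      rw [hιadd, mul_add]
      exact hadd U _ _)
    (fun U r a b => by
      refine Eq.trans ?_ (mul_left_comm (half U) r _)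
      refine congrArg (half U * ·) (Eq.trans (congrArg (τ.app U) ?_) (τ.app_smul r _))
      change (show ASec A U from (kernel.ι τ).app U (r • a)) * ι U b = algebraMap _ _ r * (ι U a * ι U b)
      rw [Scheme.Modules.Hom.app_smul, ← mul_assoc]
      rfl)
    (fun U r a b => by
      refine Eq.trans ?_ (mul_left_comm (half U) r _)
      refine congrArg (half U * ·) (Eq.trans (congrArg (τ.app U) ?_) (τ.app_smul r _))
      change ι U a * (show ASec A U from (kernel.ι τ).app U (r • b)) = algebraMap _ _ r * (ι U a * ι U b)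
      rw [Scheme.Modules.Hom.app_smul, mul_left_comm]
      rfl)
    (fun U V i a b => by
      change rf i.le (half V * _) = half U * _
      refine (map_mul (X.presheaf.map (homOfLE i.le).op).hom (half V) _).trans ?_
      refine congrArg₂ (fun p q : Γ(X, U) => p * q) (rf_rf le_top i.le _)
        ((rf_trace A τ i.le _).trans (congrArg (τ.app U) ?_))
      rw [map_mul]
      exact congrArg₂ (fun x y : ASec A U => x * y)
        (PresheafOfModules.naturality_apply (kernel.ι τ).val i.op a).symm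
        (PresheafOfModules.naturality_apply (kernel.ι τ).val i.op b).symm)
  refine ⟨m, fun U => ⟨?_, fun a => ?_⟩, fun U l l' => ?_⟩
  · rintro ⟨s, l⟩ ⟨s', l'⟩ h
    change algebraMap Γ(X, U) (ASec A U) s + ι U l = algebraMap Γ(X, U) (ASec A U) s' + ι U l' at h
    have e1 : ∀ (s : Γ(X, U)) l, (show Γ(X, U) from τ.app U
        (algebraMap Γ(X, U) (ASec A U) s + ι U l)) = 2 * s := fun s l =>
      (hadd U _ _).trans ((congrArg₂ (fun p q : Γ(X, U) => p + q) (hstr U s) (hτι U l)).trans (add_zero _))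
    have hs : s = s' := by
      have h1' : 2 * s = 2 * s' := (e1 s l).symm.trans
        ((congrArg (fun a : ASec A U => (show Γ(X, U) from τ.app U a)) h).trans (e1 s' l'))
      have := congrArg (half U * ·) h1'
      simpa only [← mul_assoc, mul_comm (half U) 2, hhalf, one_mul] using this
    subst hs
    exact Prod.ext rfl (ClSub.Sections.kernel_ι_app_injective τ U (show ι U l = ι U l' from add_left_cancel h))
  · let s : Γ(X, U) := half U * (show Γ(X, U) from τ.app U a)
    obtain ⟨l, hl⟩ := ClSub.Sections.exists_kernel_ι_app_eq τ U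
      (show Γ(A.toModule, U) from (show ASec A U from a) - algebraMap Γ(X, U) (ASec A U) s) (by
        refine (map_sub (τ.app U).hom _ _).trans (sub_eq_zero.2 ?_)
        refine Eq.trans ?_ (hstr U s).symm
        rw [← mul_assoc, hhalf, one_mul])
    refine ⟨(s, l), ?_⟩
    change algebraMap Γ(X, U) (ASec A U) s + ι U l = (show ASec A U from a)
    rw [show ι U l = _ from hl]
    exact add_sub_cancel _ _
  · change ι U l * ι U l' = algebraMap Γ(X, U) (ASec A U) (show Γ(X, U) from m.app U (SecTwist.tmul _ _ U l l'))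
    rw [show (show Γ(X, U) from m.app U (SecTwist.tmul _ _ U l l')) = mm U l l' from
      ((hm U l l').symm.trans ((congrArg (fun g => Free.pairM g l l') (Category.id_comp m).symm).trans
        (Free.pairM_comp (𝟙 _) m l l'))).symm]
    refine TopCat.Sheaf.eq_of_locally_eq' (⟨A.presheaf, A.isSheaf⟩ : TopCat.Sheaf CommRingCat.{u} X)
      (fun V : {V : X.Opens // (IsAffineOpen V ∧ ∃ (W : X.Opens) (e : Fin 2 → Γ(A.toModule, W)),
        V ≤ W ∧ Basis.IsBasis e) ∧ V ≤ U} => V.1) U (fun V => homOfLE V.2.2) (fun x hx => ?_) _ _ fun V => ?_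
    · obtain ⟨W, hxW, ⟨i⟩⟩ := hA x
      obtain ⟨e, he⟩ := Basis.exists_basis_of_iso i
      obtain ⟨V, hV, hxV, hVW⟩ := exists_isAffineOpen_mem_and_subset (show x ∈ W ⊓ U from ⟨hxW, hx⟩)
      exact Opens.mem_iSup.2 ⟨⟨V, ⟨hV, W, e, fun y hy => (hVW hy).1, he⟩, fun y hy => (hVW hy).2⟩, hxV⟩
    obtain ⟨V, ⟨hVa, W, e, hVW', he⟩, hVU⟩ := V
    have hs : Small A V := ⟨W, 2, e, hVW', he⟩
    obtain ⟨b, -⟩ := exists_basis A he hVW'
    have hsq : ∀ y : ASec A V, tr A V y = 0 → ∃ c, y * y = algebraMap Γ(X, V) (ASec A V) c := by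
      intro y hy
      rw [tr, Algebra.trace_eq_matrix_trace b, Matrix.trace_fin_two] at hy
      let M := Algebra.leftMulMatrix b y
      have h11 : M 1 1 = -M 0 0 := eq_neg_of_add_eq_zero_right hy
      refine ⟨M 0 0 * M 0 0 + M 0 1 * M 1 0, Algebra.leftMulMatrix_injective b ?_⟩
      rw [map_mul, AlgHom.commutes]
      ext i k
      fin_cases i <;> fin_cases k <;>
        simp [Matrix.mul_apply, Fin.sum_univ_two, Matrix.algebraMap_matrix_apply, M] at h11 ⊢ <;>
        rw [h11] <;> ring
    let x := ι V (rs _ hVU l)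
    let y := ι V (rs _ hVU l')
    have htx : tr A V x = 0 := (trace_eq_of_small A hτ hVa hs x).symm.trans (hτι V _)
    have hty : tr A V y = 0 := (trace_eq_of_small A hτ hVa hs y).symm.trans (hτι V _)
    obtain ⟨c₁, hc₁⟩ := hsq x htx
    obtain ⟨c₂, hc₂⟩ := hsq y hty
    obtain ⟨c₃, hc₃⟩ := hsq (x + y) (by rw [map_add, htx, hty, add_zero])
    have hxy : x * y = algebraMap Γ(X, V) (ASec A V) (half V * (c₃ - c₁ - c₂)) := by
      have h22 : algebraMap Γ(X, V) (ASec A V) (half V) * 2 = 1 := by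
        rw [← map_ofNat (algebraMap Γ(X, V) (ASec A V)) 2, ← map_mul, mul_comm, hhalf, map_one]
      calc x * y = algebraMap Γ(X, V) (ASec A V) (half V) * ((x + y) * (x + y) - x * x - y * y) := by
            rw [show (x + y) * (x + y) - x * x - y * y = 2 * (x * y) by ring, ← mul_assoc, h22, one_mul]
        _ = _ := by rw [hc₃, hc₁, hc₂, map_mul, map_sub, map_sub]
    change resA A hVU (ι U l * ι U l') = resA A hVU (algebraMap Γ(X, U) (ASec A U) (mm U l l'))
    have hres : resA A hVU (ι U l * ι U l') = x * y := by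
      rw [map_mul]
      exact congrArg₂ (fun p q : ASec A V => p * q)
        (PresheafOfModules.naturality_apply (kernel.ι τ).val (homOfLE hVU).op l).symm
        (PresheafOfModules.naturality_apply (kernel.ι τ).val (homOfLE hVU).op l').symm
    rw [resA_algebraMap, hres]
    have hmm : rf hVU (mm U l l') = half V * (show Γ(X, V) from τ.app V (resA A hVU (ι U l * ι U l'))) := by
      refine (map_mul (X.presheaf.map (homOfLE hVU).op).hom (half U) _).trans ?_
      exact congrArg₂ (fun p q : Γ(X, V) => p * q) (rf_rf le_top hVU _) (rf_trace A τ hVU _)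
    rw [hmm, hres, hxy]
    refine congrArg _ ?_
    rw [hstr, ← mul_assoc, mul_comm (half V) 2, hhalf, one_mul]

end Groth.Agent.H81.FinCovDbl
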