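import Groth.Agent.H81.FunFldSep
import Mathlib.RingTheory.PolynomialAlgebra
import Mathlib.RingTheory.Unramified.Field
import Groth.Agent.Lib.FunFld.Ext
import Mathlib.FieldTheory.PurelyInseparable.Exponent
/-!
# A function field with a separating element is geometric
-/

set_option autoImplicit false

namespace Groth.Agent.H81.FunFldGeom

open IntermediateField Polynomial Groth.Agent.Lib.FunFld Groth.Agent.Lib.FunFld.Hasse
open scoped TensorProduct

universe u v
variable {k : Type u} {K : Type v} [Field k] [Field K] [Algebra k K]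

/-- The fraction field of `k[X]` stays a domain after a finite extension. -/
theorem isDomain_tensor {F : Type v} [Field F] [Algebra k F] (g : k[X] →ₐ[k] F)
    (hg : Function.Injective g) (hfrac : ∀ a : F, ∃ r s : k[X], s ≠ 0 ∧ g s * a = g r)
    (k' : Type u) [Field k'] [Algebra k k'] : IsDomain (F ⊗[k] k') := by
  let j : k[X] ⊗[k] k' →ₐ[k] F ⊗[k] k' := Algebra.TensorProduct.map g (AlgHom.id k k')
  have hj : Function.Injective j :=
    Module.Flat.rTensor_preserves_injective_linearMap (M := k') g.toLinearMap hg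
  have : IsDomain (k[X] ⊗[k] k') :=
    MulEquiv.isDomain k'[X]
      ((Algebra.TensorProduct.comm k k[X] k').trans
        ((polyEquivTensor k k').symm)).toMulEquiv
  have hclear : ∀ w : F ⊗[k] k', ∃ q : k[X], q ≠ 0 ∧ ∃ t, (g q ⊗ₜ[k] (1 : k')) * w = j t := by
    intro w
    induction w using TensorProduct.induction_on with
    | zero => exact ⟨1, one_ne_zero, 0, by simp⟩
    | tmul a c =>
      obtain ⟨r, s, hs, h⟩ := hfrac a
      exact ⟨s, hs, r ⊗ₜ c, by simp [j, h]⟩
    | add a b ha hb =>
      obtain ⟨q, hq, t, ht⟩ := ha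
      obtain ⟨q', hq', t', ht'⟩ := hb
      refine ⟨q * q', mul_ne_zero hq hq', (q' ⊗ₜ 1) * t + (q ⊗ₜ 1) * t', ?_⟩
      have ej : ∀ r : k[X], j (r ⊗ₜ[k] (1 : k')) = g r ⊗ₜ[k] (1 : k') := fun r => by simp [j]
      have em : g (q * q') ⊗ₜ[k] (1 : k') = (g q ⊗ₜ[k] (1 : k')) * (g q' ⊗ₜ[k] (1 : k')) := by
        simp [map_mul, Algebra.TensorProduct.tmul_mul_tmul]
      rw [map_add, map_mul j, map_mul j, ← ht, ← ht', ej, ej, em]
      ring
  have hunit : ∀ q : k[X], q ≠ 0 → IsUnit (g q ⊗ₜ[k] (1 : k')) := fun q hq =>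
    (IsUnit.mk0 _ fun h0 => hq (hg (h0.trans (map_zero _).symm))).map
      (Algebra.TensorProduct.includeLeft (R := k) (S := k) (A := F) (B := k'))
  have : Nontrivial (F ⊗[k] k') := hj.nontrivial
  have : NoZeroDivisors (F ⊗[k] k') := ⟨fun {a b} hab => by
    obtain ⟨q, hq, t, ht⟩ := hclear a
    obtain ⟨q', hq', t', ht'⟩ := hclear b
    have h0 : t * t' = 0 := hj (by rw [map_mul, ← ht, ← ht', map_zero, mul_mul_mul_comm, hab, mul_zero])
    rcases mul_eq_zero.1 h0 with h | h
    · left; rw [h, map_zero] at ht; exact (hunit q hq).mul_right_eq_zero.1 ht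
    · right; rw [h, map_zero] at ht'; exact (hunit q' hq').mul_right_eq_zero.1 ht'⟩
  exact NoZeroDivisors.to_isDomain _

/-- Separable over a field staying a domain implies reduced. -/
theorem isReduced_of_isDomain {F : Type v} [Field F] [Algebra k F] [Algebra F K] [IsScalarTower k F K]
    [Algebra.IsSeparable F K] [FiniteDimensional F K] (k' : Type u) [Field k'] [Algebra k k']
    [IsDomain (F ⊗[k] k')] : IsReduced (k' ⊗[k] K) := by
  let E := FractionRing (F ⊗[k] k')
  have : Algebra.FormallyUnramified F K := Algebra.FormallyUnramified.of_isSeparable F K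
  have : IsReduced (E ⊗[F] K) := Algebra.FormallyUnramified.isReduced_of_field E (E ⊗[F] K)
  let ψ : (F ⊗[k] k') →ₐ[F] E := IsScalarTower.toAlgHom F (F ⊗[k] k') E
  have hψ : Function.Injective (Algebra.TensorProduct.map (AlgHom.id F K) ψ) :=
    Module.Flat.lTensor_preserves_injective_linearMap (M := K) ψ.toLinearMap
      (IsFractionRing.injective (F ⊗[k] k') E)
  have : IsReduced (K ⊗[F] E) :=
    isReduced_of_injective (Algebra.TensorProduct.comm F K E) (Algebra.TensorProduct.comm F K E).injective
  have : IsReduced (K ⊗[F] (F ⊗[k] k')) := isReduced_of_injective _ hψ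
  let e : k' ⊗[k] K ≃+* K ⊗[F] (F ⊗[k] k') :=
    (Algebra.TensorProduct.comm k k' K).toRingEquiv.trans
      (Algebra.TensorProduct.cancelBaseChange k F F K k').symm.toRingEquiv
  exact isReduced_of_injective e e.injective

theorem isReduced_tensor {x : K} (hx : Transcendental k x) (hs : Separable.IsSep k x)
    [FiniteDimensional (adjoin k ({x} : Set K)) K] (k' : Type u) [Field k'] [Algebra k k'] :
    IsReduced (k' ⊗[k] K) := by
  let F := IntermediateField.adjoin k ({x} : Set K)
  let g : F := ⟨x, mem_adjoin_simple_self k x⟩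
  have : Algebra.IsSeparable F K := hs
  have : IsDomain (F ⊗[k] k') := isDomain_tensor (aeval g) (fun p q h =>
    transcendental_iff_injective.1 hx (by
      simpa [g, ← aeval_algHom_apply F.val g] using congrArg F.val h)) (fun a => by
    obtain ⟨r, s, h⟩ := (mem_adjoin_simple_iff k (a : K)).1 a.2
    have e1 : ∀ q : k[X], ((aeval g q : F) : K) = aeval x q := fun q => (aeval_algHom_apply F.val g q).symm
    by_cases hs0 : s = 0
    · refine ⟨0, 1, one_ne_zero, ?_⟩
      have ha : a = 0 := Subtype.ext (by rw [h, hs0, map_zero, div_zero]; rfl)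
      rw [ha, mul_zero, map_zero]
    refine ⟨r, s, hs0, Subtype.ext ?_⟩
    rw [IntermediateField.coe_mul, e1, e1, h]
    exact mul_div_cancel₀ _ fun h0 => hx ⟨s, hs0, h0⟩) k'
  exact isReduced_of_isDomain (F := F) k'

theorem transcendental_of_isSep (hK : _root_.FunFld.IsFunctionField k K) {x : K}
    (hs : Separable.IsSep k x) : Transcendental k x := by
  by_contra ht
  obtain ⟨c, rfl⟩ := hK.2 x (by simpa [Transcendental] using ht)
  obtain ⟨t, ht⟩ := Riemann.exists_transcendental hK
  have : Algebra.IsSeparable (adjoin k ({algebraMap k K c} : Set K)) K := hs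
  rw [adjoin_simple_eq_bot_iff.2 ((⊥ : IntermediateField k K).algebraMap_mem c)] at this
  exact ht ((Algebra.IsSeparable.isSeparable (⊥ : IntermediateField k K) t).isIntegral.isAlgebraic.restrictScalars k)

/-- A reduced ring all whose elements have a fixed power in a subfield is a field. -/
theorem isField_of_pow {R S : Type*} [CommRing R] [CommRing S] [IsReduced S] [Nontrivial S] (j : R →+* S)
    (hR : IsField R) {m : ℕ} (hm : m ≠ 0) (h : ∀ w : S, ∃ z : R, w ^ m = j z) : IsField S := by
  refine ⟨exists_pair_ne _, mul_comm, fun {w} hw => ?_⟩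
  obtain ⟨z, hz⟩ := h w
  have hz0 : z ≠ 0 := by
    rintro rfl
    exact hw (IsReduced.eq_zero w ⟨m, hz.trans (map_zero j)⟩)
  obtain ⟨z', hz'⟩ := hR.mul_inv_cancel hz0
  obtain ⟨m, rfl⟩ := Nat.exists_eq_succ_of_ne_zero hm
  refine ⟨w ^ m * j z', ?_⟩
  rw [← mul_assoc, ← pow_succ', hz, ← map_mul, hz', map_one]

theorem pow_mem_range {L k' : Type u} [Field L] [Field k'] [Algebra k L] [Algebra k k'] (i : L →ₐ[k] k')
    {p : ℕ} [ExpChar k p] [Nontrivial (k' ⊗[k] K)] {n : ℕ} (hn : ∀ c : k', c ^ p ^ n ∈ i.toRingHom.range)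
    (w : k' ⊗[k] K) :
    ∃ z : L ⊗[k] K, w ^ p ^ n = Algebra.TensorProduct.map i (AlgHom.id k K) z := by
  have : ExpChar (k' ⊗[k] K) p :=
    expChar_of_injective_algebraMap (algebraMap k (k' ⊗[k] K)).injective p
  induction w using TensorProduct.induction_on with
  | zero => exact ⟨0, (zero_pow (M₀ := k' ⊗[k] K) (expChar_pow_pos k p n).ne').trans (map_zero _).symm⟩
  | tmul c a =>
    obtain ⟨l, hl⟩ := hn c
    refine ⟨l ⊗ₜ (a ^ p ^ n), ?_⟩
    rw [Algebra.TensorProduct.tmul_pow, ← hl]
    rfl
  | add x y hx hy =>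
    obtain ⟨c, hc⟩ := hx
    obtain ⟨d, hd⟩ := hy
    refine ⟨c + d, (add_pow_expChar_pow (R := k' ⊗[k] K) x y p n).trans ?_⟩
    rw [map_add, hc, hd]

set_option backward.isDefEq.respectTransparency false in
theorem isGeometric_of_isSep (hK : _root_.FunFld.IsFunctionField k K) {x : K}
    (hs : Separable.IsSep k x) : _root_.FunFld.IsGeometric k K := by
  intro k' _ _ hfin
  have ht := transcendental_of_isSep hK hs
  have := Bound.finiteDimensional_adjoin_transcendental hK ht
  have : IsReduced (k' ⊗[k] K) := isReduced_tensor ht hs k'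
  let L := separableClosure k k'
  have : IsPurelyInseparable L k' := separableClosure.isPurelyInseparable k k'
  have hF : IsField (L ⊗[k] K) := FunFldSep.isField_of_isSeparable hK L
  obtain ⟨p, hp⟩ := ExpChar.exists k
  have : ExpChar L p := expChar_of_injective_algebraMap (algebraMap k L).injective p
  have hn : ∀ c : k', c ^ p ^ IsPurelyInseparable.exponent L k' ∈ L.val.toRingHom.range := fun c =>
    IsPurelyInseparable.exponent_def' L p c
  have hj : Function.Injective (Algebra.TensorProduct.map L.val (AlgHom.id k K)) :=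
    Module.Flat.rTensor_preserves_injective_linearMap (M := K) L.val.toLinearMap Subtype.val_injective
  have : Nontrivial (k' ⊗[k] K) := by
    have := hF.nontrivial
    exact hj.nontrivial
  exact isField_of_pow (Algebra.TensorProduct.map L.val (AlgHom.id k K)).toRingHom hF
    (expChar_pow_pos k p _).ne' (pow_mem_range L.val hn)

end Groth.Agent.H81.FunFldGeom
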