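import Groth.Agent.Lib.FunFld.Hasse.Separable
import Mathlib.RingTheory.Etale.Kaehler
import Mathlib.RingTheory.Etale.Field
import Mathlib.RingTheory.Kaehler.Polynomial
import Mathlib.FieldTheory.KummerPolynomial
import Mathlib.FieldTheory.PurelyInseparable.Basic
import Mathlib.RingTheory.Polynomial.IsIntegral
import Mathlib.FieldTheory.PrimitiveElement
/-!
# Separating elements, `k K^p`, and geometric function fields
-/

set_option autoImplicit false

namespace Groth.Agent.H81.FunFldSep

open IntermediateField Polynomial Groth.Agent.Lib.FunFld Groth.Agent.Lib.FunFld.Hasse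
open scoped TensorProduct

universe u v
variable {k : Type u} {K : Type v} [Field k] [Field K] [Algebra k K]

/-- The differential of a transcendental separating element is nonzero. -/
theorem D_ne_zero_of_isSep {x : K} (hx : Transcendental k x) (hs : Separable.IsSep k x) :
    KaehlerDifferential.D k K x ≠ 0 := by
  let F := IntermediateField.adjoin k ({x} : Set K)
  let g : F := ⟨x, mem_adjoin_simple_self k x⟩
  let _ : Algebra k[X] K := (aeval x).toRingHom.toAlgebra
  let _ : Algebra k[X] F := (aeval g).toRingHom.toAlgebra
  have : IsScalarTower k k[X] K := IsScalarTower.of_algebraMap_eq' (aeval x).comp_algebraMap.symm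
  have : IsScalarTower k[X] F K := IsScalarTower.of_algebraMap_eq' (RingHom.ext fun p =>
    (aeval_algHom_apply F.val g p).trans rfl)
  have hinj : Function.Injective (algebraMap k[X] F) := fun p q h =>
    transcendental_iff_injective.1 hx (by
      simpa [RingHom.algebraMap_toAlgebra, g, ← aeval_algHom_apply F.val g] using congrArg F.val h)
  have : FaithfulSMul k[X] F := (faithfulSMul_iff_algebraMap_injective _ _).2 hinj
  have : IsFractionRing k[X] F := IsFractionRing.of_field k[X] F fun z => by
    obtain ⟨r, s, h⟩ := (mem_adjoin_simple_iff k (z : K)).1 z.2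
    refine ⟨r, s, Subtype.ext ?_⟩
    rw [h, IntermediateField.coe_div]
    congr 1 <;> exact aeval_algHom_apply F.val g _
  have : Algebra.IsSeparable F K := hs
  have : Algebra.FormallyEtale k[X] F := .of_isLocalization (nonZeroDivisors k[X])
  have : Algebra.FormallyEtale F K := Algebra.FormallyEtale.of_isSeparable F K
  have : Algebra.FormallyEtale k[X] K := .comp k[X] F K
  intro h0
  let e := KaehlerDifferential.tensorKaehlerEquivOfFormallyEtale k k[X] K
  have h1 : e ((1 : K) ⊗ₜ[k[X]] KaehlerDifferential.D k k[X] X) = 0 := by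
    rw [KaehlerDifferential.tensorKaehlerEquivOfFormallyEtale_apply, KaehlerDifferential.mapBaseChange_tmul,
      KaehlerDifferential.map_D, RingHom.algebraMap_toAlgebra]
    simp [h0]
  have h2 := congrArg ((KaehlerDifferential.polynomialEquiv k).toLinearMap.lTensor K)
    ((map_eq_zero_iff e e.injective).1 h1)
  rw [LinearMap.lTensor_tmul, map_zero, LinearEquiv.coe_coe, KaehlerDifferential.polynomialEquiv_D,
    derivative_X] at h2
  have h3 := congrArg (TensorProduct.rid k[X] K) h2
  rw [TensorProduct.rid_tmul, map_zero, one_smul] at h3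
  exact one_ne_zero h3

variable (k K) in
/-- The field `k K^p`. -/
abbrev powField (p : ℕ) : IntermediateField k K := adjoin k (Set.range fun y : K => y ^ p)

theorem D_eq_zero_of_mem {p : ℕ} [CharP K p] {a : K} (ha : a ∈ powField k K p) :
    KaehlerDifferential.D k K a = 0 := by
  induction ha using IntermediateField.adjoin_induction with
  | mem z hz =>
    obtain ⟨y, rfl⟩ := hz
    show KaehlerDifferential.D k K (y ^ p) = 0
    rw [Derivation.leibniz_pow, ← Nat.cast_smul_eq_nsmul K, CharP.cast_eq_zero, zero_smul]
  | algebraMap c => exact Derivation.map_algebraMap _ c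
  | add a b _ _ ha hb => rw [map_add, ha, hb, add_zero]
  | mul a b _ _ ha hb => rw [Derivation.leibniz, ha, hb, smul_zero, smul_zero, add_zero]
  | inv a _ ha =>
    rw [Derivation.leibniz_inv, ha, smul_zero]

theorem not_mem_powField {p : ℕ} [CharP K p] (hK : _root_.FunFld.IsFunctionField k K) {x : K}
    (hs : Separable.IsSep k x) : x ∉ powField k K p := by
  intro hx
  by_cases ht : Transcendental k x
  · exact D_ne_zero_of_isSep ht hs (D_eq_zero_of_mem hx)
  · obtain ⟨c, rfl⟩ := hK.2 x (by simpa [Transcendental] using ht)
    obtain ⟨t, ht⟩ := Riemann.exists_transcendental hK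
    have : Algebra.IsSeparable (adjoin k ({algebraMap k K c} : Set K)) K := hs
    have hbot : adjoin k ({algebraMap k K c} : Set K) = ⊥ :=
      adjoin_simple_eq_bot_iff.2 ((⊥ : IntermediateField k K).algebraMap_mem c)
    rw [hbot] at this
    have ha : IsAlgebraic (⊥ : IntermediateField k K) t :=
      (Algebra.IsSeparable.isSeparable (⊥ : IntermediateField k K) t).isIntegral.isAlgebraic
    exact ht (ha.restrictScalars k)

theorem adjoin_eq_top {p : ℕ} [Fact p.Prime] [CharP K p] {x : K} (hs : Separable.IsSep k x) :
    adjoin (powField k K p) ({x} : Set K) = ⊤ := by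
  let E := powField k K p
  let L := adjoin E ({x} : Set K)
  have : ExpChar K p := .prime (Fact.out)
  have : CharP L p := (algebraMap L K).charP (algebraMap L K).injective p
  have : ExpChar L p := .prime (Fact.out)
  have : IsPurelyInseparable L K := (isPurelyInseparable_iff_pow_mem L p).2 fun z =>
    ⟨1, ⟨⟨z ^ p, by
      exact (IntermediateField.algebraMap_mem L (⟨z ^ p, subset_adjoin _ _ ⟨z, rfl⟩⟩ : E))⟩, by rw [pow_one]; rfl⟩⟩
  have : Algebra.IsSeparable L K := by
    have hsep : Algebra.IsSeparable (adjoin k ({x} : Set K)) K := hs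
    have hle : adjoin k ({x} : Set K) ≤ L.restrictScalars k :=
      adjoin_simple_le_iff.2 (mem_adjoin_simple_self E x)
    let _ : Algebra (adjoin k ({x} : Set K)) L := (IntermediateField.inclusion hle).toRingHom.toAlgebra
    have : IsScalarTower (adjoin k ({x} : Set K)) L K := IsScalarTower.of_algebraMap_eq' rfl
    exact Algebra.isSeparable_tower_top_of_isSeparable (adjoin k ({x} : Set K)) L K
  rw [eq_top_iff]
  intro z _
  obtain ⟨w, rfl⟩ := IsPurelyInseparable.surjective_algebraMap_of_isSeparable L K z
  exact w.2

theorem finrank_powField {p : ℕ} [Fact p.Prime] [CharP K p] (hK : _root_.FunFld.IsFunctionField k K)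
    {x : K} (hs : Separable.IsSep k x) : Module.finrank (powField k K p) K = p := by
  let E := powField k K p
  have hp : p.Prime := Fact.out
  let a : E := ⟨x ^ p, subset_adjoin _ _ ⟨x, rfl⟩⟩
  have hirr : Irreducible (X ^ p - C a) := by
    refine X_pow_sub_C_irreducible_of_prime hp fun b hb => not_mem_powField (p := p) hK hs ?_
    have : ExpChar K p := .prime hp
    have h : (b : K) ^ p = x ^ p := congrArg Subtype.val hb
    rw [← frobenius_inj K p h]
    exact b.2
  have hmin : minpoly E x = X ^ p - C a :=
    (minpoly.eq_of_irreducible_of_monic hirr (by simp [a]) (monic_X_pow_sub_C a hp.ne_zero)).symm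
  have hint : IsIntegral E x := ⟨_, monic_X_pow_sub_C a hp.ne_zero, by simp [a]⟩
  rw [← IntermediateField.finrank_top', ← adjoin_eq_top hs, adjoin.finrank hint, hmin,
    natDegree_X_pow_sub_C]

theorem mem_powField_iff {p : ℕ} [Fact p.Prime] [CharP K p] (hK : _root_.FunFld.IsFunctionField k K)
    (hsep : ∃ x₀ : K, Separable.IsSep k x₀) (x : K) :
    x ∈ powField k K p ↔ KaehlerDifferential.D k K x = 0 := by
  obtain ⟨x₀, hx₀⟩ := hsep
  refine ⟨D_eq_zero_of_mem, fun hx => ?_⟩
  by_contra hxE
  let E := powField k K p
  have : Module.Finite E K := Module.finite_of_finrank_pos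
    (by rw [finrank_powField hK hx₀]; exact (Fact.out : p.Prime).pos)
  have : IsSimpleOrder (IntermediateField E K) :=
    IntermediateField.isSimpleOrder_of_finrank_prime E K (by rw [finrank_powField hK hx₀]; exact Fact.out)
  rcases eq_bot_or_eq_top (adjoin E ({x} : Set K)) with h | h
  · obtain ⟨y, hy⟩ := mem_bot.1 (adjoin_simple_eq_bot_iff.1 h)
    exact hxE (hy ▸ y.2)
  have hz : ∀ z ∈ adjoin E ({x} : Set K), KaehlerDifferential.D k K z = 0 := by
    intro z hz
    induction hz using IntermediateField.adjoin_induction with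
    | mem z hz => rw [Set.mem_singleton_iff.1 hz]; exact hx
    | algebraMap c => exact D_eq_zero_of_mem c.2
    | add a b _ _ ha hb => rw [map_add, ha, hb, add_zero]
    | mul a b _ _ ha hb => rw [Derivation.leibniz, ha, hb, smul_zero, smul_zero, add_zero]
    | inv a _ ha => rw [Derivation.leibniz_inv, ha, smul_zero]
  by_cases ht : Transcendental k x₀
  · exact D_ne_zero_of_isSep ht hx₀ (hz x₀ (h ▸ mem_top))
  · obtain ⟨c, rfl⟩ := hK.2 x₀ (by simpa [Transcendental] using ht)
    exact not_mem_powField (p := p) hK hx₀ (IntermediateField.algebraMap_mem _ c)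

/-- Separable constant extensions of a function field are fields. -/
theorem isField_of_isSeparable (hK : _root_.FunFld.IsFunctionField k K) (k' : Type u) [Field k']
    [Algebra k k'] [FiniteDimensional k k'] [Algebra.IsSeparable k k'] : IsField (k' ⊗[k] K) := by
  obtain ⟨α, hα⟩ := Field.exists_primitive_element k k'
  have hint : IsIntegral k α := Algebra.IsIntegral.isIntegral α
  let f := minpoly k α
  have hirr : Irreducible (f.map (algebraMap k K)) := by
    have hm : (f.map (algebraMap k K)).Monic := (minpoly.monic hint).map _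
    refine ⟨fun hu => ?_, fun {a b} hab => ?_⟩
    · have := natDegree_eq_zero_of_isUnit hu
      rw [natDegree_map] at this
      exact absurd this (minpoly.natDegree_pos hint).ne'
    have ha0 : a.leadingCoeff ≠ 0 := leadingCoeff_ne_zero.2 fun h => hm.ne_zero (by rw [hab, h, zero_mul])
    have hb0 : b.leadingCoeff ≠ 0 := leadingCoeff_ne_zero.2 fun h => hm.ne_zero (by rw [hab, h, mul_zero])
    let a' := a * C a.leadingCoeff⁻¹
    let b' := b * C b.leadingCoeff⁻¹
    have ha' : a'.Monic := monic_mul_leadingCoeff_inv (leadingCoeff_ne_zero.1 ha0)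
    have hlift : ∀ c : K[X], c.Monic → c ∣ f.map (algebraMap k K) → ∃ c₀ : k[X], c₀.map (algebraMap k K) = c := by
      intro c hc hdvd
      exact (mem_lifts c).1 <| (lifts_iff_coeff_lifts c).2 fun i => hK.2 _
        (Polynomial.isIntegral_coeff_of_dvd f c (minpoly.monic hint) hc hdvd i).isAlgebraic
    obtain ⟨a₀, ha₀⟩ := hlift a' ha' ⟨b * C a.leadingCoeff, by
      have : (C a.leadingCoeff⁻¹ : K[X]) * C a.leadingCoeff = 1 := by
        rw [← C_mul, inv_mul_cancel₀ ha0, C_1]
      linear_combination hab - a * b * this⟩
    have hdvd : a₀ ∣ f := (Polynomial.map_dvd_map' (algebraMap k K)).1 (by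
      rw [ha₀]
      exact ⟨b * C a.leadingCoeff, by
        have : (C a.leadingCoeff⁻¹ : K[X]) * C a.leadingCoeff = 1 := by
          rw [← C_mul, inv_mul_cancel₀ ha0, C_1]
        linear_combination hab - a * b * this⟩)
    rcases (minpoly.irreducible hint).isUnit_or_isUnit (hdvd.choose_spec) with hu | hu
    · left
      have : IsUnit a' := ha₀ ▸ hu.map (mapRingHom (algebraMap k K))
      exact (IsUnit.mul_iff.1 this).1
    · right
      have hd : natDegree b = 0 := by
        have h1 := congrArg natDegree hdvd.choose_spec
        have h2 : a₀.natDegree = a.natDegree := by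
          rw [← natDegree_map (algebraMap k K) (p := a₀), ha₀]
          exact natDegree_mul_C (inv_ne_zero ha0)
        have hf0 := minpoly.ne_zero hint
        have hne : a₀ * hdvd.choose ≠ 0 := fun h => hf0 (hdvd.choose_spec.trans h)
        rw [natDegree_mul (left_ne_zero_of_mul hne) (right_ne_zero_of_mul hne),
          natDegree_eq_zero_of_isUnit hu, add_zero] at h1
        have h3 := congrArg natDegree hab
        rw [natDegree_map, natDegree_mul (leadingCoeff_ne_zero.1 ha0) (leadingCoeff_ne_zero.1 hb0)] at h3
        omega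
      exact isUnit_iff_degree_eq_zero.2 (by
        rw [degree_eq_natDegree (leadingCoeff_ne_zero.1 hb0), hd, Nat.cast_zero])
  have := Fact.mk hirr
  have hroot : eval₂ ((algebraMap K (K ⊗[k] k'))) ((1 : K) ⊗ₜ[k] α) (f.map (algebraMap k K)) = 0 := by
    rw [← aeval_def, aeval_map_algebraMap]
    change aeval (Algebra.TensorProduct.includeRight α) f = 0
    rw [aeval_algHom_apply, minpoly.aeval, map_zero]
  let ψ : AdjoinRoot (f.map (algebraMap k K)) →ₐ[K] K ⊗[k] k' :=
    AdjoinRoot.liftAlgHom _ (Algebra.ofId K _) ((1 : K) ⊗ₜ[k] α) hroot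
  have hpb := AdjoinRoot.powerBasis hirr.ne_zero
  have : Module.Finite K (AdjoinRoot (f.map (algebraMap k K))) :=
    (AdjoinRoot.powerBasis hirr.ne_zero).finite
  have hrank : Module.finrank K (AdjoinRoot (f.map (algebraMap k K))) = Module.finrank K (K ⊗[k] k') := by
    rw [(AdjoinRoot.powerBasis hirr.ne_zero).finrank, AdjoinRoot.powerBasis_dim, natDegree_map,
      Module.finrank_baseChange, ← IntermediateField.finrank_top', ← hα,
      IntermediateField.adjoin.finrank hint]
  have : Nontrivial (K ⊗[k] k') := (Algebra.TensorProduct.includeLeft_injective (R := k) (S := K)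
    (A := K) (B := k') (algebraMap k k').injective).nontrivial
  have hinj : Function.Injective ψ.toLinearMap := ψ.toRingHom.injective
  have hsurj : Function.Surjective ψ.toLinearMap :=
    (LinearMap.injective_iff_surjective_of_finrank_eq_finrank hrank).1 hinj
  let e := (RingEquiv.ofBijective ψ ⟨hinj, hsurj⟩).trans
    (Algebra.TensorProduct.comm k K k').toRingEquiv
  exact MulEquiv.isField (Field.toIsField (AdjoinRoot (f.map (algebraMap k K)))) e.symm.toMulEquiv

/-- Over a perfect field a function field is geometric. -/
theorem isGeometric [PerfectField k] (hK : _root_.FunFld.IsFunctionField k K) :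
    _root_.FunFld.IsGeometric k K := fun k' _ _ _ => isField_of_isSeparable hK k'

end Groth.Agent.H81.FunFldSep
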