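import Groth.Agent.Lib.TensorMod.Dual
import Groth.Agent.Lib.TensorMod.Gen

/-!
Gluing invertible modules from a cocycle of units.
-/

universe u

open CategoryTheory CategoryTheory.Limits AlgebraicGeometry Opposite TopologicalSpace

namespace Groth.Agent.H81.Glue

open Groth.Agent.Lib.TensorMod.Dual Groth.Agent.Lib.TensorMod.Gen

variable {X : Scheme.{u}} {ι : Type u} (U : ι → X.Opens) (η : ∀ i j : ι, Γ(X, U i ⊓ U j))

/-- Sections of the glued module. -/
def glueSub (V : X.Opens) : AddSubgroup (∀ i, Γ(X, V ⊓ U i)) where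
  carrier := {f | ∀ (i j : ι) (W : X.Opens) (hi : W ≤ V ⊓ U i) (hj : W ≤ V ⊓ U j),
    rf hj (f j) = rf hi (f i) *
      rf (le_inf (hi.trans inf_le_right) (hj.trans inf_le_right)) (η i j)}
  zero_mem' i j W hi hj := by simp [rf]
  add_mem' {f g} hf hg i j W hi hj := by
    simp only [Pi.add_apply, rf, map_add, add_mul]
    exact congrArg₂ (· + ·) (hf i j W hi hj) (hg i j W hi hj)
  neg_mem' {f} hf i j W hi hj := by
    simp only [Pi.neg_apply, rf, map_neg, neg_mul]
    exact congrArg (- ·) (hf i j W hi hj)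

/-- Sections of the glued module. -/
abbrev GlueSec (V : X.Opens) : Type u := glueSub U η V

noncomputable instance smulGlueSec (V : X.Opens) : SMul Γ(X, V) (GlueSec U η V) where
  smul r f := ⟨fun i => rf inf_le_left r * f.1 i, fun i j W hi hj => by
    have := f.2 i j W hi hj
    simp only [rf, map_mul] at this ⊢
    rw [this, mul_assoc]
    refine congrArg (· * _) ?_
    exact (rf_rf inf_le_left hj r).trans (rf_rf inf_le_left hi r).symm⟩

lemma smul_val {V : X.Opens} (r : Γ(X, V)) (f : GlueSec U η V) (i : ι) :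
    (r • f : GlueSec U η V).1 i = rf inf_le_left r * f.1 i := rfl

noncomputable instance moduleGlueSec (V : X.Opens) : Module Γ(X, V) (GlueSec U η V) where
  one_smul f := Subtype.ext (funext fun i => by simp [smul_val, rf])
  mul_smul r s f := Subtype.ext (funext fun i => by simp [smul_val, rf, mul_assoc])
  smul_zero r := Subtype.ext (funext fun i => by simp [smul_val])
  smul_add r f g := Subtype.ext (funext fun i => by simp [smul_val, mul_add])
  add_smul r s f := Subtype.ext (funext fun i => by simp [smul_val, rf, add_mul])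
  zero_smul f := Subtype.ext (funext fun i => by simp [smul_val, rf])

/-- Restriction. -/
noncomputable def glueRes {V V' : X.Opens} (h : V' ≤ V) : GlueSec U η V →+ GlueSec U η V' where
  toFun f := ⟨fun i => rf (inf_le_inf_right _ h) (f.1 i), fun i j W hi hj => by
    rw [rf_rf, rf_rf]
    exact f.2 i j W _ _⟩
  map_zero' := Subtype.ext (funext fun i => map_zero (X.presheaf.map _).hom)
  map_add' _ _ := Subtype.ext (funext fun i => map_add (X.presheaf.map _).hom _ _)

lemma glueRes_val {V V' : X.Opens} (h : V' ≤ V) (f : GlueSec U η V) (i : ι) :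
    (glueRes U η h f).1 i = rf (inf_le_inf_right _ h) (f.1 i) := rfl

/-- The underlying presheaf of abelian groups. -/
noncomputable def glueAb : (TopologicalSpace.Opens X)ᵒᵖ ⥤ Ab.{u} where
  obj V := AddCommGrpCat.of (GlueSec U η V.unop)
  map i := AddCommGrpCat.ofHom (glueRes U η i.unop.le)
  map_id V := AddCommGrpCat.hom_ext (AddMonoidHom.ext fun f : GlueSec U η V.unop =>
    Subtype.ext (funext fun i => rf_self _ (f.1 i)))
  map_comp {V _ _} a b := AddCommGrpCat.hom_ext (AddMonoidHom.ext fun f : GlueSec U η V.unop =>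
    Subtype.ext (funext fun i => (rf_rf _ _ (f.1 i)).symm))

noncomputable instance moduleGlueAb (V : (TopologicalSpace.Opens X)ᵒᵖ) :
    Module (X.ringCatSheaf.obj.obj V) ((glueAb U η).obj V) :=
  inferInstanceAs (Module Γ(X, V.unop) (GlueSec U η V.unop))

lemma glueRes_smul {V V' : X.Opens} (h : V' ≤ V) (r : Γ(X, V)) (f : GlueSec U η V) :
    glueRes U η h (r • f) = rf h r • glueRes U η h f :=
  Subtype.ext (funext fun i => by
    rw [glueRes_val, smul_val, smul_val, glueRes_val]
    simp only [rf, map_mul]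
    exact congrArg (· * _) ((rf_rf _ _ r).trans (rf_rf _ _ r).symm))

/-- The glued presheaf of modules. -/
noncomputable def gluePre : X.PresheafOfModules :=
  PresheafOfModules.ofPresheaf (glueAb U η) fun {_V _V'} a r f => glueRes_smul U η a.unop.le r f

lemma exists_glue {κ : Type u} (V : κ → X.Opens) (sf : ∀ k, GlueSec U η (V k))
    (hsf : ∀ (k l : κ) (i : ι) (W : X.Opens) (hk : W ≤ V k ⊓ U i) (hl : W ≤ V l ⊓ U i),
      rf hk ((sf k).1 i) = rf hl ((sf l).1 i)) :
    ∃! s : GlueSec U η (iSup V), ∀ k, glueRes U η (le_iSup V k) s = sf k := by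
  have h : ∀ i, ∃! a : Γ(X, iSup V ⊓ U i), ∀ k,
      rf (inf_le_inf_right (U i) (le_iSup V k)) a = (sf k).1 i := fun i =>
    X.sheaf.existsUnique_gluing' (fun k => V k ⊓ U i) (iSup V ⊓ U i)
      (fun k => homOfLE (inf_le_inf_right (U i) (le_iSup V k))) (by rw [iSup_inf_eq]) _
      fun k l => hsf k l i _ inf_le_left inf_le_right
  choose a ha hua using h
  refine ⟨⟨a, fun i j W hi hj => ?_⟩, fun k => Subtype.ext (funext fun i => ha i k), ?_⟩
  · refine X.sheaf.eq_of_locally_eq' (fun k => W ⊓ V k) W (fun k => homOfLE inf_le_left) ?_ _ _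
      fun k => ?_
    · rw [← inf_iSup_eq]; exact le_inf le_rfl (hi.trans inf_le_left)
    have hki : W ⊓ V k ≤ V k ⊓ U i := le_inf inf_le_right (inf_le_left.trans (hi.trans inf_le_right))
    have hkj : W ⊓ V k ≤ V k ⊓ U j := le_inf inf_le_right (inf_le_left.trans (hj.trans inf_le_right))
    change rf inf_le_left (rf hj (a j)) = rf inf_le_left (rf hi (a i) * _)
    simp only [rf, map_mul]
    refine ((rf_rf hj inf_le_left _).trans ?_).trans (congrArg₂ (· * ·)
      (rf_rf hi (inf_le_left : W ⊓ V k ≤ W) _).symm (rf_rf _ inf_le_left _).symm)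
    rw [← rf_rf (inf_le_inf_right (U j) (le_iSup V k)) hkj, ha,
      ← rf_rf (inf_le_inf_right (U i) (le_iSup V k)) hki, ha]
    exact (sf k).2 i j _ hki hkj
  · intro t ht
    exact Subtype.ext (funext fun i => hua i _ fun k =>
      congrArg (fun s : GlueSec U η (V k) => s.1 i) (ht k))

lemma isSheaf_glueAb : TopCat.Presheaf.IsSheaf (glueAb U η : TopCat.Presheaf Ab.{u} X) := by
  rw [TopCat.Presheaf.isSheaf_iff_isSheafUniqueGluing]
  intro κ V sf hsf
  refine exists_glue U η V sf fun k l i W hk hl => ?_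
  have hW : W ≤ (V k ⊓ V l) ⊓ U i :=
    le_inf (le_inf (hk.trans inf_le_left) (hl.trans inf_le_left)) (hk.trans inf_le_right)
  have h := congrArg (fun s : GlueSec U η (V k ⊓ V l) => rf hW (s.1 i)) (hsf k l)
  change rf hW (rf _ _) = rf hW (rf _ _) at h
  rwa [rf_rf, rf_rf] at h

/-- The glued module. -/
noncomputable def glue : X.Modules := ⟨gluePre U η, isSheaf_glueAb U η⟩

variable (hη : ∀ (i j k : ι) (W : X.Opens) (hij : W ≤ U i ⊓ U j) (hjk : W ≤ U j ⊓ U k)
    (hik : W ≤ U i ⊓ U k), rf hik (η i k) = rf hij (η i j) * rf hjk (η j k))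

/-- The tautological section. -/
noncomputable def sec (i : ι) : GlueSec U η (U i) :=
  ⟨fun j => η i j, fun j k W hj hk => hη i j k W hj (le_inf (hj.trans inf_le_right)
    (hk.trans inf_le_right)) hk⟩

include hη in
lemma isGen_sec (hu : ∀ i j, IsUnit (η i j)) (i : ι) :
    IsGen (glue U η) (U i) (sec U η hη i) := by
  intro V hV
  have hself : ∀ (W : X.Opens) (h : W ≤ U i ⊓ U i), rf h (η i i) = 1 := by
    intro W h
    have := hη i i i W h h h
    exact ((IsUnit.mul_eq_left ((hu i i).map (X.presheaf.map (homOfLE h).op).hom)).1 this.symm)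
  constructor
  · intro a b hab
    have h := congrArg (fun f : GlueSec U η V => rf (le_inf le_rfl hV : V ≤ V ⊓ U i) (f.1 i)) hab
    change rf _ (rf inf_le_left a * rf _ (η i i)) = rf _ (rf inf_le_left b * rf _ (η i i)) at h
    rw [hself] at h
    simpa only [mul_one, rf_rf, rf_self] using h
  · intro f
    let f' : GlueSec U η V := f
    refine ⟨rf (le_inf le_rfl hV) (f'.1 i), Subtype.ext (funext fun j => ?_)⟩
    change rf inf_le_left (rf (le_inf le_rfl hV) (f'.1 i)) * rf _ (η i j) = f'.1 j
    rw [rf_rf]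
    refine (f'.2 i j (V ⊓ U j) (le_inf inf_le_left (inf_le_left.trans hV)) le_rfl).symm.trans ?_
    exact rf_self _ _

end Groth.Agent.H81.Glue
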