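import Groth.Agent.H81.RatPlace
import Groth.Agent.H81.Quadratic
import Groth.Agent.Lib.FunFld.Galois
import Groth.Agent.Lib.FunFld.Riemann
import Mathlib.FieldTheory.Minpoly.IsConjRoot
import Mathlib.Algebra.QuadraticAlgebra.Basic
/-!
# The genus of a hyperelliptic function field
-/

set_option autoImplicit false

namespace Groth.Agent.H81.Hyperelliptic

open Polynomial Groth.Agent.Lib.FunFld

universe u v
variable {k : Type u} [Field k]

local notation "ι" => algebraMap k[X] (RatFunc k)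

/-- A rational function regular at all finite places is a polynomial. -/
theorem exists_poly (a : RatFunc k)
    (ha : ∀ P : _root_.FunFld.Place k (RatFunc k), 0 ≤ P.ord (RatFunc.X : RatFunc k) → 0 ≤ P.ord a) :
    ∃ g : k[X], ι g = a := by
  rcases eq_or_ne a 0 with rfl | ha0
  · exact ⟨0, map_zero _⟩
  by_cases hu : IsUnit a.denom
  · obtain ⟨c, hc, hcd⟩ := Polynomial.isUnit_iff.1 hu
    refine ⟨a.num * C c⁻¹, ?_⟩
    conv_rhs => rw [← a.num_div_denom, ← hcd]
    have hc0 : c ≠ 0 := hc.ne_zero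
    rw [eq_div_iff (RatPlace.ι_ne_zero (C_ne_zero.2 hc0)), ← map_mul, mul_assoc, ← C_mul,
      inv_mul_cancel₀ hc0, C_1, mul_one]
  exfalso
  obtain ⟨p, hp, hpd⟩ := WfDvdMonoid.exists_irreducible_factor hu a.denom_ne_zero
  have hpt : Transcendental k (ι p) := by
    refine (transcendental_algebraMap_iff (IsFractionRing.injective k[X] (RatFunc k))).2 ?_
    refine Polynomial.transcendental p hp.natDegree_pos.ne' ?_
    exact mem_nonZeroDivisors_of_ne_zero (leadingCoeff_ne_zero.2 hp.ne_zero)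
  obtain ⟨P, hP⟩ := Gen.Existence.exists_zero (RatPlace.isFunctionField (k := k)).1 hpt
  have hlt : P.1 (ι p) < 1 := (Place.val_lt_one_iff P).2 (Or.inr hP)
  have hX := RatPlace.X_nonneg_of_irreducible P hp hlt
  have hcop : IsCoprime p a.num := (a.isCoprime_num_denom.symm).of_isCoprime_of_dvd_left hpd
  have h0 := RatPlace.ord_eq_zero_of_isCoprime P hp hlt hcop
  have h1 := ha P hX
  rw [← a.num_div_denom, Place.ord_div P (RatPlace.ι_ne_zero (RatFunc.num_ne_zero ha0))
    (RatPlace.ι_ne_zero a.denom_ne_zero), h0] at h1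
  obtain ⟨s, hs⟩ := hpd
  have hs0 : s ≠ 0 := fun h => a.denom_ne_zero (by rw [hs, h, mul_zero])
  rw [hs, map_mul, Place.ord_mul P (RatPlace.ι_ne_zero hp.ne_zero) (RatPlace.ι_ne_zero hs0)] at h1
  have := RatPlace.ord_nonneg_of_X P hX s
  omega

variable {K : Type v} [Field K] [Algebra k K] [Algebra (RatFunc k) K] [IsScalarTower k (RatFunc k) K]

local notation "φ" => algebraMap (RatFunc k) K

theorem genus_eq (hK : _root_.FunFld.IsFunctionField k K) (h2 : ringChar k ≠ 2)
    (hdeg : Module.finrank (RatFunc k) K = 2) (y : K) (f : k[X]) (hf : Squarefree f) (hd : 1 ≤ f.natDegree)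
    (heq : y ^ 2 = φ (ι f)) : _root_.FunFld.genus k K = (f.natDegree - 1) / 2 := by
  classical
  have : FiniteDimensional (RatFunc k) K := Module.finite_of_finrank_eq_succ hdeg
  have hK₀ := RatPlace.isFunctionField (k := k)
  have hf0 : f ≠ 0 := hf.ne_zero
  have h20 : (2 : K) ≠ 0 := by
    rw [← map_ofNat (algebraMap k K) 2]
    exact (_root_.map_ne_zero _).2 (Ring.two_ne_zero h2)
  have h20' : (2 : RatFunc k) ≠ 0 := by
    rw [← map_ofNat (algebraMap k (RatFunc k)) 2]
    exact (_root_.map_ne_zero _).2 (Ring.two_ne_zero h2)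
  have hy0 : y ≠ 0 := fun h => by
    rw [h, zero_pow two_ne_zero] at heq
    exact RatPlace.ι_ne_zero hf0 ((map_eq_zero _).1 heq.symm)
  have hbase : ∀ (b : RatFunc k) (G : k[X]), b ^ 2 * ι f = ι G → ∃ r : k[X], ι r = b ∧ G = r ^ 2 * f := by
    intro b G h
    rcases eq_or_ne b 0 with rfl | hb
    · refine ⟨0, map_zero _, ?_⟩
      rw [zero_pow two_ne_zero, zero_mul, eq_comm, map_eq_zero_iff _ (IsFractionRing.injective _ _)] at h
      rw [h]; ring
    have hs := RatPlace.ι_ne_zero b.denom_ne_zero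
    rw [← b.num_div_denom, div_pow, div_mul_eq_mul_div, div_eq_iff (pow_ne_zero _ hs), ← map_pow, ← map_pow,
      ← map_mul, ← map_mul] at h
    have h' := IsFractionRing.injective k[X] (RatFunc k) h
    have hdvd : b.denom ^ 2 ∣ f :=
      (b.isCoprime_num_denom.symm.pow (m := 2) (n := 2)).dvd_of_dvd_mul_left ⟨G, by rw [h']; ring⟩
    have hu : IsUnit b.denom := hf _ (by rwa [← sq])
    obtain ⟨c, hc, hcd⟩ := Polynomial.isUnit_iff.1 hu
    refine ⟨b.num * C c⁻¹, ?_, ?_⟩
    · conv_rhs => rw [← b.num_div_denom, ← hcd]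
      rw [eq_div_iff (RatPlace.ι_ne_zero (C_ne_zero.2 hc.ne_zero)), ← map_mul, mul_assoc, ← C_mul,
        inv_mul_cancel₀ hc.ne_zero, C_1, mul_one]
    · have e : (C c⁻¹ : k[X]) * b.denom = 1 := by rw [← hcd, ← C_mul, inv_mul_cancel₀ hc.ne_zero, C_1]
      linear_combination -(C c⁻¹ ^ 2) * h' - G * (C c⁻¹ * b.denom + 1) * e
  have hyr : y ∉ Set.range φ := by
    rintro ⟨c, rfl⟩
    have hc : c ^ 2 = ι f := (algebraMap (RatFunc k) K).injective (by rw [map_pow, heq])
    have hc0 : c ≠ 0 := fun h => hy0 (by rw [h, map_zero])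
    obtain ⟨r, hr, h1⟩ := hbase c⁻¹ 1 (by rw [← hc, map_one, inv_pow, inv_mul_cancel₀ (pow_ne_zero _ hc0)])
    have hu : IsUnit f := IsUnit.of_mul_eq_one (r ^ 2) (by rw [h1]; ring)
    rw [natDegree_eq_zero_of_isUnit hu] at hd
    omega
  -- the conjugation
  have hmin : ∀ z : K, z ∉ Set.range φ → z ^ 2 = φ (ι f) → minpoly (RatFunc k) z = X ^ 2 - C (ι f) := by
    intro z hz hz2
    have hint : IsIntegral (RatFunc k) z := Algebra.IsIntegral.isIntegral z
    refine (Polynomial.eq_of_monic_of_dvd_of_natDegree_le (minpoly.monic hint) (monic_X_pow_sub_C _ two_ne_zero)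
      (minpoly.dvd _ _ (by simp [hz2])) ?_).symm
    rw [natDegree_X_pow_sub_C]
    exact (minpoly.two_le_natDegree_iff hint).2 hz
  have hnr : -y ∉ Set.range φ := fun ⟨c, hc⟩ => hyr ⟨-c, by rw [map_neg, hc, neg_neg]⟩
  have : Algebra.IsQuadraticExtension (RatFunc k) K := { finrank_eq_two' := hdeg }
  obtain ⟨σ, hσ⟩ : ∃ σ : K ≃ₐ[RatFunc k] K, σ y = -y := (isConjRoot_iff_exists_algEquiv).1 (by
    show minpoly (RatFunc k) (-y) = minpoly (RatFunc k) y
    rw [hmin _ hnr (by rw [neg_sq, heq]), hmin _ hyr heq])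
  have hrep : ∀ z : K, ∃ a b : RatFunc k, z = φ a + φ b * y := by
    intro z
    have hli : LinearIndependent (RatFunc k) ![(1 : K), y] := by
      rw [LinearIndependent.pair_iff]
      intro s t h
      rcases eq_or_ne t 0 with rfl | ht
      · rw [zero_smul, add_zero, Algebra.smul_def, mul_one, map_eq_zero] at h
        exact ⟨h, rfl⟩
      · exfalso
        refine hyr ⟨-s / t, ?_⟩
        rw [Algebra.smul_def, Algebra.smul_def, mul_one] at h
        rw [map_div₀, map_neg, div_eq_iff ((_root_.map_ne_zero _).2 ht)]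
        linear_combination -h
    have htop := hli.span_eq_top_of_card_eq_finrank' (by simp [hdeg])
    obtain ⟨c, hc⟩ := (Submodule.mem_span_range_iff_exists_fun (RatFunc k)).1
      (htop ▸ Submodule.mem_top : z ∈ _)
    exact ⟨c 0, c 1, by rw [← hc, Fin.sum_univ_two]; simp [Algebra.smul_def]⟩
  -- the divisor
  let X' : K := φ RatFunc.X
  have hX' : Transcendental k X' := Ext.transcendental_map RatFunc.transcendental_X
  have hdegD : (Degree.poleDiv (k := k) X').deg = 2 := by
    rw [Degree.deg_poleDiv hK hX', Ext.finrank_adjoin_map, hdeg, RatPlace.adjoin_X_eq_top,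
      IntermediateField.finrank_top]
    rfl
  obtain ⟨N, hN⟩ := Riemann.exists_bound_delta_eq hK
  let c := (f.natDegree + 1) / 2
  let n := max N.toNat c
  have hnc : c ≤ n := le_max_right _ _
  let D : _root_.FunFld.Divisor k K := (n : ℤ) • Degree.poleDiv (k := k) X'
  have hD : ∀ Q, D Q = (n : ℤ) * max (-Q.ord X') 0 := fun Q => by
    simp only [D, Finsupp.smul_apply, Degree.poleDiv_apply hK, smul_eq_mul]
  have hDdeg : D.deg = 2 * (n : ℤ) := by rw [Degree.deg_smul, hdegD]; ring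
  -- membership
  have hmemL : ∀ z : K, z ∈ _root_.FunFld.L D ↔ z = 0 ∨ ∀ Q : _root_.FunFld.Place k K, -D Q ≤ Q.ord z := by
    intro z
    rw [Degree.mem_L_iff_ord]
  have hσL : ∀ z ∈ _root_.FunFld.L D, σ z ∈ _root_.FunFld.L D := by
    intro z hz
    rw [hmemL] at hz ⊢
    rcases hz with rfl | hz
    · exact Or.inl (map_zero σ)
    refine Or.inr fun Q => ?_
    have h1 := hz (Galois.comapAut Q σ)
    rw [hD, Place.ord_def (Galois.comapAut Q σ), Galois.comapAut_apply, Place.ord_def (Galois.comapAut Q σ),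
      Galois.comapAut_apply, ← Place.ord_def, ← Place.ord_def, show σ X' = X' from σ.commutes _] at h1
    rw [hD]; exact h1
  have hbound : ∀ G : k[X], G ≠ 0 → ∀ (Q : _root_.FunFld.Place k K) (P : _root_.FunFld.Place k (RatFunc k)) (e : ℕ),
      _root_.FunFld.IsOverWith Q P e →
        (0 ≤ P.ord (RatFunc.X : RatFunc k) → 0 ≤ Q.ord (φ (ι G)) ∧ D Q = 0) ∧
        (P.ord (RatFunc.X : RatFunc k) < 0 → Q.ord (φ (ι G)) = -((e : ℤ) * G.natDegree) ∧ D Q = (n : ℤ) * e) := by
    intro G hG Q P e he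
    have h1 := Ext.ord_map he (ι G)
    have h2 : Q.ord X' = e * P.ord (RatFunc.X : RatFunc k) := Ext.ord_map he _
    refine ⟨fun hX => ⟨?_, ?_⟩, fun hX => ⟨?_, ?_⟩⟩
    · rw [h1]; exact mul_nonneg (Int.natCast_nonneg _) (RatPlace.ord_nonneg_of_X P hX G)
    · rw [hD, h2, max_eq_right (by nlinarith), mul_zero]
    · rw [h1, RatPlace.ord_poly_inf P hX hG]; ring
    · rw [hD, h2, RatPlace.ord_X_eq_neg_one P hX, max_eq_left (by omega)]; ring
  have hforward : ∀ a b : k[X], a.natDegree ≤ n → b.natDegree ≤ n - c → φ (ι a) + φ (ι b) * y ∈ _root_.FunFld.L D := by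
    intro a b ha hb
    refine Submodule.add_mem _ ?_ ?_
    · rcases eq_or_ne a 0 with rfl | ha0
      · simp
      rw [hmemL]
      refine Or.inr fun Q => ?_
      obtain ⟨P, e, he0, he⟩ := Ext.exists_place_below hK₀ Q
      rcases le_or_gt 0 (P.ord (RatFunc.X : RatFunc k)) with hX | hX
      · obtain ⟨h1, h2⟩ := (hbound a ha0 Q P e he).1 hX; omega
      · obtain ⟨h1, h2⟩ := (hbound a ha0 Q P e he).2 hX
        rw [h1, h2]
        have : (a.natDegree : ℤ) ≤ n := by exact_mod_cast ha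
        nlinarith
    · rcases eq_or_ne b 0 with rfl | hb0
      · simp
      rw [hmemL]
      refine Or.inr fun Q => ?_
      obtain ⟨P, e, he0, he⟩ := Ext.exists_place_below hK₀ Q
      have hG0 : b ^ 2 * f ≠ 0 := mul_ne_zero (pow_ne_zero _ hb0) hf0
      have hord : Q.ord (φ (ι (b ^ 2 * f))) = 2 * Q.ord (φ (ι b) * y) := by
        rw [map_mul, map_mul, map_pow, map_pow, ← heq, ← mul_pow, Place.ord_pow]; norm_num
      rcases le_or_gt 0 (P.ord (RatFunc.X : RatFunc k)) with hX | hX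
      · obtain ⟨h1, h2⟩ := (hbound _ hG0 Q P e he).1 hX; omega
      · obtain ⟨h1, h2⟩ := (hbound _ hG0 Q P e he).2 hX
        rw [hord, natDegree_mul (pow_ne_zero _ hb0) hf0, natDegree_pow] at h1
        have h3 : ((2 * b.natDegree + f.natDegree : ℕ) : ℤ) ≤ 2 * (n : ℤ) := by
          have : 2 * b.natDegree + f.natDegree ≤ 2 * n := by omega
          exact_mod_cast this
        rw [h2]
        nlinarith
  have hpoly : ∀ (a : RatFunc k) (m : ℕ), φ a ≠ 0 →
      (∀ Q : _root_.FunFld.Place k K, -((m : ℤ) * D Q) ≤ Q.ord (φ a)) → ∃ G : k[X], ι G = a ∧ G.natDegree ≤ m * n := by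
    intro a m ha h
    obtain ⟨G, hG⟩ := exists_poly a fun P hX => by
      obtain ⟨Q, e, he⟩ := Ext.exists_over (K' := K) hK₀ P
      have h1 := h Q
      rw [((hbound 1 one_ne_zero Q P e he).1 hX).2, mul_zero, neg_zero, Ext.ord_map he] at h1
      exact nonneg_of_mul_nonneg_right h1 (by exact_mod_cast Ext.pos_of_isOverWith he)
    refine ⟨G, hG, ?_⟩
    have hG0 : G ≠ 0 := fun h0 => ha (by rw [← hG, h0, map_zero, map_zero])
    obtain ⟨Pinf, hPinf⟩ := Gen.Existence.exists_pole hK₀.1 (RatFunc.transcendental_X (K := k))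
    obtain ⟨Q, e, he⟩ := Ext.exists_over (K' := K) hK₀ Pinf
    obtain ⟨h1, h2⟩ := (hbound G hG0 Q Pinf e he).2 hPinf
    have h3 := h Q
    rw [← hG, h1, h2] at h3
    have he0 : (0 : ℤ) < e := by exact_mod_cast Ext.pos_of_isOverWith he
    have : (G.natDegree : ℤ) ≤ (m : ℤ) * n := by nlinarith
    exact_mod_cast this
  let W : Submodule k (k[X] × k[X]) := (degreeLT k (n + 1)).prod (degreeLT k (n - c + 1))
  let Ψ : k[X] × k[X] →ₗ[k] K :=
    { toFun := fun p => φ (ι p.1) + φ (ι p.2) * y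
      map_add' := fun p q => by simp only [Prod.fst_add, Prod.snd_add, map_add]; ring
      map_smul' := fun r p => by
        have e : φ (ι (C r)) = algebraMap k K r := by
          rw [← Polynomial.algebraMap_eq, ← IsScalarTower.algebraMap_apply k k[X] (RatFunc k),
            ← IsScalarTower.algebraMap_apply k (RatFunc k) K]
        show φ (ι (r • p.1)) + φ (ι (r • p.2)) * y = r • (φ (ι p.1) + φ (ι p.2) * y)
        rw [Polynomial.smul_eq_C_mul, Polynomial.smul_eq_C_mul, map_mul, map_mul, map_mul, map_mul, e,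
          Algebra.smul_def]
        ring }
  have hinj : Function.Injective Ψ := by
    refine (injective_iff_map_eq_zero Ψ).2 fun p hp => ?_
    have hp' : φ (ι p.1) + φ (ι p.2) * y = 0 := hp
    have hp2 : ι p.2 = 0 := by
      by_contra h
      refine hyr ⟨-ι p.1 / ι p.2, ?_⟩
      rw [map_div₀, map_neg, div_eq_iff ((_root_.map_ne_zero _).2 h)]
      linear_combination -hp'
    have hp1 : φ (ι p.1) = 0 := by
      have h : φ (ι p.1) + φ (ι p.2) * y = 0 := hp
      rwa [hp2, map_zero, zero_mul, add_zero] at h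
    exact Prod.ext ((map_eq_zero_iff _ (IsFractionRing.injective _ _)).1 ((map_eq_zero _).1 hp1))
      ((map_eq_zero_iff _ (IsFractionRing.injective _ _)).1 hp2)
  have hlt : ∀ (g : k[X]) (m : ℕ), g ∈ degreeLT k (m + 1) ↔ g.natDegree ≤ m := fun g m => by
    rw [mem_degreeLT]
    rcases eq_or_ne g 0 with rfl | hg
    · simp
    · rw [degree_eq_natDegree hg, Nat.cast_lt, Nat.lt_succ_iff]
  have himage : W.map Ψ = _root_.FunFld.L D := by
    refine le_antisymm ?_ fun z hz => ?_
    · rintro _ ⟨p, ⟨hp1, hp2⟩, rfl⟩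
      exact hforward _ _ ((hlt _ _).1 hp1) ((hlt _ _).1 hp2)
    obtain ⟨a, b, rfl⟩ := hrep z
    have hσz : σ (φ a + φ b * y) = φ a - φ b * y := by
      rw [map_add, map_mul, σ.commutes, σ.commutes, hσ]; ring
    have hadd := (_root_.FunFld.L D).smul_mem (2⁻¹ : k) ((_root_.FunFld.L D).add_mem hz (hσL _ hz))
    have hsub := (_root_.FunFld.L D).smul_mem (2⁻¹ : k) ((_root_.FunFld.L D).sub_mem hz (hσL _ hz))
    rw [hσz, Algebra.smul_def, map_inv₀, map_ofNat] at hadd hsub
    rw [show (2 : K)⁻¹ * ((φ a + φ b * y) + (φ a - φ b * y)) = φ a by field_simp; ring] at hadd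
    rw [show (2 : K)⁻¹ * ((φ a + φ b * y) - (φ a - φ b * y)) = φ b * y by field_simp; ring] at hsub
    rw [hmemL] at hadd hsub
    obtain ⟨A, rfl, hA⟩ : ∃ A : k[X], ι A = a ∧ A.natDegree ≤ n := by
      rcases eq_or_ne a 0 with rfl | ha
      · exact ⟨0, map_zero _, by simp⟩
      have ha' : φ a ≠ 0 := (_root_.map_ne_zero _).2 ha
      obtain ⟨A, h1, h2⟩ := hpoly a 1 ha' fun Q => by
        have := hadd.resolve_left ha' Q; simpa using this
      exact ⟨A, h1, by omega⟩
    obtain ⟨B, rfl, hB⟩ : ∃ B : k[X], ι B = b ∧ B.natDegree ≤ n - c := by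
      rcases eq_or_ne b 0 with rfl | hb
      · exact ⟨0, map_zero _, by simp⟩
      have hb' : φ b * y ≠ 0 := mul_ne_zero ((_root_.map_ne_zero _).2 hb) hy0
      have e1 : φ (b ^ 2 * ι f) = (φ b * y) ^ 2 := by rw [map_mul, map_pow, ← heq, mul_pow]
      obtain ⟨G, h1, h2⟩ := hpoly (b ^ 2 * ι f) 2 (by rw [e1]; exact pow_ne_zero _ hb') fun Q => by
        rw [e1, Place.ord_pow]
        have := hsub.resolve_left hb' Q
        push_cast
        omega
      obtain ⟨r, hr, hG⟩ := hbase b G h1.symm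
      refine ⟨r, hr, ?_⟩
      have hr0 : r ≠ 0 := fun h => hb (by rw [← hr, h, map_zero])
      rw [hG, natDegree_mul (pow_ne_zero _ hr0) hf0, natDegree_pow] at h2
      omega
    exact ⟨(A, B), ⟨(hlt _ _).2 hA, (hlt _ _).2 hB⟩, rfl⟩
  have hell : _root_.FunFld.ell D = (n + 1) + (n - c + 1) := by
    show Module.finrank k (_root_.FunFld.L D) = _
    rw [← himage, ← (Submodule.equivMapOfInjective Ψ hinj W).finrank_eq]
    have hfin' : ∀ m, Module.finrank k (degreeLT k m) = m := fun m => by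
      rw [(degreeLTEquiv k m).finrank_eq, Module.finrank_pi, Fintype.card_fin]
    have : ∀ m, Module.Finite k (degreeLT k m) := fun m => Module.Finite.equiv (degreeLTEquiv k m).symm
    let e : W ≃ₗ[k] degreeLT k (n + 1) × degreeLT k (n - c + 1) :=
      { toFun := fun p => (⟨p.1.1, p.2.1⟩, ⟨p.1.2, p.2.2⟩)
        invFun := fun p => ⟨(p.1.1, p.2.1), p.1.2, p.2.2⟩
        map_add' := fun _ _ => rfl
        map_smul' := fun _ _ => rfl
        left_inv := fun _ => rfl
        right_inv := fun _ => rfl }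
    rw [e.finrank_eq, Module.finrank_prod, hfin', hfin']
  have hg := hN D (by rw [hDdeg]; omega)
  simp only [Riemann.delta, hDdeg, hell] at hg
  omega

end Groth.Agent.H81.Hyperelliptic
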