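import Mathlib.AlgebraicGeometry.Over
import Mathlib.CategoryTheory.Monoidal.Cartesian.Grp
import Mathlib.CategoryTheory.Monoidal.Cartesian.Over
import Mathlib.Algebra.Polynomial.AlgebraMap
import Mathlib.Algebra.Polynomial.Degree.Lemmas
import Groth.Agent.Lib.RedPts.Points
/-!
# Group laws on the affine line

A group scheme over a field whose points are naturally the global functions has the law
`a + b - c`, where `c` is the coordinate of the unit.
-/

set_option autoImplicit false
universe u

open CategoryTheory MonoidalCategory CartesianMonoidalCategory MonObj AlgebraicGeometry Polynomial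
open Groth.Agent.Lib.RedPts

namespace Groth.Agent.H81.LineLaw

/-- The pure algebra: `P ∈ k[y][x]` defining an associative law with unit `c` and an inverse is
`x + y - c`. -/
theorem law_eq {k : Type u} [Field k] (P : k[X][X]) (c : k) (I : k[X])
    (assoc : ∀ (D : Type u) [CommRing D] (i : k →+* D) (a b d : D),
      P.eval₂ (eval₂RingHom i d) (P.eval₂ (eval₂RingHom i b) a) =
        P.eval₂ (eval₂RingHom i (P.eval₂ (eval₂RingHom i d) b)) a)
    (right : P.eval₂ (eval₂RingHom C (C c)) X = (X : k[X]))
    (left : P.eval₂ (eval₂RingHom C (X : k[X])) (C c) = (X : k[X]))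
    (inv : P.eval₂ (eval₂RingHom C I) (X : k[X]) = C c) :
    P = X + C (X - C c) := by
  -- the law is linear in `x`
  have hn : P.natDegree ≤ 1 := by
    let jj : k →+* k[X][X] := (C : k[X] →+* k[X][X]).comp C
    let jy : k[X] →+* k[X][X] := eval₂RingHom jj (C X)
    let jz : k[X] →+* k[X][X] := eval₂RingHom jj X
    have hy : jy = C := by
      refine Polynomial.ringHom_ext (fun a => ?_) ?_ <;> simp [jy, jj]
    have hzinj : Function.Injective jz := by
      have : jz = Polynomial.mapRingHom (C : k →+* k[X]) := by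
        refine Polynomial.ringHom_ext (fun a => ?_) ?_ <;> simp [jz, jj]
      rw [this]
      exact Polynomial.map_injective _ C_injective
    have h := assoc (k[X][X][X]) ((C : k[X][X] →+* _).comp jj) X (C (C X)) (C X)
    have e : ∀ t : k[X][X], eval₂RingHom ((C : k[X][X] →+* k[X][X][X]).comp jj) (C t) =
        (C : k[X][X] →+* _).comp (eval₂RingHom jj t) := fun t => by
      refine Polynomial.ringHom_ext (fun a => ?_) ?_ <;> simp
    have e' : ∀ φ : k[X] →+* k[X][X], P.eval₂ ((C : k[X][X] →+* _).comp φ) X = P.map φ := fun φ => rfl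
    rw [e, e, e', ← eval₂_map] at h
    rw [show P.eval₂ ((C : k[X][X] →+* k[X][X][X]).comp (eval₂RingHom jj X)) (C (C X)) =
      C (P.eval₂ (eval₂RingHom jj X) (C X)) from (hom_eval₂ P _ C _).symm, e, e'] at h
    have hdeg := congrArg natDegree h
    rw [← Polynomial.comp.eq_1, natDegree_comp, natDegree_map_eq_of_injective hzinj,
      natDegree_map_eq_of_injective (hy ▸ C_injective : Function.Injective jy)] at hdeg
    have := natDegree_map_le (f := eval₂RingHom jj (P.eval₂ (eval₂RingHom jj X) (C X))) (p := P)
    rw [← hdeg] at this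
    rcases Nat.eq_zero_or_pos P.natDegree with h0 | h0
    · omega
    · exact Nat.le_of_mul_le_mul_left (by rwa [_root_.mul_one]) h0
  obtain ⟨A, B, rfl⟩ : ∃ A B, P = C A * X + C B :=
    ⟨_, _, Polynomial.eq_X_add_C_of_natDegree_le_one hn⟩
  have hid : eval₂RingHom (C : k →+* k[X]) X = RingHom.id _ := by
    refine Polynomial.ringHom_ext (fun a => ?_) ?_ <;> simp
  have hev : eval₂RingHom (C : k →+* k[X]) (C c) = C.comp (evalRingHom c) := by
    refine Polynomial.ringHom_ext (fun a => ?_) ?_ <;> simp
  simp only [eval₂_add, eval₂_mul, eval₂_C, eval₂_X, hid, RingHom.id_apply] at left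
  simp only [eval₂_add, eval₂_mul, eval₂_C, eval₂_X, hev, RingHom.coe_comp, Function.comp_apply,
    coe_evalRingHom] at right
  have hA1 : A.eval c = 1 := by
    have := congrArg (fun p : k[X] => p.coeff 1) right
    simpa using this
  have hB : B = X - A * C c := eq_sub_of_add_eq' left
  simp only [eval₂_add, eval₂_mul, eval₂_C, eval₂_X, coe_eval₂RingHom, hB, eval₂_sub] at inv
  have hI : ∀ q : k[X], q.eval₂ C I = q.comp I := fun q => rfl
  simp only [hI] at inv
  have hkey : A.comp I * (X - C c) = C c - I := by linear_combination inv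
  have hA : A.natDegree = 0 := by
    by_contra hd
    by_cases hI0 : A.comp I = 0
    · rw [hI0, zero_mul, eq_comm, sub_eq_zero] at hkey
      subst hkey
      rw [comp_C, hA1, map_one] at hI0
      exact one_ne_zero hI0
    · have h1 := congrArg natDegree hkey
      rw [natDegree_mul hI0 (X_sub_C_ne_zero c), natDegree_comp, natDegree_X_sub_C] at h1
      have h2 : (C c - I).natDegree ≤ I.natDegree :=
        (natDegree_sub_le _ _).trans (by simp)
      rw [← h1] at h2
      have := Nat.mul_le_mul_right I.natDegree (Nat.one_le_iff_ne_zero.2 hd)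
      rw [_root_.one_mul] at this
      omega
  obtain ⟨a, rfl⟩ := natDegree_eq_zero.1 hA
  simp only [eval_C] at hA1
  subst hA1
  rw [hB, map_one, map_one]
  simp

variable {k : Type u} [Field k] (G : Over (Spec (CommRingCat.of k))) [GrpObj G]

/-- `Spec` of a ring over `k`. -/
noncomputable abbrev specOver {D : Type u} [CommRing D] (i : k →+* D) : Over (Spec (CommRingCat.of k)) :=
  Over.mk (Spec.map (CommRingCat.ofHom i))

theorem baseHom_specOver {D : Type u} [CommRing D] (i : k →+* D) :
    Points.baseHom (specOver i) = (Scheme.ΓSpecIso (CommRingCat.of D)).inv.hom.comp i := by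
  have := Scheme.ΓSpecIso_inv_naturality (CommRingCat.ofHom i)
  exact congrArg CommRingCat.Hom.hom this.symm

theorem baseHom_comp {W W' : Over (Spec (CommRingCat.of k))} (g : W' ⟶ W) :
    g.left.appTop.hom.comp (Points.baseHom W) = Points.baseHom W' := by
  simp only [Points.baseHom]
  rw [← CommRingCat.hom_comp, Category.assoc, ← Scheme.Hom.comp_appTop, Over.w g]

/-- The group law on points for a coordinate. -/
theorem fn_mul (fn : ∀ {W : Over (Spec (CommRingCat.of k))}, (W ⟶ G) → Γ(W.left, ⊤))
    (hnat : ∀ {W W' : Over (Spec (CommRingCat.of k))} (g : W' ⟶ W) (x : W ⟶ G),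
      fn (g ≫ x) = g.left.appTop (fn x))
    (hbij : ∀ W, Function.Bijective (fn (W := W)))
    (W : Over (Spec (CommRingCat.of k))) (a b : W ⟶ G) :
    fn (a * b) = fn a + fn b - fn (1 : W ⟶ G) := by
  let e : ∀ (D : Type u) [CommRing D], Γ(Spec (CommRingCat.of D), ⊤) ≃+* D := fun D _ =>
    (Scheme.ΓSpecIso (CommRingCat.of D)).commRingCatIsoToRingEquiv
  let L := specOver ((C : k[X] →+* k[X][X]).comp C)
  choose pt hpt using fun W => (hbij W).2
  let P : k[X][X] := e _ (fn (pt L ((e _).symm X) * pt L ((e _).symm (C X))))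
  -- every product is given by `P`
  have key : ∀ (W : Over (Spec (CommRingCat.of k))) (a b : W ⟶ G),
      fn (a * b) = P.eval₂ (eval₂RingHom (Points.baseHom W) (fn b)) (fn a) := by
    intro W a b
    let φ : k[X][X] →+* Γ(W.left, ⊤) := eval₂RingHom (eval₂RingHom (Points.baseHom W) (fn b)) (fn a)
    let g : W ⟶ L := Over.homMk (W.left.toSpecΓ ≫ Spec.map (CommRingCat.ofHom φ)) <| by
      have h : W.left.toSpecΓ ≫ Spec.map (CommRingCat.ofHom (Points.baseHom W)) = W.hom :=
        Over.w (Points.toSpec W)
      change (_ ≫ _) ≫ Spec.map _ = _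
      rw [Category.assoc, ← Spec.map_comp, ← CommRingCat.ofHom_comp]
      rw [show φ.comp ((C : k[X] →+* k[X][X]).comp C) = Points.baseHom W from
        RingHom.ext fun x => by simp [φ]]
      exact h
    have hg : ∀ p, g.left.appTop ((e _).symm p) = φ p := fun p =>
      RingHom.congr_fun (Points.ringHomOf_toSpecΓ φ) p
    have ha : g ≫ pt L ((e _).symm X) = a := (hbij W).1 (by
      rw [hnat, hpt, hg]; simp [φ])
    have hb : g ≫ pt L ((e _).symm (C X)) = b := (hbij W).1 (by
      rw [hnat, hpt, hg]; simp [φ])
    rw [← ha, ← hb, ← MonObj.comp_mul, ha, hb, hnat]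
    exact (congrArg _ ((e _).symm_apply_apply _).symm).trans (hg P)
  -- transport to a `k`-algebra
  have tr : ∀ (D : Type u) [CommRing D] (i : k →+* D) (a b : specOver i ⟶ G),
      e D (fn (a * b)) = P.eval₂ (eval₂RingHom i (e D (fn b))) (e D (fn a)) := by
    intro D _ i a b
    rw [key]
    refine (hom_eval₂ P _ (e D).toRingHom _).trans ?_
    congr 1
    refine Polynomial.ringHom_ext (fun x => ?_) ?_
    · simp only [RingHom.coe_comp, Function.comp_apply, coe_eval₂RingHom, eval₂_C, baseHom_specOver]
      exact (e D).apply_symm_apply (i x)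
    · simp
  have hpt' : ∀ (D : Type u) [CommRing D] (i : k →+* D) (a : D),
      e D (fn (pt (specOver i) ((e D).symm a))) = a := fun D _ i a =>
    (congrArg (e D) (hpt _ _)).trans ((e D).apply_symm_apply a)
  let c₀ : specOver (RingHom.id k) ⟶ G := 1
  let c : k := e k (fn c₀)
  have hone : ∀ W : Over (Spec (CommRingCat.of k)), fn (1 : W ⟶ G) = Points.baseHom W c := by
    intro W
    let g : W ⟶ specOver (RingHom.id k) := Over.homMk W.hom (by
      change W.hom ≫ Spec.map (CommRingCat.ofHom (RingHom.id k)) = W.hom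
      simp)
    have h1 : g ≫ c₀ = 1 := MonObj.comp_one g
    rw [← h1, hnat]
    exact congrArg _ ((e k).symm_apply_apply _).symm
  have honeD : ∀ (D : Type u) [CommRing D] (i : k →+* D),
      e D (fn (1 : specOver i ⟶ G)) = i c := fun D _ i => by
    rw [hone, baseHom_specOver]
    exact (e D).apply_symm_apply (i c)
  obtain ⟨I, hI⟩ : ∃ I : k[X], P.eval₂ (eval₂RingHom C I) X = C c := by
    let t := pt (specOver (C : k →+* k[X])) ((e _).symm X)
    refine ⟨e _ (fn t⁻¹), ?_⟩
    have := tr k[X] C t t⁻¹
    rw [mul_inv_cancel, honeD, hpt'] at this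
    exact this.symm
  have hP : P = X + C (X - C c) := by
    refine law_eq P c I (fun D _ i a b d => ?_) ?_ ?_ hI
    · have h := congrArg (fun z => e D (fn z)) (_root_.mul_assoc (pt (specOver i) ((e D).symm a))
        (pt _ ((e D).symm b)) (pt _ ((e D).symm d)))
      simpa only [tr, hpt'] using h
    · have h := tr k[X] C (pt _ ((e _).symm X)) 1
      rw [_root_.mul_one, hpt', honeD] at h
      exact h.symm
    · have h := tr k[X] C 1 (pt _ ((e _).symm X))
      rw [_root_.one_mul, hpt', honeD] at h
      exact h.symm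
  rw [key, hP, hone]
  simp
  ring

end Groth.Agent.H81.LineLaw
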