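import Groth.Agent.Lib.WeakNormal.SnChar
import Groth.Agent.Lib.PolLaw.FlatSym
import Mathlib.FieldTheory.PurelyInseparable.Basic
import Mathlib.Algebra.MvPolynomial.Expand
import Mathlib.Algebra.CharP.Lemmas

/-!
Products of symmetric tensors in finite universal homeomorphisms of seminormal rings.
-/

universe u

open CategoryTheory AlgebraicGeometry
open scoped TensorProduct

namespace Groth.Agent.H81.MulSym

open Groth.Agent.Lib Groth.Agent.Lib.WeakNormal

/-- The residue field map of a subalgebra which is surjective on the image of the subalgebra is surjective. -/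
theorem surjective_of_forall {R : Type u} [CommRing R] (r : Ideal R) [r.IsPrime] {K : Type u} [Field K]
    (μ : K →+* r.ResidueField) (h : ∀ w : R, algebraMap R r.ResidueField w ∈ μ.range) : Function.Surjective μ := by
  intro z
  obtain ⟨a, b, hb, rfl⟩ := IsFractionRing.div_surjective (A := R ⧸ r) z
  obtain ⟨a, rfl⟩ := Ideal.Quotient.mk_surjective a
  obtain ⟨b, rfl⟩ := Ideal.Quotient.mk_surjective b
  obtain ⟨a', ha⟩ := h a
  obtain ⟨b', hb'⟩ := h b
  refine ⟨a' / b', ?_⟩
  rw [map_div₀, ha, hb']
  rfl

/-- In a reduced universal homeomorphism over a seminormal ring, an element whose values lie in the residue fields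
of the base lies in the base. -/
theorem mem_range_of_residue {C C' : Type u} [CommRing C] [CommRing C'] [_root_.IsReduced C']
    (hC : HTop.IsSeminormalRing C) (g : C →+* C') (hg : FlatMor.IsUnivHomeo (Spec.map (CommRingCat.ofHom g))) (z : C')
    (hz : ∀ q : PrimeSpectrum C', algebraMap C' q.asIdeal.ResidueField z ∈
      (Ideal.ResidueField.map (PrimeSpectrum.comap g q).asIdeal q.asIdeal g rfl).range) :
    z ∈ g.range := by
  letI := g.toAlgebra
  obtain ⟨hint, hui, hsurj⟩ := AbsExists.isUnivHomeo_iff.mp
    (show FlatMor.IsUnivHomeo (Spec.map (CommRingCat.ofHom (algebraMap C C'))) from hg)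
  let μ := fun q : PrimeSpectrum C' =>
    Ideal.ResidueField.map (PrimeSpectrum.comap g q).asIdeal q.asIdeal g rfl
  let D : Subalgebra C C' :=
    { carrier := {w | ∀ q, algebraMap C' q.asIdeal.ResidueField w ∈ (μ q).range}
      mul_mem' := fun ha hb q => by rw [map_mul]; exact mul_mem (ha q) (hb q)
      add_mem' := fun ha hb q => by rw [map_add]; exact add_mem (ha q) (hb q)
      algebraMap_mem' := fun c q => ⟨algebraMap C _ c, Ideal.ResidueField.map_algebraMap _ _ g rfl c⟩ }
  have hDint : Algebra.IsIntegral C D :=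
    ⟨fun x => (isIntegral_algHom_iff D.val Subtype.val_injective).mp (hint.isIntegral (x : C'))⟩
  have hlift : ∀ r : PrimeSpectrum D, ∃ q : PrimeSpectrum C', PrimeSpectrum.comap D.val.toRingHom q = r := fun r => by
    have : Algebra.IsIntegral D C' := Algebra.IsIntegral.tower_top C
    exact RingHom.IsIntegral.comap_surjective (f := algebraMap D C') (algebraMap_isIntegral_iff.mpr this)
      Subtype.val_injective r
  have hres : ∀ r : PrimeSpectrum D, Function.Surjective
      (Ideal.ResidueField.map (PrimeSpectrum.comap (algebraMap C D) r).asIdeal r.asIdeal (algebraMap C D) rfl) := by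
    intro r
    obtain ⟨q, rfl⟩ := hlift r
    refine surjective_of_forall _ _ fun w => ?_
    obtain ⟨c, hc⟩ := w.2 q
    let j := Ideal.ResidueField.map (PrimeSpectrum.comap D.val.toRingHom q).asIdeal q.asIdeal D.val.toRingHom rfl
    refine ⟨c, j.injective ?_⟩
    refine (DFunLike.congr_fun (ResidueField.map_map (algebraMap C D) rfl D.val.toRingHom rfl g rfl rfl) c).trans ?_
    exact hc.trans (Ideal.ResidueField.map_algebraMap _ q.asIdeal D.val.toRingHom rfl w).symm
  have hD : FlatMor.IsUnivHomeo (Spec.map (CommRingCat.ofHom (algebraMap C D))) := by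
    refine AbsExists.isUnivHomeo_iff.mpr ⟨hDint, AbsExists.universallyInjective_of_algHom_ext fun K _ φ ψ e => ?_,
      fun p => ?_⟩
    · have := RingHom.ker_isPrime φ
      let rφ : PrimeSpectrum D := ⟨RingHom.ker φ, RingHom.ker_isPrime φ⟩
      let rψ : PrimeSpectrum D := ⟨RingHom.ker ψ, RingHom.ker_isPrime ψ⟩
      have hcomap : PrimeSpectrum.comap (algebraMap C D) rφ = PrimeSpectrum.comap (algebraMap C D) rψ :=
        PrimeSpectrum.ext (by
          show Ideal.comap _ (RingHom.ker φ) = Ideal.comap _ (RingHom.ker ψ)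
          rw [RingHom.comap_ker, RingHom.comap_ker, e])
      have hr : rφ = rψ := by
        obtain ⟨q₁, h₁⟩ := hlift rφ
        obtain ⟨q₂, h₂⟩ := hlift rψ
        have := hui
        have hq : q₁ = q₂ := (Spec.map (CommRingCat.ofHom (algebraMap C C'))).injective (by
          show PrimeSpectrum.comap g q₁ = PrimeSpectrum.comap g q₂
          rw [← h₁, ← h₂, ← PrimeSpectrum.comap_comp_apply, ← PrimeSpectrum.comap_comp_apply] at hcomap
          exact hcomap)
        rw [← h₁, ← h₂, hq]
      have hker : RingHom.ker φ = RingHom.ker ψ := congrArg PrimeSpectrum.asIdeal hr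
      have hunit : ∀ (χ : D →+* K), RingHom.ker χ = RingHom.ker φ →
          rφ.asIdeal.primeCompl ≤ (IsUnit.submonoid K).comap χ := fun χ hχ x hx =>
        isUnit_iff_ne_zero.mpr fun h0 => hx (show x ∈ RingHom.ker φ by rw [← hχ]; exact h0)
      let φ' : rφ.asIdeal.ResidueField →+* K := Ideal.ResidueField.lift rφ.asIdeal φ le_rfl (hunit φ rfl)
      let ψ' : rφ.asIdeal.ResidueField →+* K := Ideal.ResidueField.lift rφ.asIdeal ψ hker.le (hunit ψ hker.symm)
      have h : φ' = ψ' := by
        refine RingHom.cancel_right (hres rφ) |>.mp (Ideal.ResidueField.ringHom_ext (RingHom.ext fun a => ?_))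
        have hm := Ideal.ResidueField.map_algebraMap (PrimeSpectrum.comap (algebraMap C D) rφ).asIdeal
          rφ.asIdeal (algebraMap C D) rfl a
        exact ((congrArg φ' hm).trans (Ideal.ResidueField.lift_algebraMap ..)).trans
          ((DFunLike.congr_fun e a).trans ((congrArg ψ' hm).trans (Ideal.ResidueField.lift_algebraMap ..)).symm)
      refine RingHom.ext fun w => ?_
      have := DFunLike.congr_fun h (algebraMap D _ w)
      simpa only [φ', ψ', Ideal.ResidueField.lift_algebraMap] using this
    · obtain ⟨q, hq⟩ := hsurj p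
      exact ⟨PrimeSpectrum.comap D.val.toRingHom q, by rw [← PrimeSpectrum.comap_comp_apply]; exact hq⟩
  have : _root_.IsReduced D := isReduced_of_injective D.val Subtype.val_injective
  have hb := SnChar.bijective_of_isSeminormalRing hC (algebraMap C D) hD fun r => by
    set φ := CommRingCat.ofHom (algebraMap C D)
    let θC := (Scheme.Spec.residueFieldIso (CommRingCat.of D) r).commRingCatIsoToRingEquiv
    let θA := (Scheme.Spec.residueFieldIso (CommRingCat.of C) (Spec.map φ r)).commRingCatIsoToRingEquiv
    refine (ConcreteCategory.isIso_iff_bijective _).mpr ⟨RingHom.injective _, fun w => ?_⟩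
    obtain ⟨v, hv⟩ := hres r (θC w)
    refine ⟨θA.symm v, θC.injective ?_⟩
    refine (congr($(ResidueField.residueFieldMap_residueFieldIso φ r rfl) (θA.symm v))).trans ?_
    rw [← hv]
    exact congrArg _ (θA.apply_symm_apply v)
  obtain ⟨c, hc⟩ := hb.2 ⟨z, hz⟩
  exact ⟨c, congrArg Subtype.val hc⟩

/-- Residue extensions of a universal homeomorphism are purely inseparable. -/
theorem isPurelyInseparable_residue {C C' : Type u} [CommRing C] [CommRing C'] (g : C →+* C')
    (hg : FlatMor.IsUnivHomeo (Spec.map (CommRingCat.ofHom g))) (q : PrimeSpectrum C') :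
    (Ideal.ResidueField.map (PrimeSpectrum.comap g q).asIdeal q.asIdeal g rfl).IsPurelyInseparable := by
  set φ := CommRingCat.ofHom g
  let q' : Spec (CommRingCat.of C') := q
  have hpi := (((tfae_universallyInjective (Spec.map φ)).out 0 2 rfl rfl).mp
    (UnivHomeo.Basic.universallyInjective hg)).2 q'
  let θC := (Scheme.Spec.residueFieldIso (CommRingCat.of C') q').commRingCatIsoToRingEquiv
  let θA := (Scheme.Spec.residueFieldIso (CommRingCat.of C) (Spec.map φ q')).commRingCatIsoToRingEquiv
  let e := ringExpChar ((Spec (CommRingCat.of C)).residueField (Spec.map φ q'))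
  have := ringExpChar.expChar (R := (Spec (CommRingCat.of C)).residueField (Spec.map φ q'))
  have : ExpChar (PrimeSpectrum.comap g q).asIdeal.ResidueField e :=
    expChar_of_injective_ringHom (f := θA.toRingHom) θA.injective e
  letI := (Ideal.ResidueField.map (PrimeSpectrum.comap g q).asIdeal q.asIdeal g rfl).toAlgebra
  letI := ((Spec.map φ).residueFieldMap q').hom.toAlgebra
  have hpi' : IsPurelyInseparable ((Spec (CommRingCat.of C)).residueField (Spec.map φ q'))
      ((Spec (CommRingCat.of C')).residueField q') := hpi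
  refine (isPurelyInseparable_iff_pow_mem _ e).2 fun z => ?_
  obtain ⟨n, v, hv⟩ := (isPurelyInseparable_iff_pow_mem _ e).1 hpi' (θC.symm z)
  refine ⟨n, θA v, ?_⟩
  have h2 := congr($(ResidueField.residueFieldMap_residueFieldIso φ q' rfl) v)
  refine h2.symm.trans ?_
  show θC (((Spec.map φ).residueFieldMap q').hom v) = z ^ e ^ n
  rw [show ((Spec.map φ).residueFieldMap q').hom v = θC.symm z ^ e ^ n from hv, map_pow, θC.apply_symm_apply]

open MvPolynomial in
/-- Coefficients of powers of a linear form over a purely inseparable extension. -/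
theorem coeff_sum_pow_mem {K L : Type u} [Field K] [Field L] [Algebra K L] [IsPurelyInseparable K L]
    [FiniteDimensional K L] {d : ℕ} (hd : Module.finrank K L ∣ d) {m : ℕ} (l : Fin m → L) (ν : Fin m →₀ ℕ) :
    coeff ν ((∑ i, C (l i) * X i) ^ d) ∈ (algebraMap K L).range := by
  let e := ringExpChar K
  have := ringExpChar.expChar (R := K)
  have : ExpChar L e := expChar_of_injective_ringHom (algebraMap K L).injective e
  have : ExpChar (MvPolynomial (Fin m) L) e := expChar_of_injective_ringHom (C_injective (Fin m) L) e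
  obtain ⟨n, hn⟩ := IsPurelyInseparable.finrank_eq_pow (F := K) L e
  have hpow : ∀ x : L, x ^ e ^ n ∈ (algebraMap K L).range := fun x => by
    obtain ⟨j, y, hy⟩ := IsPurelyInseparable.minpoly_eq_X_pow_sub_C K e x
    have hdeg : (minpoly K x).natDegree ∣ Module.finrank K L := minpoly.degree_dvd (Algebra.IsIntegral.isIntegral x)
    rw [hy, Polynomial.natDegree_sub_C, Polynomial.natDegree_X_pow, hn] at hdeg
    obtain ⟨k, hk⟩ := hdeg
    have hxy : x ^ e ^ j = algebraMap K L y := by
      have := minpoly.aeval K x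
      rw [hy] at this
      simpa [sub_eq_zero] using this
    exact ⟨y ^ k, by rw [hk, pow_mul, hxy, map_pow]⟩
  have hmem : (∑ i, C (l i) * X i) ^ d ∈ (MvPolynomial.map (σ := Fin m) (algebraMap K L)).range := by
    obtain ⟨t, ht⟩ := hd
    rw [ht, hn, pow_mul, sum_pow_char_pow]
    refine pow_mem (sum_mem fun i _ => ?_) t
    obtain ⟨a, ha⟩ := hpow (l i)
    exact ⟨C a * X i ^ e ^ n, by rw [map_mul, map_pow, map_C, map_X, ha, mul_pow, ← map_pow]⟩
  obtain ⟨P, hP⟩ := hmem
  exact ⟨coeff ν P, by rw [← hP, coeff_map]⟩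

open MvPolynomial in
theorem coeff_linear_pow {R : Type u} [CommRing R] {m d : ℕ} (z : Fin m → R) (ν : Fin m →₀ ℕ) :
    coeff ν ((∑ i, C (z i) * X i) ^ d) =
      ∑ c : Fin d → Fin m, if PolLaw.Tpow.cnt c = ν then ∏ k, z (c k) else 0 := by
  classical
  rw [Fintype.sum_pow, coeff_sum]
  refine Finset.sum_congr rfl fun c _ => ?_
  rw [Finset.prod_mul_distrib, ← map_prod, coeff_C_mul,
    show ∏ k, (X (c k) : MvPolynomial (Fin m) R) = monomial (PolLaw.Tpow.cnt c) 1 by
      rw [PolLaw.Tpow.cnt, monomial_sum_one]; rfl,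
    coeff_monomial]
  split_ifs <;> simp

open PolLaw.FlatTensor PolLaw.FlatSym in
/-- Products of symmetric tensors lie in the seminormal base. -/
theorem mul_mem {A C C' B : Type u} [CommRing A] [CommRing C] [CommRing C'] [CommRing B]
    [Algebra A C] [Algebra A C'] [Algebra A B] [Module.Flat A B] [_root_.IsReduced C']
    (hC : HTop.IsSeminormalRing C) (g : C →ₐ[A] C')
    (hg : FlatMor.IsUnivHomeo (Spec.map (CommRingCat.ofHom g.toRingHom))) (d : ℕ) (hd : 0 < d)
    (hdeg : ∀ q : PrimeSpectrum C',
      @Module.finrank (PrimeSpectrum.comap g.toRingHom q).asIdeal.ResidueField q.asIdeal.ResidueField _ _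
          (Ideal.ResidueField.map (PrimeSpectrum.comap g.toRingHom q).asIdeal q.asIdeal g.toRingHom
            rfl).toAlgebra.toModule ∣ d)
    (φ : B →ₐ[A] C') (x : ⨂[A] _ : Fin d, B) (hx : x ∈ SymTen.TS A B d) :
    φ (PiTensorProduct.lift (MultilinearMap.mkPiAlgebra A (Fin d) B) x) ∈ g.range := by
  classical
  obtain ⟨m, f, t, ht, hti, -⟩ := exists_symm_lift (fun _ : Unit => x) (fun _ => hx) 0 (by simp)
  rw [← ht (), eq_sum_orbit (hti ())]
  simp only [map_sum, map_smul]
  refine sum_mem fun ν _ => g.range.smul_mem ?_ _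
  let z : Fin m → C' := fun i => φ (f (Pi.basisFun A (Fin m) i))
  have hz : φ (PiTensorProduct.lift (MultilinearMap.mkPiAlgebra A (Fin d) B) (tm f (orbit A d m ν.1))) =
      MvPolynomial.coeff ν.1 ((∑ i, MvPolynomial.C (z i) * MvPolynomial.X i) ^ d) := by
    rw [coeff_linear_pow, orbit, map_sum, map_sum, map_sum]
    refine Finset.sum_congr rfl fun c _ => ?_
    split_ifs with h
    · rw [bT_apply, tm_tprod, PiTensorProduct.lift.tprod, MultilinearMap.mkPiAlgebra_apply, map_prod]
    · simp
  rw [hz]
  obtain ⟨c, hc⟩ := mem_range_of_residue hC g.toRingHom hg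
    (MvPolynomial.coeff ν.1 ((∑ i, MvPolynomial.C (z i) * MvPolynomial.X i) ^ d)) fun q => by
    let μ := Ideal.ResidueField.map (PrimeSpectrum.comap g.toRingHom q).asIdeal q.asIdeal g.toRingHom rfl
    letI := μ.toAlgebra
    have : IsPurelyInseparable (PrimeSpectrum.comap g.toRingHom q).asIdeal.ResidueField q.asIdeal.ResidueField :=
      isPurelyInseparable_residue g.toRingHom hg q
    have : FiniteDimensional (PrimeSpectrum.comap g.toRingHom q).asIdeal.ResidueField q.asIdeal.ResidueField :=
      Module.finite_of_finrank_pos (Nat.pos_of_ne_zero fun h0 => hd.ne' (Nat.eq_zero_of_zero_dvd (h0 ▸ hdeg q :)))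
    rw [← MvPolynomial.coeff_map]
    simp only [map_pow, map_sum, map_mul, MvPolynomial.map_C, MvPolynomial.map_X]
    exact coeff_sum_pow_mem (hdeg q) _ _
  exact ⟨c, hc⟩

end Groth.Agent.H81.MulSym
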