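import Groth.Prelude.Def_QuotSh
import Groth.Agent.Lib.AlgSpace.Quot
import Mathlib.CategoryTheory.Limits.Yoneda

/-!
Quotient sheaves of equivalence relations for an arbitrary precoverage on schemes.
-/

universe u

open CategoryTheory CategoryTheory.Limits AlgebraicGeometry Opposite

namespace Groth.Agent.H81.QuotShGen

open Groth.Agent.Lib.AlgSpace

variable {K : Precoverage Scheme.{u}} {S : Scheme.{u}} {R U Y : Over S} {s t : R ⟶ U}

/-- The relation is the kernel pair of the projection to the quotient sheaf. -/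
theorem isPullback_rep (h : AlgSp.IsEqvRel s t) :
    IsPullback (QuotSh.repMap K t) (QuotSh.repMap K s) (QuotSh.quotπ K s t) (QuotSh.quotπ K s t) := by
  let G : ((Over S)ᵒᵖ ⥤ Type (u + 1)) ⥤ QuotSh.Sh K S := presheafToSheaf (QuotSh.J K S) (Type (u + 1))
  let e := coequalizerComparison (preMap s) (preMap t) G
  have he : QuotSh.quotπ K s t ≫ e = G.map (coequalizer.π (preMap s) (preMap t)) :=
    ι_comp_coequalizerComparison (preMap s) (preMap t) G
  refine ((isPullback_pre h).map G).of_iso (Iso.refl _) (Iso.refl _) (Iso.refl _) (asIso e).symm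
    (by simp [G]) (by simp [G]) ?_ ?_
  · rw [← he]
    simp [G]
    exact (congrArg (QuotSh.quotπ K s t ≫ ·) (IsIso.hom_inv_id e)).trans (Category.comp_id _)
  · rw [← he]
    simp [G]
    exact (congrArg (QuotSh.quotπ K s t ≫ ·) (IsIso.hom_inv_id e)).trans (Category.comp_id _)

/-- A kernel pair whose map is locally surjective gives the quotient sheaf. -/
theorem isQuotient_of_epi (q : U ⟶ Y) (hk : IsKernelPair q s t) [Epi (QuotSh.repMap K q)] :
    QuotSh.IsQuotient K s t q := by
  refine ⟨hk.w, ?_⟩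
  let G : ((Over S)ᵒᵖ ⥤ Type (u + 1)) ⥤ QuotSh.Sh K S := presheafToSheaf (QuotSh.J K S) (Type (u + 1))
  let H : Over S ⥤ ((Over S)ᵒᵖ ⥤ Type (u + 1)) :=
    yoneda ⋙ (Functor.whiskeringRight _ _ _).obj uliftFunctor.{u + 1, u}
  have sq : IsPullback (QuotSh.repMap K s) (QuotSh.repMap K t) (QuotSh.repMap K q) (QuotSh.repMap K q) :=
    (IsPullback.map H hk).map G
  have : IsRegularEpi (QuotSh.repMap K q) := IsRegularEpiCategory.regularEpiOfEpi _
  let hc : IsColimit (Cofork.ofπ (QuotSh.repMap K q) sq.w) :=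
    isColimitCoforkOfEffectiveEpi _ sq.cone sq.isLimit
  let inv := Cofork.IsColimit.desc hc (QuotSh.quotπ K s t) (QuotSh.quot_condition K s t)
  have hinv : QuotSh.repMap K q ≫ inv = QuotSh.quotπ K s t := Cofork.IsColimit.π_desc' hc _ _
  have h1 : QuotSh.quotπ K s t ≫ QuotSh.quotDesc K q hk.w = QuotSh.repMap K q := coequalizer.π_desc _ _
  have : Epi (QuotSh.quotπ K s t) := coequalizer.π_epi
  refine ⟨⟨inv, ?_, ?_⟩⟩
  · rw [← cancel_epi (QuotSh.quotπ K s t), reassoc_of% h1, hinv]
    exact (Category.comp_id _).symm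
  · rw [← cancel_epi (QuotSh.repMap K q), reassoc_of% hinv, h1]
    exact (Category.comp_id _).symm

/-- A quotient map has the relation as kernel pair, for a subcanonical topology. -/
theorem isKernelPair_of_isQuotient [(QuotSh.J K S).Subcanonical] (h : AlgSp.IsEqvRel s t) {q : U ⟶ Y}
    (hq : QuotSh.IsQuotient K s t q) : IsKernelPair q s t := by
  obtain ⟨w, hiso⟩ := hq
  have h1 : QuotSh.quotπ K s t ≫ QuotSh.quotDesc K q w = QuotSh.repMap K q := coequalizer.π_desc _ _
  have sq : IsPullback (QuotSh.repMap K t) (QuotSh.repMap K s) (QuotSh.repMap K q) (QuotSh.repMap K q) :=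
    (isPullback_rep h).of_iso (Iso.refl _) (Iso.refl _) (Iso.refl _) (asIso (QuotSh.quotDesc K q w))
      (by simp) (by simp) (by simp [h1]) (by simp [h1])
  have nat : ∀ {V W : Over S} (g : V ⟶ W), QuotSh.repMap K g ≫ (QuotSh.repIsoUliftYoneda K W).hom =
      (QuotSh.repIsoUliftYoneda K V).hom ≫ (QuotSh.J K S).uliftYoneda.{u + 1}.map g := fun g =>
    (sheafificationNatIso (QuotSh.J K S) (Type (u + 1))).inv.naturality
      ((QuotSh.J K S).uliftYoneda.{u + 1}.map g)
  exact (IsPullback.of_map ((QuotSh.J K S).uliftYoneda.{u + 1}) w.symm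
    (sq.of_iso (QuotSh.repIsoUliftYoneda K R) (QuotSh.repIsoUliftYoneda K U) (QuotSh.repIsoUliftYoneda K U)
      (QuotSh.repIsoUliftYoneda K Y) (nat t) (nat s) (nat q) (nat q))).flip

/-- A quotient map is locally surjective. -/
theorem isLocallySurjective_of_isQuotient {q : U ⟶ Y} (hq : QuotSh.IsQuotient K s t q) :
    Presheaf.IsLocallySurjective (QuotSh.J K S) (preMap q) := by
  obtain ⟨w, hiso⟩ := hq
  have h1 : QuotSh.quotπ K s t ≫ QuotSh.quotDesc K q w = QuotSh.repMap K q := coequalizer.π_desc _ _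
  have : Epi (QuotSh.quotπ K s t) := coequalizer.π_epi
  have : Epi (QuotSh.repMap K q) := h1 ▸ epi_comp _ _
  exact (Presheaf.isLocallySurjective_presheafToSheaf_map_iff (QuotSh.J K S) (preMap q)).1
    ((Sheaf.isLocallySurjective_iff_epi' (Type (u + 1)) _).2 this)

end Groth.Agent.H81.QuotShGen
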