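import Groth.Agent.Lib.FunFld.Place
import Mathlib.FieldTheory.Separable
import Mathlib.RingTheory.IntegralDomain
import Mathlib.Algebra.CharP.Basic
/-!
# Ramification groups of a place with separable residue field
-/

set_option autoImplicit false

namespace Groth.Agent.H81.Ramification

open WithZero Groth.Agent.Lib.FunFld.Place

universe u v
variable {k : Type u} {L : Type v} [Field k] [Field L] [Algebra k L]
variable (P : _root_.FunFld.Place k L)

/-- `σ` moves integral elements by at most `exp (-i)`. -/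
def InG (σ : L ≃ₐ[k] L) (i : ℕ) : Prop :=
  ∀ x : L, P.1 x ≤ 1 → P.1 (σ x - x) ≤ exp (-(i : ℤ))

variable {P}

theorem exp_le_one_of_le {a : ℤ} (h : a ≤ 0) : exp a ≤ (1 : WithZero (Multiplicative ℤ)) := by
  rw [← exp_zero, exp_le_exp]; exact h

theorem exp_lt_one_of_lt {a : ℤ} (h : a < 0) : exp a < (1 : WithZero (Multiplicative ℤ)) := by
  rw [← exp_zero, exp_lt_exp]; exact h

theorem le_exp_neg_one_of_lt_one {a : WithZero (Multiplicative ℤ)} (h : a < 1) : a ≤ exp (-(1 : ℤ)) := by
  rcases eq_or_ne a 0 with h0 | h0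
  · rw [h0]; exact zero_le
  · rw [← exp_log h0, ← exp_zero, exp_lt_exp] at h
    rw [← exp_log h0, exp_le_exp]
    omega

theorem val_le_one_of_inG {σ : L ≃ₐ[k] L} {i : ℕ} (h : InG P σ i) {x : L} (hx : P.1 x ≤ 1) :
    P.1 (σ x) ≤ 1 := by
  have h1 : P.1 (σ x - x) ≤ 1 := (h x hx).trans (exp_le_one_of_le (by omega))
  have h2 := P.1.map_add (σ x - x) x
  rw [sub_add_cancel] at h2
  exact h2.trans (max_le h1 hx)

theorem inG_mul {σ τ : L ≃ₐ[k] L} {i : ℕ} (hσ : InG P σ i) (hτ : InG P τ i) : InG P (σ * τ) i := by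
  intro x hx
  have h2 := P.1.map_add (σ (τ x) - τ x) (τ x - x)
  rw [sub_add_sub_cancel] at h2
  exact h2.trans (max_le (hσ _ (val_le_one_of_inG hτ hx)) (hτ x hx))

theorem inG_one (i : ℕ) : InG P (1 : L ≃ₐ[k] L) i := fun x _ => by simp

theorem inG_pow {σ : L ≃ₐ[k] L} {i : ℕ} (h : InG P σ i) : ∀ n : ℕ, InG P (σ ^ n) i
  | 0 => inG_one i
  | n + 1 => pow_succ σ n ▸ inG_mul (inG_pow h n) h

theorem inG_inv {σ : L ≃ₐ[k] L} (hord : IsOfFinOrder σ) {i : ℕ} (h : InG P σ i) : InG P σ⁻¹ i := by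
  obtain ⟨n, hn⟩ := hord.mem_powers_iff_mem_zpowers.2 (Subgroup.inv_mem _ (Subgroup.mem_zpowers σ))
  exact hn ▸ inG_pow h n

/-- Multiplying the two congruences. -/
theorem val_mul_sub {σ : L ≃ₐ[k] L} (x y : L) :
    P.1 (σ (x * y) - x * y) ≤ max (P.1 (σ x) * P.1 (σ y - y)) (P.1 (σ x - x) * P.1 y) := by
  rw [show σ (x * y) - x * y = σ x * (σ y - y) + (σ x - x) * y by rw [map_mul]; ring]
  refine (P.1.map_add _ _).trans (le_of_eq ?_)
  rw [map_mul, map_mul]

section Uniformizer

variable {t : L} (ht : P.1 t = exp (-1))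
include ht

theorem t_ne_zero : t ≠ 0 := fun h => exp_ne_zero (a := (-1 : ℤ)) (by rw [← ht, h, map_zero])

theorem val_div_le {y : L} {j : ℕ} (h : P.1 y ≤ exp (-(j : ℤ))) : P.1 (y / t ^ j) ≤ 1 := by
  rw [map_div₀, map_pow, ht, ← exp_nsmul, div_le_one₀ exp_pos]
  simpa using h

theorem val_lt_one_mul {y : L} (h : P.1 y < 1) : ∃ w, P.1 w ≤ 1 ∧ y = t * w := by
  refine ⟨y / t, ?_, (mul_div_cancel₀ y (t_ne_zero ht)).symm⟩
  rw [map_div₀, ht, div_le_one₀ exp_pos]
  exact le_exp_neg_one_of_lt_one h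

/-- With separable residue field the congruence is decided on a uniformizer. -/
theorem inG_of_uniformizer [Algebra.IsSeparable k (IsLocalRing.ResidueField P.O)]
    {σ : L ≃ₐ[k] L} (h1 : InG P σ 1) : ∀ (j : ℕ), P.1 (σ t - t) ≤ exp (-((j : ℤ) + 1)) →
      InG P σ (j + 1) := by
  intro j
  induction j with
  | zero => intro _; simpa using h1
  | succ j ih =>
    intro hj
    push_cast at hj
    have hG : InG P σ (j + 1) := ih (hj.trans (by rw [exp_le_exp]; omega))
    let n := j + 1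
    let d : P.O → IsLocalRing.ResidueField P.O := fun x =>
      IsLocalRing.residue P.O ⟨(σ (x : L) - x) / t ^ n, val_div_le ht (hG x x.2)⟩
    have hres : ∀ (a b : L) (ha : P.1 a ≤ 1) (hb : P.1 b ≤ 1), P.1 (a - b) < 1 →
        IsLocalRing.residue P.O ⟨a, ha⟩ = IsLocalRing.residue P.O ⟨b, hb⟩ := by
      intro a b ha hb hlt
      rw [← sub_eq_zero, ← map_sub, res_eq_zero_iff]
      exact hlt
    have dadd : ∀ x y, d (x + y) = d x + d y := fun x y => by
      simp only [d, ← map_add]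
      congr 1
      apply Subtype.ext
      simp only [AddMemClass.coe_add, map_add]
      ring
    have dmul : ∀ x y, d (x * y) = IsLocalRing.residue P.O x * d y + d x * IsLocalRing.residue P.O y := by
      intro x y
      have hσx : P.1 (σ (x : L)) ≤ 1 := val_le_one_of_inG hG x.2
      have : d (x * y) = IsLocalRing.residue P.O ⟨σ (x : L), hσx⟩ * d y + d x * IsLocalRing.residue P.O y := by
        simp only [d, ← map_mul, ← map_add]
        congr 1
        apply Subtype.ext
        simp only [MulMemClass.coe_mul, AddMemClass.coe_add, map_mul]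
        ring
      rw [this, hres _ _ hσx x.2 ((h1 x x.2).trans_lt (exp_lt_one_of_lt (by omega)))]
    have dk : ∀ c : k, d (algebraMap k P.O c) = 0 := fun c => by
      have : σ ((algebraMap k P.O c : P.O) : L) = (algebraMap k P.O c : P.O) := σ.commutes c
      simp only [d, this, sub_self, zero_div]
      exact map_zero _
    have dt : d ⟨t, by rw [mem_O_iff, ht]; exact exp_le_one_of_le (by omega)⟩ = 0 := by
      simp only [d]
      rw [res_eq_zero_iff]
      show P.1 ((σ t - t) / t ^ n) < 1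
      rw [map_div₀, map_pow, ht, ← exp_nsmul, div_lt_one₀ exp_pos]
      refine hj.trans_lt ?_
      rw [exp_lt_exp]
      simp only [n, nsmul_eq_mul]
      push_cast
      omega
    have dm : ∀ x : P.O, IsLocalRing.residue P.O x = 0 → d x = 0 := by
      intro x hx
      obtain ⟨w, hw, hxw⟩ := val_lt_one_mul ht ((res_eq_zero_iff P x).1 hx)
      have e : x = ⟨t, by rw [mem_O_iff, ht]; exact exp_le_one_of_le (by omega)⟩ * ⟨w, hw⟩ := Subtype.ext hxw
      rw [e, dmul, dt, zero_mul, add_zero, mul_eq_zero]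
      left
      rw [res_eq_zero_iff]
      show P.1 t < 1
      rw [ht]; exact exp_lt_one_of_lt (by omega)
    -- a derivation of a separable algebraic extension vanishes
    have dz : ∀ x : P.O, d x = 0 := by
      intro x
      have key : ∀ h : Polynomial k, d (Polynomial.aeval x h) =
          Polynomial.aeval (IsLocalRing.residue P.O x) (Polynomial.derivative h) * d x := by
        intro h
        induction h using Polynomial.induction_on with
        | C c => simp [dk]
        | add p q hp hq => rw [map_add, dadd, hp, hq, map_add, map_add, add_mul]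
        | monomial m c hm =>
          rw [pow_succ, ← mul_assoc, map_mul, dmul, hm,
            Polynomial.derivative_mul (f := Polynomial.C c * Polynomial.X ^ m),
            Polynomial.derivative_X, mul_one]
          have e : IsLocalRing.residue P.O (Polynomial.aeval x (Polynomial.C c * Polynomial.X ^ m)) =
              Polynomial.aeval (IsLocalRing.residue P.O x) (Polynomial.C c * Polynomial.X ^ m) := by
            simp only [map_mul, map_pow, Polynomial.aeval_C, Polynomial.aeval_X]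
            rfl
          rw [e]
          simp only [map_add, map_mul, map_pow, Polynomial.aeval_X]
          ring
      let r := IsLocalRing.residue P.O x
      have hsep := Algebra.IsSeparable.isSeparable k r
      have h0 : IsLocalRing.residue P.O (Polynomial.aeval x (minpoly k r)) = 0 := by
        rw [Polynomial.aeval_def, Polynomial.hom_eval₂]
        exact minpoly.aeval k r
      have hh := (key (minpoly k r)).symm.trans (dm _ h0)
      exact (mul_eq_zero.1 hh).resolve_left (hsep.aeval_derivative_ne_zero (minpoly.aeval k r))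
    intro x hx
    have h := (res_eq_zero_iff P _).1 (dz ⟨x, hx⟩)
    obtain ⟨w, hw, he⟩ := val_lt_one_mul ht h
    have : σ x - x = t ^ (n + 1) * w := by
      rw [div_eq_iff (pow_ne_zero _ (t_ne_zero ht))] at he
      rw [he, pow_succ]; ring
    rw [this, map_mul, map_pow, ht, ← exp_nsmul]
    refine (mul_le_mul' le_rfl hw).trans (le_of_eq ?_)
    rw [mul_one]
    congr 1
    simp [n]

theorem inG_iff [Algebra.IsSeparable k (IsLocalRing.ResidueField P.O)]
    {σ : L ≃ₐ[k] L} (h1 : InG P σ 1) {j : ℕ} (hj : 1 ≤ j) :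
    InG P σ j ↔ P.1 (σ t - t) ≤ exp (-(j : ℤ)) := by
  obtain ⟨j, rfl⟩ : ∃ i, j = i + 1 := ⟨j - 1, by omega⟩
  refine ⟨fun h => h t (ht.le.trans (exp_le_one_of_le (by omega))), fun h => ?_⟩
  exact inG_of_uniformizer ht h1 j (by push_cast at h; exact h)

/-- For `i ≥ 2` the displacement of the uniformizer is additive modulo `exp (-(i + 1))`. -/
theorem displacement_mul {σ τ : L ≃ₐ[k] L} {i : ℕ} (hi : 2 ≤ i) (hσ : InG P σ i) (hτ : InG P τ i) :
    P.1 (((σ * τ) t - t) - ((σ t - t) + (τ t - t))) ≤ exp (-((i : ℤ) + 1)) := by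
  let y := τ t - t
  have ht1 : P.1 t ≤ 1 := ht.le.trans (exp_le_one_of_le (by omega))
  have hy : P.1 y ≤ exp (-(2 : ℤ)) := (hτ t ht1).trans (by rw [exp_le_exp]; omega)
  rw [show ((σ * τ) t - t) - ((σ t - t) + (τ t - t)) = σ y - y by
    simp only [y, AlgEquiv.mul_apply, map_sub]; ring]
  have hw : P.1 (y / t ^ 2) ≤ 1 := val_div_le ht (by simpa using hy)
  rw [show y = t ^ 2 * (y / t ^ 2) by rw [mul_div_cancel₀ _ (pow_ne_zero _ (t_ne_zero ht))]]
  have ht' : P.1 (σ t - t) ≤ exp (-(i : ℤ)) := hσ t ht1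
  have hσt : P.1 (σ t) ≤ exp (-1) := by
    have h2 := P.1.map_add (σ t - t) t
    rw [sub_add_cancel] at h2
    exact h2.trans (max_le (ht'.trans (by rw [exp_le_exp]; omega)) ht.le)
  refine (val_mul_sub _ _).trans (max_le ?_ ?_)
  · rw [map_pow, map_pow]
    refine (mul_le_mul' (pow_le_pow_left₀ zero_le hσt 2) (hσ _ hw)).trans ?_
    rw [← exp_nsmul, ← exp_add, exp_le_exp]
    simp
  · refine (mul_le_mul' ?_ hw).trans (le_of_eq (mul_one _))
    rw [map_pow, sq_sub_sq, map_mul]
    refine (mul_le_mul' ((P.1.map_add _ _).trans (max_le hσt ht.le)) ht').trans ?_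
    rw [← exp_add, exp_le_exp]
    omega

theorem displacement_pow {σ : L ≃ₐ[k] L} {i : ℕ} (hi : 2 ≤ i) (hσ : InG P σ i) (n : ℕ) :
    P.1 (((σ ^ n) t - t) - (n : L) * (σ t - t)) ≤ exp (-((i : ℤ) + 1)) := by
  induction n with
  | zero => simp
  | succ n ih =>
    have h := displacement_mul ht hi (inG_pow hσ n) hσ
    rw [pow_succ, show ((σ ^ n * σ) t - t) - ((n + 1 : ℕ) : L) * (σ t - t) =
      (((σ ^ n * σ) t - t) - (((σ ^ n) t - t) + (σ t - t))) + (((σ ^ n) t - t) - (n : L) * (σ t - t)) by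
        push_cast; ring]
    exact (P.1.map_add _ _).trans (max_le h ih)

theorem displacement_inv {σ : L ≃ₐ[k] L} (hord : IsOfFinOrder σ) {i : ℕ} (hi : 2 ≤ i)
    (hσ : InG P σ i) :
    P.1 ((σ t - t) + (σ⁻¹ t - t)) ≤ exp (-((i : ℤ) + 1)) := by
  have h := displacement_mul ht hi hσ (inG_inv hord hσ)
  rwa [mul_inv_cancel, AlgEquiv.one_apply, sub_self, zero_sub, Valuation.map_neg] at h

theorem inG_commutator [Algebra.IsSeparable k (IsLocalRing.ResidueField P.O)] {σ τ : L ≃ₐ[k] L}
    (hs : IsOfFinOrder σ) (ht' : IsOfFinOrder τ) {i : ℕ} (hi : 2 ≤ i) (hσ : InG P σ i)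
    (hτ : InG P τ i) : InG P (σ * τ * σ⁻¹ * τ⁻¹) (i + 1) := by
  have hσ' := inG_inv hs hσ
  have hτ' := inG_inv ht' hτ
  have hall := inG_mul (inG_mul (inG_mul hσ hτ) hσ') hτ'
  refine (inG_iff ht (fun x hx => (hall x hx).trans (by rw [exp_le_exp]; omega)) (by omega)).2 ?_
  push_cast
  have h1 := displacement_mul ht hi (inG_mul (inG_mul hσ hτ) hσ') hτ'
  have h2 := displacement_mul ht hi (inG_mul hσ hτ) hσ'
  have h3 := displacement_mul ht hi hσ hτ
  have h4 := displacement_inv ht hs hi hσ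
  have h5 := displacement_inv ht ht' hi hτ
  rw [show (σ * τ * σ⁻¹ * τ⁻¹) t - t =
    (((σ * τ * σ⁻¹ * τ⁻¹) t - t) - (((σ * τ * σ⁻¹) t - t) + (τ⁻¹ t - t))) +
      ((((σ * τ * σ⁻¹) t - t) - (((σ * τ) t - t) + (σ⁻¹ t - t))) +
        ((((σ * τ) t - t) - ((σ t - t) + (τ t - t))) +
          (((σ t - t) + (σ⁻¹ t - t)) + ((τ t - t) + (τ⁻¹ t - t))))) by ring]
  exact (P.1.map_add _ _).trans (max_le h1 ((P.1.map_add _ _).trans (max_le h2
    ((P.1.map_add _ _).trans (max_le h3 ((P.1.map_add _ _).trans (max_le h4 h5)))))))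

theorem inG_pow_of_natCast [Algebra.IsSeparable k (IsLocalRing.ResidueField P.O)] {σ : L ≃ₐ[k] L}
    {i : ℕ} (hi : 2 ≤ i) (hσ : InG P σ i) {n : ℕ} (hn : (n : L) = 0) : InG P (σ ^ n) (i + 1) := by
  refine (inG_iff ht (fun x hx => (inG_pow hσ n x hx).trans (by rw [exp_le_exp]; omega)) (by omega)).2 ?_
  have := displacement_pow ht hi hσ n
  rw [hn, zero_mul, sub_zero] at this
  push_cast
  exact this

theorem inG_of_charZero [Algebra.IsSeparable k (IsLocalRing.ResidueField P.O)] [CharZero k]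
    {σ : L ≃ₐ[k] L} (hord : IsOfFinOrder σ) {i : ℕ} (hi : 2 ≤ i) (hσ : InG P σ i) :
    InG P σ (i + 1) := by
  refine (inG_iff ht (fun x hx => (hσ x hx).trans (by rw [exp_le_exp]; omega)) (by omega)).2 ?_
  have hn := hord.orderOf_pos
  have := displacement_pow ht hi hσ (orderOf σ)
  rw [pow_orderOf_eq_one, AlgEquiv.one_apply, sub_self, zero_sub, Valuation.map_neg, map_mul] at this
  have h1 : P.1 ((orderOf σ : ℕ) : L) = 1 := by
    rw [← map_natCast (algebraMap k L), val_algebraMap P (Nat.cast_ne_zero.2 hn.ne')]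
  rw [h1, one_mul] at this
  push_cast
  exact this

/-- The tame quotient is cyclic. -/
theorem exists_generator [Algebra.IsSeparable k (IsLocalRing.ResidueField P.O)]
    (H : Subgroup (L ≃ₐ[k] L)) [Finite H] :
    ∃ σ₀ ∈ H, InG P σ₀ 1 ∧ ∀ σ ∈ H, InG P σ 1 → ∃ n : ℕ, InG P ((σ₀ ^ n)⁻¹ * σ) 2 := by
  classical
  let H1 : Subgroup H :=
    { carrier := {σ | InG P (σ : L ≃ₐ[k] L) 1}
      mul_mem' := fun h h' => inG_mul h h'
      one_mem' := inG_one 1
      inv_mem' := fun {σ} h => inG_inv (H.subtype.isOfFinOrder (isOfFinOrder_of_finite σ)) h }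
  have ht1 : P.1 t ≤ 1 := ht.le.trans (exp_le_one_of_le (by omega))
  have hu : ∀ σ : H1, P.1 (((σ : H) : L ≃ₐ[k] L) t / t) ≤ 1 := fun σ => by
    rw [map_div₀, ht, div_le_one₀ exp_pos]
    have h2 := P.1.map_add (((σ : H) : L ≃ₐ[k] L) t - t) t
    rw [sub_add_cancel] at h2
    exact h2.trans (max_le ((σ.2 t ht1).trans (by simp)) ht.le)
  let χ : H1 →* IsLocalRing.ResidueField P.O :=
    { toFun := fun σ => IsLocalRing.residue P.O ⟨_, hu σ⟩
      map_one' := by
        rw [← map_one (IsLocalRing.residue P.O)]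
        congr 1
        exact Subtype.ext (div_self (t_ne_zero ht))
      map_mul' := fun σ τ => by
        have hσu : P.1 (((σ : H) : L ≃ₐ[k] L) (((τ : H) : L ≃ₐ[k] L) t / t)) ≤ 1 :=
          val_le_one_of_inG σ.2 (hu τ)
        have e : IsLocalRing.residue P.O ⟨_, hσu⟩ = IsLocalRing.residue P.O ⟨_, hu τ⟩ := by
          rw [← sub_eq_zero, ← map_sub, res_eq_zero_iff]
          exact (σ.2 _ (hu τ)).trans_lt (exp_lt_one_of_lt (by omega))
        rw [← e, ← map_mul]
        congr 1
        apply Subtype.ext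
        have h0 : ((σ : H) : L ≃ₐ[k] L) t ≠ 0 := by simpa using t_ne_zero ht
        have h1 := t_ne_zero ht
        show ((σ : H) : L ≃ₐ[k] L) (((τ : H) : L ≃ₐ[k] L) t) / t =
          ((σ : H) : L ≃ₐ[k] L) t / t * ((σ : H) : L ≃ₐ[k] L) (((τ : H) : L ≃ₐ[k] L) t / t)
        rw [map_div₀]
        field_simp }
  let ψ := χ.toHomUnits
  have hker : ∀ σ : H1, ψ σ = 1 → InG P ((σ : H) : L ≃ₐ[k] L) 2 := fun σ h => by
    refine (inG_iff ht σ.2 one_le_two).2 ?_
    have h' : χ σ = IsLocalRing.residue P.O 1 := by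
      rw [map_one]; exact congrArg Units.val h
    rw [← sub_eq_zero] at h'
    change IsLocalRing.residue P.O ⟨_, hu σ⟩ - IsLocalRing.residue P.O 1 = 0 at h'
    rw [← map_sub, res_eq_zero_iff] at h'
    obtain ⟨w, hw, he⟩ := val_lt_one_mul ht h'
    have e : ((σ : H) : L ≃ₐ[k] L) t - t = t ^ 2 * w := by
      change ((σ : H) : L ≃ₐ[k] L) t / t - 1 = t * w at he
      rw [sub_eq_iff_eq_add, div_eq_iff (t_ne_zero ht)] at he
      rw [he]; ring
    rw [e, map_mul, map_pow, ht, ← exp_nsmul]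
    exact (mul_le_mul' le_rfl hw).trans (by simp)
  have : Finite ψ.range := Finite.of_surjective ψ.rangeRestrict ψ.rangeRestrict_surjective
  have : IsCyclic ψ.range := isCyclic_of_injective_ringHom ((Units.coeHom _).comp ψ.range.subtype)
    (Units.val_injective.comp Subtype.val_injective)
  obtain ⟨g, hg⟩ := IsCyclic.exists_generator (α := ψ.range)
  obtain ⟨_, σ₀, rfl⟩ := g
  refine ⟨_, (σ₀ : H).2, σ₀.2, fun σ hσ h1 => ?_⟩
  let σ' : H1 := ⟨⟨σ, hσ⟩, h1⟩
  obtain ⟨n, hn⟩ := (mem_powers_iff_mem_zpowers).2 (hg ⟨ψ σ', σ', rfl⟩)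
  refine ⟨n, hker ((σ₀ ^ n)⁻¹ * σ') ?_⟩
  have hn' : ψ σ₀ ^ n = ψ σ' := congrArg Subtype.val hn
  rw [map_mul, map_inv, map_pow, hn', inv_mul_cancel]

end Uniformizer

end Groth.Agent.H81.Ramification

namespace Groth.Agent.H81.Ramification

variable {k K K' : Type*} [Field k] [Field K] [Field K'] [Algebra k K] [Algebra K K'] [Algebra k K']
  [IsScalarTower k K K']

/-- Restriction of scalars of automorphisms, as a homomorphism. -/
def res : (K' ≃ₐ[K] K') →* (K' ≃ₐ[k] K') where
  toFun σ := σ.restrictScalars k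
  map_one' := rfl
  map_mul' _ _ := rfl

theorem res_apply (σ : K' ≃ₐ[K] K') (x : K') : res (k := k) σ x = σ x := rfl

end Groth.Agent.H81.Ramification
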