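import Groth.Agent.H81.LineLaw
import Groth.Agent.Lib.TorusUnits.Basic
/-!
# Group laws on the punctured line

(AddMonoidAlgebra k (ℤ × ℤ)) group scheme over a field whose points are naturally the units of the global functions has the law
`a b = u v / c`, where `c` is the coordinate of the unit.
-/

set_option autoImplicit false
universe u

open CategoryTheory MonoidalCategory CartesianMonoidalCategory MonObj AlgebraicGeometry
open Groth.Agent.Lib.RedPts Groth.Agent.H81.LineLaw

namespace Groth.Agent.H81.TorusLaw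

variable {k : Type u} [Field k] (G : Over (Spec (CommRingCat.of k))) [GrpObj G]

/-- The group law on points for an invertible coordinate. -/
theorem fn_mul (fn : ∀ {W : Over (Spec (CommRingCat.of k))}, (W ⟶ G) → Γ(W.left, ⊤))
    (hnat : ∀ {W W' : Over (Spec (CommRingCat.of k))} (g : W' ⟶ W) (x : W ⟶ G),
      fn (g ≫ x) = g.left.appTop (fn x))
    (hinj : ∀ W, Function.Injective (fn (W := W)))
    (hunit : ∀ (W : Over (Spec (CommRingCat.of k))) (x : W ⟶ G), IsUnit (fn x))
    (hsurj : ∀ (W : Over (Spec (CommRingCat.of k))) (a : Γ(W.left, ⊤)), IsUnit a → ∃ x : W ⟶ G, fn x = a)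
    (W : Over (Spec (CommRingCat.of k))) (a b : W ⟶ G) :
    fn (a * b) * fn (1 : W ⟶ G) = fn a * fn b := by
  classical
  let e : Γ(Spec (CommRingCat.of (AddMonoidAlgebra k (ℤ × ℤ))), ⊤) ≃+* (AddMonoidAlgebra k (ℤ × ℤ)) :=
    (Scheme.ΓSpecIso (CommRingCat.of (AddMonoidAlgebra k (ℤ × ℤ)))).commRingCatIsoToRingEquiv
  let L := specOver (algebraMap k (AddMonoidAlgebra k (ℤ × ℤ)))
  let mono : ℤ × ℤ → (AddMonoidAlgebra k (ℤ × ℤ)) := fun p => AddMonoidAlgebra.single p 1
  have hmono : ∀ p, IsUnit (mono p) := fun p => IsUnit.of_mul_eq_one (mono (-p)) (by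
    simp [mono, AddMonoidAlgebra.single_mul_single, AddMonoidAlgebra.one_def, -AddMonoidAlgebra.single_zero])
  obtain ⟨x, hx⟩ := hsurj L (e.symm (mono (1, 0))) ((hmono _).map e.symm)
  obtain ⟨y, hy⟩ := hsurj L (e.symm (mono (0, 1))) ((hmono _).map e.symm)
  obtain ⟨⟨i, j⟩, r, hF⟩ :=
    Lib.TorusUnits.Basic.exists_eq_single_of_isUnit ((hunit L (x * y)).map e)
  -- every product is given by the monomial
  have key : ∀ (W : Over (Spec (CommRingCat.of k))) (a b : W ⟶ G),
      fn (a * b) = Points.baseHom W r * ↑((hunit W a).unit ^ i * (hunit W b).unit ^ j) := by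
    intro W a b
    let _ := (Points.baseHom W).toAlgebra
    let F : Multiplicative (ℤ × ℤ) →* Γ(W.left, ⊤) :=
      { toFun := fun p => ↑((hunit W a).unit ^ p.toAdd.1 * (hunit W b).unit ^ p.toAdd.2)
        map_one' := by simp
        map_mul' := fun p q => by
          rw [← Units.val_mul]
          congr 1
          rw [toAdd_mul, Prod.fst_add, Prod.snd_add, zpow_add, zpow_add, _root_.mul_mul_mul_comm] }
    let φ : (AddMonoidAlgebra k (ℤ × ℤ)) →ₐ[k] Γ(W.left, ⊤) := AddMonoidAlgebra.lift k Γ(W.left, ⊤) (ℤ × ℤ) F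
    let g : W ⟶ L := Over.homMk (W.left.toSpecΓ ≫ Spec.map (CommRingCat.ofHom φ.toRingHom)) <| by
      have h : W.left.toSpecΓ ≫ Spec.map (CommRingCat.ofHom (Points.baseHom W)) = W.hom :=
        Over.w (Points.toSpec W)
      change (_ ≫ _) ≫ Spec.map _ = _
      rw [Category.assoc, ← Spec.map_comp, ← CommRingCat.ofHom_comp]
      rw [show φ.toRingHom.comp (algebraMap k (AddMonoidAlgebra k (ℤ × ℤ))) = Points.baseHom W from φ.comp_algebraMap]
      exact h
    have hg : ∀ p, g.left.appTop (e.symm p) = φ p := fun p =>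
      RingHom.congr_fun (Points.ringHomOf_toSpecΓ φ.toRingHom) p
    have hφ : ∀ (p : ℤ × ℤ) (s : k), φ (AddMonoidAlgebra.single p s) =
        Points.baseHom W s * ↑((hunit W a).unit ^ p.1 * (hunit W b).unit ^ p.2) := fun p s => by
      simp only [φ, AddMonoidAlgebra.lift_single, Algebra.smul_def]
      rfl
    have ha : g ≫ x = a := hinj W (by rw [hnat, hx, hg, hφ]; simp)
    have hb : g ≫ y = b := hinj W (by rw [hnat, hy, hg, hφ]; simp)
    rw [← ha, ← hb, ← MonObj.comp_mul, ha, hb, hnat]
    refine ((congrArg _ (e.symm_apply_apply _).symm).trans (hg _)).trans ?_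
    rw [hF, hφ]
  let c₀ : specOver (RingHom.id k) ⟶ G := 1
  let ek : Γ(Spec (CommRingCat.of k), ⊤) ≃+* k :=
    (Scheme.ΓSpecIso (CommRingCat.of k)).commRingCatIsoToRingEquiv
  let c : k := ek (fn c₀)
  have hone : ∀ W : Over (Spec (CommRingCat.of k)), fn (1 : W ⟶ G) = Points.baseHom W c := by
    intro W
    let g : W ⟶ specOver (RingHom.id k) := Over.homMk W.hom (by
      change W.hom ≫ Spec.map (CommRingCat.ofHom (RingHom.id k)) = W.hom
      simp)
    have h1 : g ≫ c₀ = 1 := MonObj.comp_one g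
    rw [← h1, hnat]
    exact congrArg _ (ek.symm_apply_apply _).symm
  have hc : c ≠ 0 := ((hunit _ c₀).map ek).ne_zero
  have hmonoL : ∀ (p : ℤ × ℤ) (s : k), e (Points.baseHom L s) * mono p = AddMonoidAlgebra.single p s := by
    intro p s
    rw [baseHom_specOver]
    refine (congrArg (· * mono p) (e.apply_symm_apply (algebraMap k (AddMonoidAlgebra k (ℤ × ℤ)) s))).trans ?_
    simp [mono, AddMonoidAlgebra.single_mul_single, AddMonoidAlgebra.coe_algebraMap]
  have hpow : ∀ (z : L ⟶ G) (p : ℤ × ℤ) (n : ℤ), fn z = e.symm (mono p) →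
      e (↑((hunit L z).unit ^ n) : Γ(L.left, ⊤)) = mono (n • p) := by
    intro z p n hz
    induction n with
    | zero => simp [mono, AddMonoidAlgebra.one_def]
    | succ m ih =>
      rw [zpow_add_one, Units.val_mul, map_mul, ih, IsUnit.unit_spec, hz, e.apply_symm_apply]
      simp [mono, AddMonoidAlgebra.single_mul_single, add_smul]
    | pred m ih =>
      refine (((hunit L z).map e)).mul_right_cancel ?_
      have : (↑((hunit L z).unit ^ (-(m : ℤ) - 1)) : Γ(L.left, ⊤)) * fn z =
          ↑((hunit L z).unit ^ (-(m : ℤ))) := by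
        refine (congrArg (_ * ·) (hunit L z).unit_spec.symm).trans ?_
        rw [← Units.val_mul, ← zpow_add_one, sub_add_cancel]
      rw [← map_mul, this, ih, hz, e.apply_symm_apply]
      simp [mono, AddMonoidAlgebra.single_mul_single, sub_smul]
  have hone' : ∀ n : ℤ, e (↑((hunit L (1 : L ⟶ G)).unit ^ n) : Γ(L.left, ⊤)) =
      algebraMap k (AddMonoidAlgebra k (ℤ × ℤ)) (c ^ n) := by
    intro n
    have : (hunit L (1 : L ⟶ G)).unit = Units.map (Points.baseHom L).toMonoidHom (Units.mk0 c hc) :=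
      Units.ext (hone L)
    rw [this, ← map_zpow, Units.coe_map, RingHom.toMonoidHom_eq_coe, MonoidHom.coe_coe,
      baseHom_specOver]
    refine (e.apply_symm_apply (algebraMap k (AddMonoidAlgebra k (ℤ × ℤ)) _)).trans ?_
    simp
  have hr : r * c ^ j = 1 ∧ i = 1 := by
    have h := congrArg e (key L x 1)
    rw [_root_.mul_one, Units.val_mul, map_mul, map_mul, hone', hpow x (1, 0) i hx, hx,
      e.apply_symm_apply, ← _root_.mul_assoc, hmonoL] at h
    simp only [mono, AddMonoidAlgebra.coe_algebraMap, Function.comp_apply, Algebra.algebraMap_self,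
      RingHom.id_apply, AddMonoidAlgebra.single_mul_single, add_zero] at h
    rcases Finsupp.single_eq_single_iff _ _ _ _ |>.1 (congrArg AddMonoidAlgebra.coeff h.symm) with ⟨h1, h2⟩ | ⟨-, h2⟩
    · exact ⟨h2, by simpa using congrArg Prod.fst h1⟩
    · exact absurd h2 one_ne_zero
  have hl : r * c ^ i = 1 ∧ j = 1 := by
    have h := congrArg e (key L 1 y)
    rw [_root_.one_mul, Units.val_mul, map_mul, map_mul, hone', hpow y (0, 1) j hy, hy,
      e.apply_symm_apply, mul_left_comm, hmonoL] at h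
    simp only [mono, AddMonoidAlgebra.coe_algebraMap, Function.comp_apply, Algebra.algebraMap_self,
      RingHom.id_apply, AddMonoidAlgebra.single_mul_single, zero_add] at h
    rcases Finsupp.single_eq_single_iff _ _ _ _ |>.1 (congrArg AddMonoidAlgebra.coeff h.symm) with ⟨h1, h2⟩ | ⟨-, h2⟩
    · exact ⟨by rwa [_root_.mul_comm], by simpa using congrArg Prod.snd h1⟩
    · exact absurd h2 one_ne_zero
  obtain ⟨hrc, rfl⟩ := hr
  obtain ⟨-, rfl⟩ := hl
  rw [zpow_one] at hrc
  rw [key W a b, hone, mul_right_comm, ← map_mul, hrc, map_one, _root_.one_mul]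
  simp

end Groth.Agent.H81.TorusLaw
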